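import Mathlib
import Groth.Agent.S9634
import Groth.Agent.Lib.Helper1.GeomRed

/-!
# The reduced subgroup over a perfect field (helper9)
-/

set_option autoImplicit false
set_option linter.unusedSectionVars false

universe u v

open TensorProduct

namespace Groth.Agent.H9.FinHopf

section Perfect

variable (k : Type u) [Field k] [PerfectField k]

/-- over a perfect field, base change of a reduced algebra to any field is reduced -/
theorem isReduced_field_tensor_of_perfectField (K S : Type u) [Field K] [Algebra k K] [CommRing S]
    [Algebra k S] [IsReduced S] : IsReduced (K ⊗[k] S) := by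
  have h := (Groth.Agent.S9634.result (k := k) (S := S)).out 0 2
  refine h.mp ?_ K
  intro k' _ _ _ _
  have hsep : Algebra.IsSeparable k k' := Algebra.IsAlgebraic.isSeparable_of_perfectField
  have hsurj : Function.Surjective (algebraMap k k') :=
    IsPurelyInseparable.surjective_algebraMap_of_isSeparable k k'
  let e : k ≃ₐ[k] k' := AlgEquiv.ofBijective (Algebra.ofId k k')
    ⟨(algebraMap k k').injective, hsurj⟩
  let f : k' ⊗[k] S ≃ₐ[k] S :=
    (Algebra.TensorProduct.congr e.symm (AlgEquiv.refl : S ≃ₐ[k] S)).trans
      (Algebra.TensorProduct.lid k S)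
  exact isReduced_of_injective f.toRingHom f.injective

/-- over a perfect field, the tensor product of reduced algebras is reduced -/
theorem isReduced_tensor_of_perfectField (R S : Type u) [CommRing R] [Algebra k R] [CommRing S]
    [Algebra k S] [IsReduced R] [IsReduced S] : IsReduced (R ⊗[k] S) := by
  refine Groth.Agent.H1.GeomRed.isReduced_tensor_of_forall_prime fun p _ => ?_
  exact isReduced_field_tensor_of_perfectField k p.ResidueField S

/-- over a perfect field the nilradical of a commutative Hopf algebra is a Hopf ideal -/
theorem isHopfIdeal_nilradical (A : Type u) [CommRing A] [HopfAlgebra k A] :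
    (nilradical A).IsHopfIdeal k := by
  set J := nilradical A with hJ
  have hredQ : IsReduced (A ⧸ J) := by
    have : J.IsRadical := by
      rw [hJ]
      exact Ideal.radical_isRadical _
    exact (Ideal.isRadical_iff_quotient_reduced J).mp this
  have hredT : IsReduced ((A ⧸ J) ⊗[k] (A ⧸ J)) := isReduced_tensor_of_perfectField k _ _
  let F : A →ₐ[k] (A ⧸ J) ⊗[k] (A ⧸ J) :=
    (Algebra.TensorProduct.map (Ideal.Quotient.mkₐ k J) (Ideal.Quotient.mkₐ k J)).comp
      (Bialgebra.comulAlgHom k A)
  have h1 : ∀ x ∈ J, CoalgebraStruct.counit (R := k) x = 0 := by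
    intro x hx
    have hn : IsNilpotent x := mem_nilradical.mp hx
    exact (hn.map (Bialgebra.counitAlgHom k A)).eq_zero
  have h3 : ∀ x ∈ J, F x = 0 := by
    intro x hx
    have hn : IsNilpotent x := mem_nilradical.mp hx
    exact (hn.map F).eq_zero
  have h5 : ∀ x ∈ J, HopfAlgebraStruct.antipode (R := k) x ∈ J := by
    intro x hx
    have hn : IsNilpotent x := mem_nilradical.mp hx
    exact mem_nilradical.mpr (hn.map (HopfAlgebra.antipodeAlgHom k A))
  exact { counit_eq_zero := fun x hx => h1 x hx
          map_mkQ_comul_eq_zero := fun x hx => h3 x hx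
          antipode_mem := fun x hx => h5 x hx }

end Perfect

end Groth.Agent.H9.FinHopf
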