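import Mathlib
import Groth.Agent.Lib.Helper9.CotGr.Cartier
import Groth.Agent.Lib.Helper9.EtaleUnip

/-!
# Frobenius kernels of finite group schemes and reducedness (helper9)
-/

set_option autoImplicit false
set_option linter.unusedSectionVars false

universe u v

open TensorProduct WithConv

namespace Groth.Agent.H9.FinHopf

open Groth.Agent.H9

section Gelfand

variable (K : Type u) [Field K] [IsAlgClosed K] (B : Type v) [CommRing B] [Algebra K B]
  [Module.Finite K B] [IsReduced B]

/-- evaluation at all points -/
noncomputable def evPts : B →ₐ[K] ((B →ₐ[K] K) → K) :=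
  AlgHom.pi (fun χ : (B →ₐ[K] K) => χ)

lemma evPts_apply (b : B) (χ : B →ₐ[K] K) : evPts K B b χ = χ b := rfl

lemma evPts_bijective : Function.Bijective (evPts K B) := by
  have hfin : Finite (B →ₐ[K] K) := EtaleUnip.finite_points
  have : Fintype (B →ₐ[K] K) := Fintype.ofFinite _
  have hinj : Function.Injective (evPts K B) := by
    rw [injective_iff_map_eq_zero]
    intro b hb
    apply CocommDiag.eq_zero_of_forall_point (k := K) b
    intro χ
    exact congrFun hb χ
  have hdim : Module.finrank K B = Module.finrank K ((B →ₐ[K] K) → K) := by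
    rw [Module.finrank_pi, ← Nat.card_eq_fintype_card, EtaleUnip.card_points]
  refine ⟨hinj, ?_⟩
  exact (LinearMap.injective_iff_surjective_of_finrank_eq_finrank
    (f := (evPts K B).toLinearMap) hdim).mp hinj

/-- a reduced finite-dimensional algebra over an algebraically closed field is the algebra of
functions on its finite set of points -/
noncomputable def gelfand : B ≃ₐ[K] ((B →ₐ[K] K) → K) :=
  AlgEquiv.ofBijective (evPts K B) (evPts_bijective K B)

lemma gelfand_apply (b : B) (χ : B →ₐ[K] K) : gelfand K B b χ = χ b := rfl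

include K in
/-- every element is an `n`-th power (`n > 0`) -/
lemma exists_pow_eq {n : ℕ} (hn : 0 < n) (f : B) : ∃ g : B, g ^ n = f := by
  have hex : ∀ χ : B →ₐ[K] K, ∃ z : K, z ^ n = χ f := fun χ => IsAlgClosed.exists_pow_nat_eq _ hn
  choose r hr using hex
  refine ⟨(gelfand K B).symm r, ?_⟩
  apply (gelfand K B).injective
  rw [map_pow, AlgEquiv.apply_symm_apply]
  funext χ
  rw [Pi.pow_apply, hr, gelfand_apply]

end Gelfand

section Reduced

variable {k : Type u} [Field k] [IsAlgClosed k] {A : Type v} [CommRing A] [HopfAlgebra k A]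
  [Algebra.FiniteType k A]

/-- if nilpotent functions vanish near the identity then the Hopf algebra is reduced -/
theorem isReduced_of_vanishing
    (h : ∀ y : A, IsNilpotent y → ∃ s : A, CoalgebraStruct.counit (R := k) s = 1 ∧ s * y = 0) :
    IsReduced A := by
  constructor
  intro y hy
  by_contra hy0
  have hann : (Ideal.span {y}).annihilator ≠ ⊤ := by
    intro h
    have : (1 : A) ∈ (Ideal.span {y}).annihilator := by rw [h]; trivial
    rw [Submodule.mem_annihilator] at this
    have h2 := this y (Ideal.subset_span rfl)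
    rw [one_smul] at h2
    exact hy0 h2
  obtain ⟨m, hm, hle⟩ := Ideal.exists_le_maximal _ hann
  obtain ⟨g, hg⟩ := CocommDiag.exists_point_of_maximal (k := k) m
  have hny : IsNilpotent (CotGr.transl g y) := hy.map (CotGr.transl g)
  obtain ⟨s', hs'1, hs'y⟩ := h _ hny
  set s := CotGr.transl ((toConv g : WithConv (A →ₐ[k] k))⁻¹).ofConv s' with hs
  have h1 : CotGr.transl g s = s' := CotGr.transl_transl_inv g s'
  have h2 : s * y = 0 := by
    have h3 : CotGr.transl g (s * y) = 0 := by rw [map_mul, h1, hs'y]
    have h4 := congrArg (CotGr.transl ((toConv g : WithConv (A →ₐ[k] k))⁻¹).ofConv) h3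
    rw [CotGr.transl_inv_transl, map_zero] at h4
    exact h4
  have h3 : g s = 1 := by rw [← CotGr.counit_transl, h1, hs'1]
  have h4 : s ∈ (Ideal.span {y}).annihilator := by
    rw [Submodule.mem_annihilator]
    intro z hz
    rw [Ideal.mem_span_singleton'] at hz
    obtain ⟨w, rfl⟩ := hz
    rw [smul_eq_mul, mul_comm w y, ← mul_assoc, h2, zero_mul]
  have h5 : s ∈ m := hle h4
  rw [← hg, RingHom.mem_ker] at h5
  have h6 : g s = 0 := h5
  rw [h3] at h6
  exact one_ne_zero h6

/-- if the augmentation ideal is idempotent the Hopf algebra is reduced -/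
theorem isReduced_of_le_sq
    (h : RingHom.ker (Bialgebra.counitAlgHom k A) ≤ (RingHom.ker (Bialgebra.counitAlgHom k A)) ^ 2) :
    IsReduced A := by
  set I := RingHom.ker (Bialgebra.counitAlgHom k A) with hI
  have hnoeth : IsNoetherianRing A := Algebra.FiniteType.isNoetherianRing k A
  have hfg : (I : Submodule A A).FG := IsNoetherian.noetherian I
  obtain ⟨e, heI, he⟩ := Submodule.exists_mem_and_smul_eq_self_of_fg_of_le_smul I I hfg (by
    intro f hf
    have := h hf
    rw [pow_two] at this
    exact this)
  have hsurj : Function.Surjective (Bialgebra.counitAlgHom k A) :=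
    fun c => ⟨algebraMap k A c, by simp⟩
  have hImax : I.IsMaximal := RingHom.ker_isMaximal_of_surjective _ hsurj
  apply isReduced_of_vanishing (k := k)
  intro y hy
  have hyI : y ∈ I := by
    obtain ⟨n, hn⟩ := hy
    apply hImax.isPrime.mem_of_pow_mem n
    rw [hn]
    exact zero_mem _
  refine ⟨1 - e, ?_, ?_⟩
  · have he0 : (Bialgebra.counitAlgHom k A) e = 0 := (RingHom.mem_ker).mp heI
    have he0' : CoalgebraStruct.counit (R := k) e = 0 := he0
    rw [map_sub, Bialgebra.counit_one, he0', sub_zero]
  · have := he y hyI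
    rw [smul_eq_mul] at this
    rw [sub_mul, one_mul, this, sub_self]

end Reduced

section Main

variable (k : Type u) [Field k] [IsAlgClosed k] (p : ℕ) [hp : Fact p.Prime] [CharP k p]
  (A : Type v) [CommRing A] [HopfAlgebra k A] [Module.Finite k A]

/-- the `n`-th Frobenius kernel is trivial iff the group is reduced -/
theorem frobKer_trivial_iff (n : ℕ) (hn : 1 ≤ n) :
    Ideal.span ((fun f : A => f ^ p ^ n) '' (RingHom.ker (Bialgebra.counitAlgHom k A) : Set A)) =
      RingHom.ker (Bialgebra.counitAlgHom k A) ↔ IsReduced A := by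
  set I := RingHom.ker (Bialgebra.counitAlgHom k A) with hI
  have hle : Ideal.span ((fun f : A => f ^ p ^ n) '' (I : Set A)) ≤ I := by
    apply Ideal.span_le.mpr
    rintro _ ⟨f, hf, rfl⟩
    exact Ideal.pow_mem_of_mem I hf _ (pow_pos hp.out.pos n)
  have h2 : 2 ≤ p ^ n := by
    calc 2 ≤ p := hp.out.two_le
      _ = p ^ 1 := (pow_one p).symm
      _ ≤ p ^ n := Nat.pow_le_pow_right hp.out.pos hn
  constructor
  · intro h
    have hft : Algebra.FiniteType k A := inferInstance
    apply isReduced_of_le_sq (k := k)
    rw [← hI]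
    nth_rewrite 1 [← h]
    apply Ideal.span_le.mpr
    rintro _ ⟨f, hf, rfl⟩
    exact Ideal.pow_le_pow_right h2 (Ideal.pow_mem_pow hf _)
  · intro hred
    apply le_antisymm hle
    intro f hf
    obtain ⟨g, hg⟩ := exists_pow_eq k A (pow_pos hp.out.pos n) f
    apply Ideal.subset_span
    refine ⟨g, ?_, hg⟩
    rw [SetLike.mem_coe, hI, RingHom.mem_ker]
    have h1 : (Bialgebra.counitAlgHom k A) f = 0 := (RingHom.mem_ker).mp hf
    rw [← hg, map_pow] at h1
    exact eq_zero_of_pow_eq_zero h1

end Main

end Groth.Agent.H9.FinHopf
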