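import Mathlib
import Groth.Agent.Lib.Helper9.FinHopf.FrobKer

/-!
# Counting points and components of a finite group scheme (helper9)

For a finite-dimensional commutative Hopf algebra `A` over an algebraically closed field,
`dim A = #G(k) * dim A / I^N` for `N` large, `I` the augmentation ideal.  Consequently, if `dim A`
is prime then `A` is local or reduced.
-/

set_option autoImplicit false
set_option linter.unusedSectionVars false

universe u v

open TensorProduct WithConv

namespace Groth.Agent.H9.FinHopf

open Groth.Agent.H9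

section Transl

variable {k : Type u} [Field k] {A : Type v} [CommRing A] [HopfAlgebra k A]

/-- translation by a point as an algebra automorphism -/
noncomputable def translEquiv (g : A →ₐ[k] k) : A ≃ₐ[k] A :=
  AlgEquiv.ofAlgHom (CotGr.transl g)
    (CotGr.transl ((toConv g : WithConv (A →ₐ[k] k))⁻¹).ofConv)
    (by ext a; exact CotGr.transl_transl_inv g a)
    (by ext a; exact CotGr.transl_inv_transl g a)

lemma translEquiv_apply (g : A →ₐ[k] k) (a : A) : translEquiv g a = CotGr.transl g a := rfl

lemma map_translEquiv_ker (g : A →ₐ[k] k) :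
    (RingHom.ker (g : A →+* k)).map ((translEquiv g : A ≃ₐ[k] A) : A →+* A) =
      RingHom.ker (Bialgebra.counitAlgHom k A) := by
  have h1 : RingHom.ker (g : A →+* k) =
      (RingHom.ker (Bialgebra.counitAlgHom k A)).comap ((translEquiv g : A ≃ₐ[k] A) : A →+* A) := by
    ext a
    rw [Ideal.mem_comap, RingHom.mem_ker, RingHom.mem_ker]
    show g a = 0 ↔ CoalgebraStruct.counit (R := k) (CotGr.transl g a) = 0
    rw [CotGr.counit_transl]
  rw [h1]
  exact Ideal.map_comap_of_surjective ((translEquiv g : A ≃ₐ[k] A) : A →+* A)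
    (translEquiv g).surjective _

/-- all infinitesimal neighbourhoods of points have the same dimension -/
lemma finrank_quotient_ker_pow (g : A →ₐ[k] k) (N : ℕ) :
    Module.finrank k (A ⧸ (RingHom.ker (g : A →+* k)) ^ N) =
      Module.finrank k (A ⧸ (RingHom.ker (Bialgebra.counitAlgHom k A)) ^ N) := by
  have h : (RingHom.ker (Bialgebra.counitAlgHom k A)) ^ N =
      ((RingHom.ker (g : A →+* k)) ^ N).map ((translEquiv g : A ≃ₐ[k] A) : A →+* A) := by
    rw [Ideal.map_pow, map_translEquiv_ker]
  exact (Ideal.quotientEquivAlg _ _ (translEquiv g) h).toLinearEquiv.finrank_eq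

end Transl

section Count

variable {k : Type u} [Field k] [IsAlgClosed k] {A : Type v} [CommRing A] [HopfAlgebra k A]
  [Module.Finite k A]

omit [HopfAlgebra k A] in
/-- functions vanishing at all points are nilpotent -/
lemma mem_nilradical_of_forall_point [Algebra k A] [Module.Finite k A] {a : A}
    (h : ∀ χ : A →ₐ[k] k, χ a = 0) : a ∈ nilradical A := by
  have hJ : IsJacobsonRing A := isJacobsonRing_of_finiteType (A := k) (B := A)
  have hrad : (nilradical A).IsRadical := Ideal.radical_isRadical _
  have hjac := hJ.out hrad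
  rw [← hjac, Ideal.jacobson, Ideal.mem_sInf]
  rintro m ⟨-, hm⟩
  obtain ⟨χ, hχ⟩ := CocommDiag.exists_point_of_maximal (k := k) m
  rw [← hχ, RingHom.mem_ker]
  exact h χ

omit [HopfAlgebra k A] in
lemma ker_ne_of_ne [Algebra k A] {χ χ' : A →ₐ[k] k} (h : χ ≠ χ') :
    RingHom.ker (χ : A →+* k) ≠ RingHom.ker (χ' : A →+* k) := by
  intro hker
  apply h
  apply AlgHom.ext
  intro a
  have h1 : a - algebraMap k A (χ a) ∈ RingHom.ker (χ : A →+* k) := by
    rw [RingHom.mem_ker, map_sub]
    show χ a - χ (algebraMap k A (χ a)) = 0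
    rw [AlgHom.commutes]
    exact sub_self _
  rw [hker, RingHom.mem_ker, map_sub] at h1
  have h2 : χ' a - χ' (algebraMap k A (χ a)) = 0 := h1
  rw [AlgHom.commutes, sub_eq_zero] at h2
  exact h2.symm

/-- `dim A = #G(k) · dim A/I^N` for `N` large -/
theorem finrank_eq_card_mul (N : ℕ) (hN : (nilradical A) ^ N = ⊥) :
    Module.finrank k A = Nat.card (A →ₐ[k] k) *
      Module.finrank k (A ⧸ (RingHom.ker (Bialgebra.counitAlgHom k A)) ^ N) := by
  classical
  have hfin : Finite (A →ₐ[k] k) := EtaleUnip.finite_points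
  have : Fintype (A →ₐ[k] k) := Fintype.ofFinite _
  let J : (A →ₐ[k] k) → Ideal A := fun χ => (RingHom.ker (χ : A →+* k)) ^ N
  have hsurjχ : ∀ χ : A →ₐ[k] k, Function.Surjective (χ : A →+* k) :=
    fun χ c => ⟨algebraMap k A c, χ.commutes c⟩
  have hmax : ∀ χ : A →ₐ[k] k, (RingHom.ker (χ : A →+* k)).IsMaximal :=
    fun χ => RingHom.ker_isMaximal_of_surjective _ (hsurjχ χ)
  have hcop : Pairwise (Function.onFun IsCoprime J) := by
    intro χ χ' hne
    have := hmax χ
    have := hmax χ'
    exact (Ideal.isCoprime_of_isMaximal (ker_ne_of_ne hne)).pow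
  let φ : A →ₗ[k] (∀ χ : A →ₐ[k] k, A ⧸ J χ) :=
    LinearMap.pi fun χ => (Ideal.Quotient.mkₐ k (J χ)).toLinearMap
  have hφsurj : Function.Surjective φ := by
    intro x
    obtain ⟨r, hr⟩ := Ideal.pi_quotient_surjective hcop x
    exact ⟨r, funext hr⟩
  have hφinj : Function.Injective φ := by
    rw [← LinearMap.ker_eq_bot, LinearMap.ker_eq_bot']
    intro a ha
    have h1 : ∀ χ, a ∈ J χ := by
      intro χ
      have := congrFun ha χ
      exact Ideal.Quotient.eq_zero_iff_mem.mp this
    have h2 : a ∈ ⨅ χ ∈ (Finset.univ : Finset (A →ₐ[k] k)), J χ := by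
      rw [Ideal.mem_iInf]
      intro χ
      rw [Ideal.mem_iInf]
      intro _
      exact h1 χ
    rw [← Ideal.prod_eq_iInf_of_pairwise_isCoprime (fun χ _ χ' _ hne => hcop hne)] at h2
    have h3 : ∏ χ ∈ (Finset.univ : Finset (A →ₐ[k] k)), J χ =
        (∏ χ ∈ (Finset.univ : Finset (A →ₐ[k] k)), RingHom.ker (χ : A →+* k)) ^ N :=
      Finset.prod_pow _ _ _
    rw [h3] at h2
    have h4 : ∏ χ ∈ (Finset.univ : Finset (A →ₐ[k] k)), RingHom.ker (χ : A →+* k) ≤
        nilradical A := by
      intro b hb
      apply mem_nilradical_of_forall_point (k := k)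
      intro χ
      have h5 := Ideal.prod_le_inf hb
      rw [Finset.inf_eq_iInf, Ideal.mem_iInf] at h5
      have h6 := h5 χ
      rw [Ideal.mem_iInf] at h6
      exact (RingHom.mem_ker).mp (h6 (Finset.mem_univ χ))
    have h5 := Ideal.pow_right_mono h4 N h2
    rw [hN, Ideal.mem_bot] at h5
    exact h5
  have e := LinearEquiv.ofBijective φ ⟨hφinj, hφsurj⟩
  rw [e.finrank_eq, Module.finrank_pi_fintype, Finset.sum_congr rfl
    (fun χ _ => finrank_quotient_ker_pow χ N), Finset.sum_const, Finset.card_univ,
    smul_eq_mul, Nat.card_eq_fintype_card]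

/-- a finite group scheme of prime order is connected or étale -/
theorem isLocalRing_or_isReduced_of_prime (hp : (Module.finrank k A).Prime) :
    IsLocalRing A ∨ IsReduced A := by
  have hart : IsArtinianRing A := IsArtinianRing.of_finite k A
  have hnoeth : IsNoetherianRing A := inferInstance
  obtain ⟨N0, hN0⟩ := IsNoetherianRing.isNilpotent_nilradical A
  set N := N0 + 2 with hNdef
  have hN : (nilradical A) ^ N = ⊥ := by
    rw [hNdef, pow_add, hN0, Ideal.zero_eq_bot, Ideal.bot_mul]
  have hcount := finrank_eq_card_mul (k := k) (A := A) N hN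
  set I := RingHom.ker (Bialgebra.counitAlgHom k A) with hI
  rw [hcount] at hp
  rcases (Nat.prime_mul_iff.mp hp) with ⟨_, h1⟩ | ⟨_, h1⟩
  · -- `dim A/I^N = 1`, hence `I = I^N ≤ I^2`
    right
    apply isReduced_of_le_sq (k := k)
    rw [← hI]
    have hle : I ^ N ≤ I := Ideal.pow_le_self (by omega)
    have hsurj : Function.Surjective (Bialgebra.counitAlgHom k A).toLinearMap :=
      fun c => ⟨algebraMap k A c, by simp⟩
    have e := LinearMap.quotKerEquivOfSurjective (Bialgebra.counitAlgHom k A).toLinearMap hsurj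
    have h2 : Module.finrank k (A ⧸ I) = 1 := by
      have h3 : Module.finrank k
          (A ⧸ LinearMap.ker (Bialgebra.counitAlgHom k A).toLinearMap) = 1 := by
        rw [e.finrank_eq, Module.finrank_self]
      exact h3
    have h4 := Submodule.finrank_quotient_add_finrank ((I ^ N).restrictScalars k)
    have h5 := Submodule.finrank_quotient_add_finrank (I.restrictScalars k)
    have h6 : Module.finrank k (A ⧸ (I ^ N).restrictScalars k) = 1 := h1
    have h7 : Module.finrank k (A ⧸ I.restrictScalars k) = 1 := h2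
    have h8 : Module.finrank k ((I ^ N).restrictScalars k) =
        Module.finrank k (I.restrictScalars k) := by omega
    have h9 : (I ^ N).restrictScalars k = I.restrictScalars k :=
      Submodule.eq_of_le_of_finrank_eq (fun x hx => hle hx) h8
    intro f hf
    have h10 : f ∈ (I ^ N).restrictScalars k := by rw [h9]; exact hf
    exact Ideal.pow_le_pow_right (by omega) h10
  · -- one point: local
    left
    have hfin : Finite (A →ₐ[k] k) := EtaleUnip.finite_points
    have hsub : Subsingleton (A →ₐ[k] k) := (Nat.card_eq_one_iff_unique.mp h1).1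
    apply IsLocalRing.of_unique_max_ideal
    have hsurj : Function.Surjective (Bialgebra.counitAlgHom k A) :=
      fun c => ⟨algebraMap k A c, by simp⟩
    have hImax : I.IsMaximal := RingHom.ker_isMaximal_of_surjective _ hsurj
    refine ⟨I, hImax, ?_⟩
    intro m hm
    obtain ⟨χ, hχ⟩ := CocommDiag.exists_point_of_maximal (k := k) m
    rw [← hχ, Subsingleton.elim χ (Bialgebra.counitAlgHom k A)]

end Count

end Groth.Agent.H9.FinHopf
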