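import Mathlib
import Groth.Prelude.Def_CartDual
import Groth.Agent.Lib.Helper9.EtaleUnip

/-!
# The Cartier dual of an étale `p`-group scheme in characteristic `p` is infinitesimal (helper9)
-/

set_option autoImplicit false
set_option linter.unusedSectionVars false

universe u v w

open TensorProduct WithConv

namespace Groth.Agent.H9.FinHopf

open Groth.Agent.H9

section Count

variable (k : Type u) [Field k] (A : Type v) [CommRing A] [Algebra k A] [Module.Finite k A]
  [Algebra.Etale k A] (Ω : Type w) [Field Ω] [Algebra k Ω] [IsAlgClosed Ω]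

/-- an étale algebra of dimension `n` has `n` geometric points -/
theorem card_algHom_of_etale : Nat.card (A →ₐ[k] Ω) = Module.finrank k A := by
  have hred : IsReduced (Ω ⊗[k] A) := Algebra.FormallyUnramified.isReduced_of_field Ω (Ω ⊗[k] A)
  have h1 := EtaleUnip.card_points (K := Ω) (B := Ω ⊗[k] A)
  rw [Module.finrank_baseChange] at h1
  rw [← h1]
  exact Nat.card_congr (AlgHom.liftEquiv k Ω A Ω)

end Count

section PointsGroup

variable (k : Type u) [Field k] (A : Type v) [CommRing A] [HopfAlgebra k A]
  (Ω : Type w) [CommRing Ω] [Algebra k Ω]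

/-- the group of points with values in an arbitrary commutative algebra -/
@[instance_reducible]
noncomputable def pointsGroup : Group (WithConv (A →ₐ[k] Ω)) :=
  { (inferInstance : Monoid (WithConv (A →ₐ[k] Ω))) with
    inv := fun f => toConv (f.ofConv.comp (HopfAlgebra.antipodeAlgHom k A))
    inv_mul_cancel := by
      intro f
      apply WithConv.ofConv_injective
      apply AlgHom.toLinearMap_injective
      apply WithConv.toConv_injective
      rw [AlgHom.toLinearMap_convMul, AlgHom.toLinearMap_convOne]
      have h1 := LinearMap.algHom_comp_convMul_distrib f.ofConv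
        (toConv (HopfAlgebraStruct.antipode k (A := A))) (toConv (LinearMap.id (R := k) (M := A)))
      rw [LinearMap.antipode_mul_id, ofConv_toConv, ofConv_toConv, LinearMap.comp_id] at h1
      apply WithConv.ofConv_injective
      refine Eq.trans ?_ (h1.symm.trans ?_)
      · rfl
      · apply LinearMap.ext
        intro a
        simp }

end PointsGroup

section Main

variable (p : ℕ) [hp : Fact p.Prime] (k : Type u) [Field k] [CharP k p]
  (A : Type v) [CommRing A] [HopfAlgebra k A] [Coalgebra.IsCocomm k A] [Module.Finite k A]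
  [Algebra.Etale k A]

/-- in the convolution algebra with values in an algebraic closure, `q`-th powers are scalars,
`q` the order -/
theorem conv_pow_card (Ω : Type w) [Field Ω] [Algebra k Ω] [IsAlgClosed Ω] (n : ℕ)
    (hA : Module.finrank k A = p ^ n) (f : WithConv (A →ₗ[k] Ω)) :
    f ^ p ^ n = (f.ofConv 1) ^ p ^ n • (1 : WithConv (A →ₗ[k] Ω)) := by
  classical
  have hcharΩ : CharP Ω p := charP_of_injective_algebraMap (algebraMap k Ω).injective p
  have hntD : Nontrivial (WithConv (A →ₗ[k] Ω)) := by
    refine ⟨⟨0, 1, fun h01 => ?_⟩⟩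
    have := congrArg (fun g : WithConv (A →ₗ[k] Ω) => g.ofConv 1) h01
    simp at this
  have hcharD : CharP (WithConv (A →ₗ[k] Ω)) p :=
    charP_of_injective_algebraMap (algebraMap Ω (WithConv (A →ₗ[k] Ω))).injective p
  have hcard : Nat.card (A →ₐ[k] Ω) = p ^ n := by rw [card_algHom_of_etale, hA]
  have hfinG : Finite (A →ₐ[k] Ω) := Nat.finite_of_card_ne_zero (by
    rw [hcard]; exact pow_ne_zero n hp.out.ne_zero)
  have hfintype : Fintype (A →ₐ[k] Ω) := Fintype.ofFinite _
  have hli := linearIndependent_algHom_toLinearMap k A Ω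
  have hspan : Submodule.span Ω (Set.range (AlgHom.toLinearMap : (A →ₐ[k] Ω) → A →ₗ[k] Ω)) = ⊤ := by
    apply hli.span_eq_top_of_card_eq_finrank'
    rw [Module.finrank_linearMap_self, ← Nat.card_eq_fintype_card, hcard, hA]
  have key : ∀ g : A →ₗ[k] Ω, (toConv g) ^ p ^ n =
      (g 1) ^ p ^ n • (1 : WithConv (A →ₗ[k] Ω)) := by
    intro g
    have hg : g ∈ Submodule.span Ω (Set.range (AlgHom.toLinearMap : (A →ₐ[k] Ω) → A →ₗ[k] Ω)) := by
      rw [hspan]; trivial
    induction hg using Submodule.span_induction with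
    | mem g hg =>
      obtain ⟨χ, rfl⟩ := hg
      have h1 : (toConv χ : WithConv (A →ₐ[k] Ω)) ^ p ^ n = 1 := by
        let _ : Group (WithConv (A →ₐ[k] Ω)) := pointsGroup k A Ω
        have hfin' : Finite (WithConv (A →ₐ[k] Ω)) :=
          Finite.of_equiv (A →ₐ[k] Ω) (WithConv.equiv _).symm
        have hc : Nat.card (WithConv (A →ₐ[k] Ω)) = p ^ n := by
          rw [← hcard]
          exact Nat.card_congr (WithConv.equiv _)
        rw [← hc]
        exact pow_card_eq_one' (G := WithConv (A →ₐ[k] Ω))
      have h2 := congrArg (fun u : WithConv (A →ₐ[k] Ω) => toConv u.ofConv.toLinearMap) h1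
      simp only [AlgHom.toLinearMap_convPow, AlgHom.toLinearMap_convOne] at h2
      rw [h2]
      show _ = (χ 1) ^ p ^ n • (1 : WithConv (A →ₗ[k] Ω))
      rw [map_one, one_pow, one_smul]
    | zero =>
      show (0 : WithConv (A →ₗ[k] Ω)) ^ p ^ n = _
      rw [zero_pow (pow_ne_zero n hp.out.ne_zero), LinearMap.zero_apply,
        zero_pow (pow_ne_zero n hp.out.ne_zero), zero_smul]
    | add g g' _ _ hg hg' =>
      show (toConv g + toConv g') ^ p ^ n = _
      rw [add_pow_char_pow, hg, hg', LinearMap.add_apply, add_pow_char_pow, add_smul]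
    | smul ω g _ hg =>
      show (ω • toConv g) ^ p ^ n = _
      rw [smul_pow, hg, LinearMap.smul_apply, smul_eq_mul, mul_pow, smul_smul]
  exact key f.ofConv

/-- **the dual of an étale `p`-group scheme is local** -/
theorem isLocalRing_cartDual (n : ℕ) (hA : Module.finrank k A = p ^ n) :
    IsLocalRing (CartDual.D k A) := by
  let Ω := AlgebraicClosure k
  let β : CartDual.D k A → WithConv (A →ₗ[k] Ω) := fun φ =>
    toConv ((Algebra.ofId k Ω).toLinearMap ∘ₗ φ.ofConv)
  have hβmul : ∀ φ ψ : CartDual.D k A, β (φ * ψ) = β φ * β ψ := by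
    intro φ ψ
    apply WithConv.ofConv_injective
    exact LinearMap.algHom_comp_convMul_distrib (Algebra.ofId k Ω) φ ψ
  have hβone : β 1 = 1 := by
    apply WithConv.ofConv_injective
    apply LinearMap.ext
    intro a
    show algebraMap k Ω (algebraMap k k (CoalgebraStruct.counit (R := k) a)) =
      algebraMap k Ω (CoalgebraStruct.counit (R := k) a)
    rfl
  have hβpow : ∀ (φ : CartDual.D k A) (m : ℕ), β (φ ^ m) = β φ ^ m := by
    intro φ m
    induction m with
    | zero => rw [pow_zero, pow_zero, hβone]
    | succ m ih => rw [pow_succ, pow_succ, hβmul, ih]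
  have hβinj : ∀ φ : CartDual.D k A, β φ = 0 → φ = 0 := by
    intro φ hφ
    apply WithConv.ofConv_injective
    apply LinearMap.ext
    intro a
    have h1 := congrArg (fun g : WithConv (A →ₗ[k] Ω) => g.ofConv a) hφ
    have h2 : algebraMap k Ω (φ.ofConv a) = 0 := h1
    exact (map_eq_zero (algebraMap k Ω)).mp h2
  have hnil : ∀ φ : CartDual.D k A, φ.ofConv 1 = 0 → IsNilpotent φ := by
    intro φ hφ
    refine ⟨p ^ n, ?_⟩
    apply hβinj
    rw [hβpow, conv_pow_card p k A Ω n hA]
    have h1 : (β φ).ofConv 1 = algebraMap k Ω (φ.ofConv 1) := rfl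
    rw [h1, hφ, map_zero, zero_pow (pow_ne_zero n hp.out.ne_zero), zero_smul]
  have hnt : Nontrivial (CartDual.D k A) := by
    refine ⟨⟨0, 1, fun h01 => ?_⟩⟩
    have := congrArg (fun g : CartDual.D k A => g.ofConv 1) h01
    simp at this
  apply IsLocalRing.of_isUnit_or_isUnit_one_sub_self
  intro a
  by_cases h0 : a.ofConv 1 = 0
  · right
    exact (hnil a h0).isUnit_one_sub
  · left
    have h1 : IsNilpotent (a - algebraMap k (CartDual.D k A) (a.ofConv 1)) := by
      apply hnil
      show a.ofConv 1 - (algebraMap k (CartDual.D k A) (a.ofConv 1)).ofConv 1 = 0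
      rw [LinearMap.convAlgebraMap_apply]
      simp
    have h2 : IsUnit (algebraMap k (CartDual.D k A) (a.ofConv 1)) :=
      (IsUnit.mk0 _ h0).map (algebraMap k (CartDual.D k A))
    have h3 := h1.isUnit_add_left_of_commute h2 (Algebra.commutes _ _).symm
    rwa [add_sub_cancel] at h3

end Main

end Groth.Agent.H9.FinHopf
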