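import Mathlib
import Groth.Agent.Lib.Helper9.CotGr.Hopf

/-!
# Hopf algebras of height one have dimension `p ^ r` (helper9)
-/

set_option autoImplicit false
set_option linter.unusedSectionVars false

universe u v

open MvPolynomial

namespace Groth.Agent.H9.FinHopf

open Groth.Agent.H9.UnipLie Groth.Agent.H9.CotGr

section Abstract

variable {k : Type u} [Field k] (p : ℕ) [hp : Fact p.Prime] [CharP k p]
  {A : Type v} [CommRing A] [Algebra k A] {r : ℕ}

/-- a polynomial all of whose exponents are `< p` -/
def Restricted (P : MvPolynomial (Fin r) k) : Prop := ∀ d ∈ P.support, ∀ i, d i < p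

variable {p}

omit hp [CharP k p] in
lemma Restricted.pderiv {P : MvPolynomial (Fin r) k} (hP : Restricted p P) (i : Fin r) :
    Restricted p (pderiv i P) := by
  intro d hd j
  rw [MvPolynomial.mem_support_iff, coeff_pderiv] at hd
  have h1 : coeff (d + Finsupp.single i 1) P ≠ 0 := left_ne_zero_of_mul hd
  have h2 := hP _ (MvPolynomial.mem_support_iff.mpr h1) j
  rw [Finsupp.add_apply] at h2
  omega

omit hp [CharP k p] in
lemma Restricted.homogeneousComponent {P : MvPolynomial (Fin r) k} (hP : Restricted p P) (m : ℕ) :
    Restricted p (homogeneousComponent m P) := by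
  intro d hd j
  rw [MvPolynomial.mem_support_iff, coeff_homogeneousComponent] at hd
  split_ifs at hd with h
  · exact hP d (MvPolynomial.mem_support_iff.mpr hd) j
  · exact absurd rfl hd

omit hp in
/-- a restricted homogeneous polynomial all of whose partial derivatives vanish is zero -/
lemma restricted_eq_zero_of_pderiv_eq_zero {m : ℕ}
    {P : MvPolynomial (Fin r) k} (hP : P.IsHomogeneous (m + 1)) (hR : Restricted p P)
    (h : ∀ i, MvPolynomial.pderiv i P = 0) : P = 0 := by
  classical
  ext d
  rw [coeff_zero]
  by_contra hne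
  have hd : d.degree = m + 1 := by
    by_contra hdeg
    exact hne (hP.coeff_eq_zero hdeg)
  have hex : ∃ i, d i ≠ 0 := by
    by_contra hcon
    rw [not_exists] at hcon
    have : d = 0 := Finsupp.ext fun i => not_not.mp (hcon i)
    rw [this] at hd
    simp [Finsupp.degree] at hd
  obtain ⟨i, hi⟩ := hex
  have h1 := congrArg (coeff (d - Finsupp.single i 1)) (h i)
  rw [coeff_pderiv, coeff_zero] at h1
  have h2 : d - Finsupp.single i 1 + Finsupp.single i 1 = d := by
    ext j
    by_cases hj : j = i
    · subst hj
      simp only [Finsupp.coe_add, Finsupp.coe_tsub, Pi.add_apply, Pi.sub_apply,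
        Finsupp.single_eq_same]
      omega
    · simp [Finsupp.single_eq_of_ne hj]
  rw [h2] at h1
  have h3 : ((((d - Finsupp.single i 1 : Fin r →₀ ℕ) i : ℕ) : k)) + 1 = ((d i : ℕ) : k) := by
    have : (d - Finsupp.single i 1 : Fin r →₀ ℕ) i + 1 = d i := by
      simp only [Finsupp.coe_tsub, Pi.sub_apply, Finsupp.single_eq_same]
      omega
    rw [← this]
    push_cast
    rfl
  rw [h3] at h1
  have hlt : d i < p := hR d (MvPolynomial.mem_support_iff.mpr hne) i
  have hne' : ((d i : ℕ) : k) ≠ 0 := by
    intro h0
    rw [CharP.cast_eq_zero_iff k p] at h0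
    exact absurd (Nat.le_of_dvd (Nat.pos_of_ne_zero hi) h0) (by omega)
  exact hne ((mul_eq_zero.mp h1).resolve_right hne')

variable (ε : A →ₐ[k] k) (x : Fin r → A) (hx : ∀ i, x i ∈ RingHom.ker ε)
  (D : Fin r → Derivation k A A)
  (hD : ∀ i j, D i (x j) - (if i = j then 1 else 0) ∈ RingHom.ker ε)

include hx hD in
/-- restricted monomials of degree `m` are independent modulo `I ^ (m + 1)` -/
theorem restricted_homog_eq_zero : ∀ (m : ℕ),
    ∀ P : MvPolynomial (Fin r) k, P.IsHomogeneous m → Restricted p P →
      aeval x P ∈ (RingHom.ker ε) ^ (m + 1) → P = 0 := by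
  intro m
  induction m with
  | zero =>
    intro P hP _ hmem
    rw [← totalDegree_zero_iff_isHomogeneous, totalDegree_eq_zero_iff_eq_C] at hP
    rw [hP, aeval_C, zero_add, pow_one, RingHom.mem_ker] at hmem
    have : ε (algebraMap k A (coeff 0 P)) = coeff 0 P := by
      rw [AlgHom.commutes]; rfl
    rw [this] at hmem
    rw [hP, hmem, map_zero]
  | succ m ih =>
    intro P hP hR hmem
    apply restricted_eq_zero_of_pderiv_eq_zero hP hR
    intro i
    apply ih _ (by simpa using hP.pderiv (i := i)) (hR.pderiv i)
    have h1 := derivation_mem_pow (D i) (RingHom.ker ε) (m + 1) _ hmem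
    rw [derivation_aeval] at h1
    have h2 : ∀ j, aeval x (MvPolynomial.pderiv j P) ∈ (RingHom.ker ε) ^ m := fun j =>
      aeval_mem_pow ε x hx (by simpa using hP.pderiv (i := j))
    have h3 : ∑ j, aeval x (MvPolynomial.pderiv j P) * (D i (x j) - (if i = j then 1 else 0)) ∈
        (RingHom.ker ε) ^ (m + 1) := by
      apply Ideal.sum_mem
      intro j _
      rw [pow_succ]
      exact Ideal.mul_mem_mul (h2 j) (hD i j)
    have h4 : aeval x (MvPolynomial.pderiv i P) =
        ∑ j, aeval x (MvPolynomial.pderiv j P) * D i (x j) -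
          ∑ j, aeval x (MvPolynomial.pderiv j P) * (D i (x j) - (if i = j then 1 else 0)) := by
      rw [← Finset.sum_sub_distrib]
      simp only [mul_sub, sub_sub_cancel, mul_ite, mul_one, mul_zero]
      rw [Finset.sum_ite_eq, if_pos (Finset.mem_univ i)]
    rw [h4]
    exact Ideal.sub_mem _ h1 h3

include hx hD in
/-- restricted monomials in the `x i` are linearly independent -/
theorem restricted_eq_zero (P : MvPolynomial (Fin r) k) (hR : Restricted p P)
    (h0 : aeval x P = 0) : P = 0 := by
  classical
  have key : ∀ m : ℕ, homogeneousComponent m P = 0 := by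
    intro m
    induction m using Nat.strong_induction_on with
    | _ m ih =>
      apply restricted_homog_eq_zero ε x hx D hD m _ (homogeneousComponent_isHomogeneous m P)
        (hR.homogeneousComponent m)
      have h1 := sum_homogeneousComponent P
      have h2 : aeval x (homogeneousComponent m P) =
          - ∑ i ∈ (Finset.range (P.totalDegree + 1)).erase m, aeval x (homogeneousComponent i P) := by
        by_cases hm : m ∈ Finset.range (P.totalDegree + 1)
        · rw [eq_neg_iff_add_eq_zero,
            Finset.add_sum_erase _ (fun i => aeval x (homogeneousComponent i P)) hm, ← map_sum, h1, h0]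
        · rw [Finset.erase_eq_of_notMem hm, ← map_sum, h1, h0, neg_zero]
          rw [Finset.mem_range, not_lt] at hm
          rw [homogeneousComponent_eq_zero m P (by omega), map_zero]
      rw [h2]
      apply Ideal.neg_mem_iff _ |>.mpr
      apply Ideal.sum_mem
      intro i hi
      rw [Finset.mem_erase] at hi
      rcases lt_or_gt_of_ne hi.1 with hlt | hgt
      · rw [ih i hlt, map_zero]
        exact zero_mem _
      · exact Ideal.pow_le_pow_right hgt
          (aeval_mem_pow ε x hx (homogeneousComponent_isHomogeneous i P))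
  rw [← sum_homogeneousComponent P]
  exact Finset.sum_eq_zero fun i _ => key i

variable (hspan : ∀ a ∈ RingHom.ker ε, ∃ c : Fin r → k, a - ∑ i, c i • x i ∈ (RingHom.ker ε) ^ 2)

include hx hspan in
/-- if the augmentation ideal is nilpotent, the `x i` generate `A` -/
theorem aeval_surjective (hnil : ∃ N : ℕ, (RingHom.ker ε) ^ N = ⊥) :
    Function.Surjective (aeval x : MvPolynomial (Fin r) k →ₐ[k] A) := by
  obtain ⟨N, hN⟩ := hnil
  have key : ∀ j m : ℕ, N ≤ m + j → ∀ y ∈ (RingHom.ker ε) ^ m,
      ∃ P : MvPolynomial (Fin r) k, aeval x P = y := by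
    intro j
    induction j with
    | zero =>
      intro m hm y hy
      have h1 : y ∈ (RingHom.ker ε) ^ N := Ideal.pow_le_pow_right hm hy
      rw [hN, Ideal.mem_bot] at h1
      exact ⟨0, by rw [map_zero, h1]⟩
    | succ j ih =>
      intro m hm y hy
      obtain ⟨P, -, hP⟩ := exists_homog_approx ε x hx hspan m y hy
      obtain ⟨Q, hQ⟩ := ih (m + 1) (by omega) _ hP
      exact ⟨P + Q, by rw [map_add, hQ]; ring⟩
  intro y
  exact key N 0 (by omega) y (by rw [pow_zero, Ideal.one_eq_top]; trivial)

/-- the restricted monomial attached to a function `Fin r → Fin p` -/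
noncomputable def rmon (α : Fin r → Fin p) : A := ∏ i, x i ^ (α i : ℕ)

include hx hD hspan in
/-- the dimension of an algebra generated by `r` coordinates with `p`-th powers zero and dual
derivations is `p ^ r` -/
theorem finrank_eq_pow (hnil : ∃ N : ℕ, (RingHom.ker ε) ^ N = ⊥) (hxp : ∀ i, x i ^ p = 0) :
    Module.finrank k A = p ^ r := by
  classical
  have hp0 : 0 < p := hp.out.pos
  let ι : (Fin r → Fin p) → (Fin r →₀ ℕ) := fun α =>
    Finsupp.equivFunOnFinite.symm (fun i => (α i : ℕ))
  have hι : Function.Injective ι := by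
    intro α β hαβ
    funext i
    have := DFunLike.congr_fun hαβ i
    exact Fin.ext this
  have hmon : ∀ α : Fin r → Fin p, rmon x α = aeval x (monomial (ι α) (1 : k)) := by
    intro α
    rw [aeval_monomial, map_one, one_mul, Finsupp.prod_fintype _ _ (fun i => pow_zero _)]
    rfl
  have hli : LinearIndependent k (rmon (p := p) x) := by
    rw [Fintype.linearIndependent_iff]
    intro g hg
    set P : MvPolynomial (Fin r) k := ∑ α, monomial (ι α) (g α) with hPdef
    have hPR : Restricted p P := by
      intro d hd i
      have h1 := MvPolynomial.support_sum (s := Finset.univ)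
        (f := fun α => monomial (ι α) (g α)) hd
      rw [Finset.mem_biUnion] at h1
      obtain ⟨α, -, hα⟩ := h1
      have h2 := MvPolynomial.support_monomial_subset hα
      rw [Finset.mem_singleton] at h2
      rw [h2]
      exact (α i).2
    have hP0 : aeval x P = 0 := by
      rw [hPdef, map_sum, ← hg]
      refine Finset.sum_congr rfl fun α _ => ?_
      rw [hmon, ← map_smul, smul_monomial, smul_eq_mul, mul_one]
    have hPz := restricted_eq_zero ε x hx D hD P hPR hP0
    intro α
    have h1 := congrArg (coeff (ι α)) hPz
    rw [hPdef, coeff_sum, coeff_zero, Finset.sum_eq_single α] at h1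
    · rw [coeff_monomial, if_pos rfl] at h1
      exact h1
    · intro β _ hβ
      rw [coeff_monomial, if_neg (fun h => hβ (hι h))]
    · intro h; exact absurd (Finset.mem_univ α) h
  have hsp : ⊤ ≤ Submodule.span k (Set.range (rmon (p := p) x)) := by
    intro y _
    obtain ⟨P, rfl⟩ := aeval_surjective ε x hx hspan hnil y
    rw [P.as_sum, map_sum]
    apply Submodule.sum_mem
    intro d _
    by_cases hd : ∀ i, d i < p
    · have h1 : monomial d (coeff d P) = coeff d P • monomial (ι (fun i => ⟨d i, hd i⟩)) (1 : k) := by
        rw [smul_monomial, smul_eq_mul, mul_one]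
        have h2 : ι (fun i => ⟨d i, hd i⟩) = d := by
          ext i
          rfl
        rw [h2]
      rw [h1, map_smul, ← hmon]
      exact Submodule.smul_mem _ _ (Submodule.subset_span ⟨_, rfl⟩)
    · rw [not_forall] at hd
      obtain ⟨i, hi⟩ := hd
      rw [not_lt] at hi
      have h1 : aeval x (monomial d (coeff d P)) = 0 := by
        rw [aeval_monomial, Finsupp.prod_fintype _ _ (fun i => pow_zero _)]
        have h2 : x i ^ d i = 0 := by
          rw [← Nat.sub_add_cancel hi, pow_add, hxp i, mul_zero]
        rw [Finset.prod_eq_zero (Finset.mem_univ i) h2, mul_zero]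
      rw [h1]
      exact zero_mem _
  let b : Module.Basis (Fin r → Fin p) k A := Module.Basis.mk hli hsp
  rw [Module.finrank_eq_card_basis b, Fintype.card_fun, Fintype.card_fin, Fintype.card_fin]

end Abstract

section Hopf

variable {k : Type u} [Field k] (p : ℕ) [hp : Fact p.Prime] [CharP k p]
  {A : Type v} [CommRing A] [Bialgebra k A] [Module.Finite k A]

omit hp [CharP k p] in
include k in
/-- in a finite-dimensional algebra an ideal consisting of nilpotent elements is nilpotent -/
lemma exists_pow_eq_bot_of_forall_isNilpotent (I : Ideal A) (h : ∀ f ∈ I, IsNilpotent f) :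
    ∃ N : ℕ, I ^ N = ⊥ := by
  have hart : IsArtinianRing A := IsArtinianRing.of_finite k A
  have hnoeth : IsNoetherianRing A := inferInstance
  obtain ⟨N, hN⟩ := IsNoetherianRing.isNilpotent_nilradical A
  refine ⟨N, ?_⟩
  rw [eq_bot_iff, ← Ideal.zero_eq_bot, ← hN]
  apply Ideal.pow_right_mono
  intro f hf
  exact mem_nilradical.mpr (h f hf)

/-- a finite-dimensional bialgebra of height at most one has dimension `p ^ r`, `r` the
dimension of the cotangent space at the identity -/
theorem finrank_of_height_one
    (h1 : ∀ f : A, Bialgebra.counitAlgHom k A f = 0 → f ^ p = 0) :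
    Module.finrank k A =
      p ^ Module.finrank k (RingHom.ker (Bialgebra.counitAlgHom k A)).Cotangent := by
  obtain ⟨x, D, hx, hD, hspan⟩ := exists_data (k := k) (A := A)
  apply finrank_eq_pow (Bialgebra.counitAlgHom k A) x hx D hD hspan
  · apply exists_pow_eq_bot_of_forall_isNilpotent (k := k)
    intro f hf
    exact ⟨p, h1 f ((RingHom.mem_ker).mp hf)⟩
  · intro i
    exact h1 _ ((RingHom.mem_ker).mp (hx i))

end Hopf

end Groth.Agent.H9.FinHopf
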