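import Mathlib
import Groth.Agent.Lib.Helper9.CocommDiag.Semisimple
import Groth.Agent.Lib.Helper9.EtaleUnip

/-!
# A finite Hopf algebra is free over the invariants of a subgroup scheme (helper9)

Mumford's argument: for a finite group scheme `G = Spec A` over an algebraically closed field and
a subgroup scheme `H = Spec A/I`, the algebra `A` is free of rank `|H|` over `B = A^H`.
-/

set_option autoImplicit false
set_option linter.unusedSectionVars false

universe u v w

open TensorProduct

namespace Groth.Agent.H9.FinHopf

open Groth.Agent.H9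

section Generic

variable {k : Type u} [Field k] [Infinite k] {V : Type v} {W : Type w} [AddCommGroup V]
  [Module k V] [AddCommGroup W] [Module k W] [Module.Finite k W]

/-- over an infinite field, finitely many surjections onto the same finite-dimensional space
admit a common family mapping to linearly independent families -/
lemma exists_family_linearIndependent {X : Type*} [Finite X] (g : X → V →ₗ[k] W)
    (hg : ∀ χ, Function.Surjective (g χ)) :
    ∀ i ≤ Module.finrank k W, ∃ a : Fin i → V, ∀ χ, LinearIndependent k (fun j => g χ (a j)) := by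
  intro i
  induction i with
  | zero =>
    intro _
    exact ⟨Fin.elim0, fun χ => linearIndependent_empty_type⟩
  | succ i ih =>
    intro hi
    obtain ⟨a, ha⟩ := ih (by omega)
    let P : X → Submodule k V := fun χ =>
      (Submodule.span k (Set.range fun j => g χ (a j))).comap (g χ)
    have hP : ∀ χ, P χ ≠ ⊤ := by
      intro χ hχ
      have h1 : Submodule.span k (Set.range fun j => g χ (a j)) = ⊤ := by
        rw [eq_top_iff]
        rintro w -
        obtain ⟨v, rfl⟩ := hg χ w
        have : v ∈ P χ := by rw [hχ]; trivial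
        exact this
      have h2 := finrank_range_le_card (R := k) (fun j => g χ (a j))
      have h3 : (Set.range fun j => g χ (a j)).finrank k = Module.finrank k W := by
        show Module.finrank k (Submodule.span k (Set.range fun j => g χ (a j))) = _
        rw [h1, finrank_top]
      rw [h3, Fintype.card_fin] at h2
      omega
    obtain ⟨v, hv⟩ := Submodule.exists_forall_notMem_of_forall_ne_top P hP
    refine ⟨Fin.snoc a v, fun χ => ?_⟩
    have h4 : (fun j => g χ ((Fin.snoc a v : Fin (i + 1) → V) j)) =
        Fin.snoc (fun j => g χ (a j)) (g χ v) := by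
      funext j
      refine Fin.lastCases ?_ (fun j' => ?_) j
      · simp
      · simp
    rw [h4, linearIndependent_finSnoc]
    exact ⟨ha χ, hv χ⟩

end Generic

section Repr

variable {k : Type u} [Field k] {R : Type v} {R' : Type w} [CommRing R] [Algebra k R]
  [CommRing R'] [Algebra k R'] {C : Type*} [CommRing C] [Algebra k C] {ι : Type*}
  (c : Module.Basis ι k C) (φ : R →ₐ[k] R')

/-- coordinates with respect to the base-changed basis commute with base change -/
lemma repr_map_tensor (x : R ⊗[k] C) (l : ι) :
    (Algebra.TensorProduct.basis R' c).repr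
      (Algebra.TensorProduct.map φ (AlgHom.id k C) x) l =
      φ ((Algebra.TensorProduct.basis R c).repr x l) := by
  induction x using TensorProduct.induction_on with
  | zero => simp
  | tmul r m =>
    rw [Algebra.TensorProduct.map_tmul, Algebra.TensorProduct.basis_repr_tmul,
      Algebra.TensorProduct.basis_repr_tmul]
    simp
  | add x y hx hy =>
    rw [map_add, map_add, Finsupp.add_apply, hx, hy, map_add, Finsupp.add_apply, map_add]

variable [Fintype ι] [DecidableEq ι]

lemma det_map_tensor (w : ι → R ⊗[k] C) :
    (Algebra.TensorProduct.basis R' c).det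
      (fun j => Algebra.TensorProduct.map φ (AlgHom.id k C) (w j)) =
      φ ((Algebra.TensorProduct.basis R c).det w) := by
  rw [Module.Basis.det_apply, Module.Basis.det_apply]
  have h1 : (Algebra.TensorProduct.basis R' c).toMatrix
      (fun j => Algebra.TensorProduct.map φ (AlgHom.id k C) (w j)) =
      (φ : R →+* R').mapMatrix ((Algebra.TensorProduct.basis R c).toMatrix w) := by
    ext l j
    rw [Module.Basis.toMatrix_apply, repr_map_tensor]
    rfl
  rw [h1, ← RingHom.map_det]
  rfl

end Repr

section Unit

variable {k : Type u} [Field k] [IsAlgClosed k] {A : Type v} [CommRing A] [Algebra k A]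
  [Module.Finite k A]

/-- an element not vanishing at any point is a unit -/
lemma isUnit_of_forall_point {u : A} (h : ∀ χ : A →ₐ[k] k, χ u ≠ 0) : IsUnit u := by
  by_contra hu
  obtain ⟨M, hM, huM⟩ := exists_max_ideal_of_mem_nonunits (mem_nonunits_iff.mpr hu)
  obtain ⟨χ, hχ⟩ := CocommDiag.exists_point_of_maximal (k := k) M
  apply h χ
  have : u ∈ RingHom.ker χ := by rw [hχ]; exact huM
  exact (RingHom.mem_ker).mp this

end Unit

section LeftTransl

variable {k : Type u} [Field k] {A : Type v} [CommRing A] [HopfAlgebra k A]

/-- left translation by a functional: `a ↦ Σ φ(a₁) a₂` -/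
noncomputable def lam (φ : A →ₗ[k] k) : A →ₗ[k] A :=
  (TensorProduct.lid k A).toLinearMap ∘ₗ φ.rTensor A ∘ₗ CoalgebraStruct.comul (R := k) (A := A)

/-- convolution of functionals -/
noncomputable def cnv (ψ χ : A →ₗ[k] k) : A →ₗ[k] k :=
  LinearMap.mul' k k ∘ₗ TensorProduct.map ψ χ ∘ₗ CoalgebraStruct.comul (R := k) (A := A)

lemma lam_lam (ψ χ : A →ₗ[k] k) (a : A) : lam χ (lam ψ a) = lam (cnv ψ χ) a := by
  let F : A ⊗[k] (A ⊗[k] A) →ₗ[k] A :=
    (TensorProduct.lid k A).toLinearMap ∘ₗ
      TensorProduct.map ψ ((TensorProduct.lid k A).toLinearMap ∘ₗ χ.rTensor A)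
  have h1 : ∀ t : A ⊗[k] A, lam χ ((TensorProduct.lid k A) (ψ.rTensor A t)) =
      F ((CoalgebraStruct.comul (R := k) (A := A)).lTensor A t) := by
    intro t
    induction t using TensorProduct.induction_on with
    | zero => simp
    | tmul x y =>
      simp only [LinearMap.rTensor_tmul, TensorProduct.lid_tmul, map_smul, LinearMap.lTensor_tmul,
        F, LinearMap.comp_apply, LinearEquiv.coe_coe, TensorProduct.map_tmul]
      rfl
    | add x y hx hy => simp only [map_add, hx, hy]
  have h2 : ∀ t : A ⊗[k] A, (TensorProduct.lid k A) ((cnv ψ χ).rTensor A t) =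
      F ((TensorProduct.assoc k A A A)
        ((CoalgebraStruct.comul (R := k) (A := A)).rTensor A t)) := by
    intro t
    induction t using TensorProduct.induction_on with
    | zero => simp
    | tmul x y =>
      simp only [LinearMap.rTensor_tmul, TensorProduct.lid_tmul, cnv, LinearMap.comp_apply]
      generalize CoalgebraStruct.comul (R := k) x = s
      induction s using TensorProduct.induction_on with
      | zero => simp
      | tmul u v =>
        simp only [TensorProduct.map_tmul, LinearMap.mul'_apply, TensorProduct.assoc_tmul, F,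
          LinearMap.comp_apply, LinearEquiv.coe_coe, LinearMap.rTensor_tmul,
          TensorProduct.lid_tmul, smul_smul]
      | add s s' hs hs' => simp only [map_add, add_smul, TensorProduct.add_tmul, hs, hs']
    | add x y hx hy => simp only [map_add, hx, hy]
  show lam χ ((TensorProduct.lid k A) (ψ.rTensor A (CoalgebraStruct.comul (R := k) a))) =
    (TensorProduct.lid k A) ((cnv ψ χ).rTensor A (CoalgebraStruct.comul (R := k) a))
  rw [h1, h2, Coalgebra.coassoc_apply]

lemma lam_counit (a : A) : lam (CoalgebraStruct.counit (R := k) (A := A)) a = a := by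
  show (TensorProduct.lid k A) ((CoalgebraStruct.counit (R := k) (A := A)).rTensor A
    (CoalgebraStruct.comul (R := k) a)) = a
  rw [Coalgebra.rTensor_counit_comul, TensorProduct.lid_tmul, one_smul]

lemma cnv_antipode (χ : A →ₐ[k] k) :
    cnv (χ.toLinearMap ∘ₗ HopfAlgebraStruct.antipode k (A := A)) χ.toLinearMap =
      CoalgebraStruct.counit (R := k) (A := A) := by
  apply LinearMap.ext
  intro a
  have h1 : ∀ t : A ⊗[k] A, LinearMap.mul' k k
      (TensorProduct.map (χ.toLinearMap ∘ₗ HopfAlgebraStruct.antipode k (A := A)) χ.toLinearMap t) =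
      χ (LinearMap.mul' k A ((HopfAlgebraStruct.antipode k (A := A)).rTensor A t)) := by
    intro t
    induction t using TensorProduct.induction_on with
    | zero => simp
    | tmul x y => simp
    | add x y hx hy => simp only [map_add, hx, hy]
  show LinearMap.mul' k k (TensorProduct.map _ _ (CoalgebraStruct.comul (R := k) a)) = _
  rw [h1, HopfAlgebra.mul_antipode_rTensor_comul_apply, AlgHom.commutes]
  rfl

/-- left translation by a point is surjective -/
lemma lam_surjective (χ : A →ₐ[k] k) : Function.Surjective (lam χ.toLinearMap) := by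
  intro a
  refine ⟨lam (χ.toLinearMap ∘ₗ HopfAlgebraStruct.antipode k (A := A)) a, ?_⟩
  rw [lam_lam, cnv_antipode, lam_counit]

end LeftTransl

section Main

variable {k : Type u} [Field k] {A : Type v} [CommRing A] [HopfAlgebra k A]
  {C : Type w} [CommRing C] [Bialgebra k C] (π : A →ₐ[k] C)

/-- the coaction of a quotient `π : A → C` on `A` by right translations -/
noncomputable abbrev rho : A →ₐ[k] A ⊗[k] C :=
  (Algebra.TensorProduct.map (AlgHom.id k A) π).comp (Bialgebra.comulAlgHom k A)

/-- the subalgebra of right invariants -/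
noncomputable abbrev invSub : Subalgebra k A :=
  AlgHom.equalizer (rho π) (Algebra.TensorProduct.includeLeft : A →ₐ[k] A ⊗[k] C)

lemma rho_apply (a : A) : rho π a =
    Algebra.TensorProduct.map (AlgHom.id k A) π (CoalgebraStruct.comul (R := k) a) := rfl

variable (hε : ∀ a : A, CoalgebraStruct.counit (R := k) (π a) = CoalgebraStruct.counit (R := k) a)
  (hΔ : ∀ a : A, CoalgebraStruct.comul (R := k) (π a) =
    TensorProduct.map π.toLinearMap π.toLinearMap (CoalgebraStruct.comul (R := k) a))

include hε in
lemma rho_injective : Function.Injective (rho π) := by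
  let E : A ⊗[k] C →ₗ[k] A :=
    (TensorProduct.rid k A).toLinearMap ∘ₗ
      (CoalgebraStruct.counit (R := k) (A := C)).lTensor A
  have h1 : ∀ t : A ⊗[k] A,
      E (Algebra.TensorProduct.map (AlgHom.id k A) π t) =
        (TensorProduct.rid k A) ((CoalgebraStruct.counit (R := k) (A := A)).lTensor A t) := by
    intro t
    induction t using TensorProduct.induction_on with
    | zero => simp
    | tmul x y =>
      simp only [Algebra.TensorProduct.map_tmul, AlgHom.id_apply, E, LinearMap.comp_apply,
        LinearMap.lTensor_tmul, LinearEquiv.coe_coe, TensorProduct.rid_tmul, hε]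
    | add x y hx hy => simp only [map_add, hx, hy]
  have h2 : ∀ a : A, E (rho π a) = a := by
    intro a
    rw [rho_apply, h1, Coalgebra.lTensor_counit_comul, TensorProduct.rid_tmul, one_smul]
  intro a b hab
  rw [← h2 a, ← h2 b, hab]

/-- reduction of the coaction at a point -/
noncomputable def gpt (χ : A →ₐ[k] k) : A →ₗ[k] C :=
  (TensorProduct.lid k C).toLinearMap ∘ₗ
    (Algebra.TensorProduct.map χ (AlgHom.id k C)).toLinearMap ∘ₗ (rho π).toLinearMap

lemma gpt_eq (χ : A →ₐ[k] k) (a : A) :
    gpt π χ a = π (lam χ.toLinearMap a) := by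
  have h1 : ∀ t : A ⊗[k] A, (TensorProduct.lid k C)
      (Algebra.TensorProduct.map χ (AlgHom.id k C)
        (Algebra.TensorProduct.map (AlgHom.id k A) π t)) =
      π ((TensorProduct.lid k A) (χ.toLinearMap.rTensor A t)) := by
    intro t
    induction t using TensorProduct.induction_on with
    | zero => simp
    | tmul x y =>
      simp only [Algebra.TensorProduct.map_tmul, AlgHom.id_apply, TensorProduct.lid_tmul,
        LinearMap.rTensor_tmul, AlgHom.toLinearMap_apply, map_smul]
    | add x y hx hy => simp only [map_add, hx, hy]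
  exact h1 _

lemma gpt_surjective (hπ : Function.Surjective π) (χ : A →ₐ[k] k) :
    Function.Surjective (gpt π χ) := by
  intro c
  obtain ⟨a', rfl⟩ := hπ c
  obtain ⟨a, ha⟩ := lam_surjective χ a'
  exact ⟨a, by rw [gpt_eq, ha]⟩

/-- `ρ ⊗ id` -/
noncomputable abbrev Pmap : A ⊗[k] C →ₐ[k] (A ⊗[k] C) ⊗[k] C :=
  Algebra.TensorProduct.map (rho π) (AlgHom.id k C)

/-- `id ⊗ Δ` -/
noncomputable abbrev Qmap : A ⊗[k] C →ₐ[k] (A ⊗[k] C) ⊗[k] C :=
  (Algebra.TensorProduct.assoc k k k A C C).symm.toAlgHom.comp
    (Algebra.TensorProduct.map (AlgHom.id k A) (Bialgebra.comulAlgHom k C))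

lemma Pmap_tmul_one (r : A) : Pmap π (r ⊗ₜ[k] 1) = rho π r ⊗ₜ[k] 1 := by
  rw [Algebra.TensorProduct.map_tmul, map_one]

lemma Qmap_tmul_one (r : A) :
    Qmap (k := k) (A := A) (C := C) (r ⊗ₜ[k] 1) = (r ⊗ₜ[k] (1 : C)) ⊗ₜ[k] (1 : C) := by
  show (Algebra.TensorProduct.assoc k k k A C C).symm
    (Algebra.TensorProduct.map (AlgHom.id k A) (Bialgebra.comulAlgHom k C) (r ⊗ₜ[k] 1)) = _
  rw [Algebra.TensorProduct.map_tmul, map_one, AlgHom.id_apply, Algebra.TensorProduct.one_def]
  rfl

include hΔ in
/-- coassociativity of the coaction -/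
lemma Pmap_rho (a : A) : Pmap π (rho π a) = Qmap (rho π a) := by
  let πl : A →ₗ[k] C := π.toLinearMap
  let L₁ : (A ⊗[k] A) ⊗[k] A →ₗ[k] (A ⊗[k] C) ⊗[k] C :=
    TensorProduct.map (TensorProduct.map LinearMap.id πl) πl
  have F1 : ∀ t : A ⊗[k] A,
      Pmap π (Algebra.TensorProduct.map (AlgHom.id k A) π t) =
        L₁ ((CoalgebraStruct.comul (R := k) (A := A)).rTensor A t) := by
    intro t
    induction t using TensorProduct.induction_on with
    | zero => simp
    | tmul x y => rfl
    | add x y hx hy => simp only [map_add, hx, hy]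
  have F2 : ∀ t : A ⊗[k] A,
      Qmap (Algebra.TensorProduct.map (AlgHom.id k A) π t) =
        L₁ ((TensorProduct.assoc k A A A).symm
          ((CoalgebraStruct.comul (R := k) (A := A)).lTensor A t)) := by
    intro t
    induction t using TensorProduct.induction_on with
    | zero => simp
    | tmul x y =>
      show (Algebra.TensorProduct.assoc k k k A C C).symm
        (x ⊗ₜ[k] (CoalgebraStruct.comul (R := k) (π y))) =
        L₁ ((TensorProduct.assoc k A A A).symm (x ⊗ₜ[k] CoalgebraStruct.comul (R := k) y))
      rw [hΔ]
      generalize CoalgebraStruct.comul (R := k) y = s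
      induction s using TensorProduct.induction_on with
      | zero => simp
      | tmul u v => rfl
      | add s s' hs hs' => simp only [map_add, TensorProduct.tmul_add, hs, hs']
    | add x y hx hy => simp only [map_add, hx, hy]
  rw [rho_apply, F1, F2, Coalgebra.coassoc_symm_apply]

end Main

section Free

variable {k : Type u} [Field k] {C : Type v} [AddCommGroup C] [Module k C] {ι : Type*}

lemma lid_repr (c : Module.Basis ι k C) (y : k ⊗[k] C) (l : ι) :
    (Algebra.TensorProduct.basis k c).repr y l = c.repr (TensorProduct.lid k C y) l := by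
  induction y using TensorProduct.induction_on with
  | zero => simp
  | tmul s m =>
    rw [Algebra.TensorProduct.basis_repr_tmul, TensorProduct.lid_tmul]
    simp
  | add x y hx hy => simp only [map_add, Finsupp.add_apply, hx, hy]

end Free

section Smul

variable {k : Type u} [Field k] {R : Type v} [CommRing R] [Algebra k R] {C : Type*} [CommRing C]
  [Algebra k C]

lemma smul_eq_tmul_one_mul (r : R) (y : R ⊗[k] C) : r • y = (r ⊗ₜ[k] (1 : C)) * y := by
  induction y using TensorProduct.induction_on with
  | zero => rw [smul_zero, mul_zero]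
  | tmul x c =>
    rw [TensorProduct.smul_tmul', Algebra.TensorProduct.tmul_mul_tmul, one_mul, smul_eq_mul]
  | add x y hx hy => rw [smul_add, mul_add, hx, hy]

end Smul

end Groth.Agent.H9.FinHopf
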