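import Mathlib
import Groth.Prelude.Def_GLin
import Groth.Agent.Lib.Helper9.FinHopf.FreeQuot

/-!
# Integrality over the invariants of a finite group scheme action (helper9)

For a finite-dimensional commutative Hopf algebra `A` coacting on a commutative algebra `R`,
every element of `R` is a root of the characteristic polynomial of its coaction, whose
coefficients are invariant.
-/

set_option autoImplicit false
set_option linter.unusedSectionVars false

universe u v w

open TensorProduct

namespace Groth.Agent.H9.FinHopf

section LeftMul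

variable {k : Type u} [Field k] {R : Type v} {R' : Type w} [CommRing R] [Algebra k R]
  [CommRing R'] [Algebra k R'] {C : Type*} [CommRing C] [Algebra k C] {ι : Type*} [Fintype ι]
  [DecidableEq ι] (c : Module.Basis ι k C) (φ : R →ₐ[k] R')

lemma leftMulMatrix_map_tensor (y : R ⊗[k] C) :
    Algebra.leftMulMatrix (Algebra.TensorProduct.basis R' c)
      (Algebra.TensorProduct.map φ (AlgHom.id k C) y) =
      (φ : R →+* R').mapMatrix (Algebra.leftMulMatrix (Algebra.TensorProduct.basis R c) y) := by
  ext l j
  rw [Algebra.leftMulMatrix_eq_repr_mul]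
  have h1 : (Algebra.TensorProduct.basis R' c) j =
      Algebra.TensorProduct.map φ (AlgHom.id k C) ((Algebra.TensorProduct.basis R c) j) := by
    rw [Algebra.TensorProduct.basis_apply, Algebra.TensorProduct.basis_apply,
      Algebra.TensorProduct.map_tmul, map_one]
    rfl
  rw [h1, ← map_mul, repr_map_tensor, RingHom.mapMatrix_apply, Matrix.map_apply,
    Algebra.leftMulMatrix_eq_repr_mul]
  rfl

lemma charpoly_map_tensor (y : R ⊗[k] C) :
    (Algebra.leftMulMatrix (Algebra.TensorProduct.basis R' c)
      (Algebra.TensorProduct.map φ (AlgHom.id k C) y)).charpoly =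
      (Algebra.leftMulMatrix (Algebra.TensorProduct.basis R c) y).charpoly.map (φ : R →+* R') := by
  rw [leftMulMatrix_map_tensor, RingHom.mapMatrix_apply, Matrix.charpoly_map]

/-- Cayley–Hamilton in the algebra `R ⊗ C` -/
lemma aeval_charpoly_leftMulMatrix (y : R ⊗[k] C) :
    Polynomial.aeval y (Algebra.leftMulMatrix (Algebra.TensorProduct.basis R c) y).charpoly = 0 := by
  apply Algebra.leftMulMatrix_injective (Algebra.TensorProduct.basis R c)
  rw [← Polynomial.aeval_algHom_apply, Matrix.aeval_self_charpoly, map_zero]

end LeftMul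

section Theta

variable {k : Type u} [CommRing k] {A : Type v} [CommRing A] [HopfAlgebra k A]
  {R' : Type w} [CommRing R'] [Algebra k R'] (ι : A →ₐ[k] R')

/-- `b ↦ Σ ι(b₁) ⊗ b₂` -/
noncomputable def thetaG : A →ₐ[k] R' ⊗[k] A :=
  (Algebra.TensorProduct.map ι (AlgHom.id k A)).comp (Bialgebra.comulAlgHom k A)

/-- the `R'`-algebra endomorphism `r ⊗ b ↦ Σ r ι(b₁) ⊗ b₂` of `R' ⊗ A` -/
noncomputable def theta : R' ⊗[k] A →ₐ[R'] R' ⊗[k] A :=
  Algebra.TensorProduct.lift (Algebra.ofId R' (R' ⊗[k] A)) (thetaG ι) (fun _ _ => Commute.all _ _)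

lemma theta_tmul (r : R') (b : A) : theta ι (r ⊗ₜ[k] b) = (r ⊗ₜ[k] (1 : A)) * thetaG ι b := by
  rw [theta, Algebra.TensorProduct.lift_tmul]
  rfl

lemma thetaG_apply (b : A) : thetaG ι b =
    Algebra.TensorProduct.map ι (AlgHom.id k A) (CoalgebraStruct.comul (R := k) b) := rfl

lemma theta_theta_one_tmul (b : A) :
    theta ι (theta (ι.comp (HopfAlgebra.antipodeAlgHom k A)) ((1 : R') ⊗ₜ[k] b)) =
      (1 : R') ⊗ₜ[k] b := by
  rw [theta_tmul, ← Algebra.TensorProduct.one_def, one_mul, thetaG_apply]
  -- G (u ⊗ (v₁ ⊗ v₂)) = ι (S u * v₁) ⊗ v₂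
  let G : A ⊗[k] (A ⊗[k] A) →ₗ[k] R' ⊗[k] A :=
    (TensorProduct.map (ι.toLinearMap ∘ₗ LinearMap.mul' k A ∘ₗ
        (HopfAlgebraStruct.antipode k (A := A)).rTensor A) LinearMap.id) ∘ₗ
      (TensorProduct.assoc k A A A).symm.toLinearMap
  have h1 : ∀ t : A ⊗[k] A,
      theta ι (Algebra.TensorProduct.map (ι.comp (HopfAlgebra.antipodeAlgHom k A))
        (AlgHom.id k A) t) = G ((CoalgebraStruct.comul (R := k) (A := A)).lTensor A t) := by
    intro t
    induction t using TensorProduct.induction_on with
    | zero => simp
    | tmul x y =>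
      rw [Algebra.TensorProduct.map_tmul, AlgHom.id_apply, theta_tmul, thetaG_apply,
        LinearMap.lTensor_tmul]
      generalize CoalgebraStruct.comul (R := k) y = s
      induction s using TensorProduct.induction_on with
      | zero => simp
      | tmul u v =>
        simp only [Algebra.TensorProduct.map_tmul, AlgHom.id_apply,
          Algebra.TensorProduct.tmul_mul_tmul, one_mul, AlgHom.comp_apply, G, LinearMap.comp_apply,
          LinearEquiv.coe_coe, TensorProduct.assoc_symm_tmul, TensorProduct.map_tmul,
          LinearMap.rTensor_tmul, LinearMap.mul'_apply, AlgHom.toLinearMap_apply, map_mul,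
          LinearMap.id_apply]
        rfl
      | add s s' hs hs' => simp only [map_add, TensorProduct.tmul_add, mul_add, hs, hs']
    | add x y hx hy => simp only [map_add, hx, hy]
  have h2 : ∀ t : A ⊗[k] A,
      G ((TensorProduct.assoc k A A A) ((CoalgebraStruct.comul (R := k) (A := A)).rTensor A t)) =
        TensorProduct.map (ι.toLinearMap ∘ₗ LinearMap.mul' k A ∘ₗ
          (HopfAlgebraStruct.antipode k (A := A)).rTensor A ∘ₗ
            CoalgebraStruct.comul (R := k) (A := A)) LinearMap.id t := by
    intro t
    induction t using TensorProduct.induction_on with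
    | zero => simp
    | tmul x y =>
      simp only [LinearMap.rTensor_tmul, G, LinearMap.comp_apply, LinearEquiv.coe_coe,
        TensorProduct.map_tmul, LinearMap.id_apply]
      generalize CoalgebraStruct.comul (R := k) x = s
      induction s using TensorProduct.induction_on with
      | zero => simp
      | tmul u v => simp
      | add s s' hs hs' => simp only [map_add, TensorProduct.add_tmul, hs, hs']
    | add x y hx hy => simp only [map_add, hx, hy]
  rw [h1, ← Coalgebra.coassoc_apply, h2]
  generalize hs : CoalgebraStruct.comul (R := k) b = s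
  have h3 : ∀ x : A, (ι.toLinearMap ∘ₗ LinearMap.mul' k A ∘ₗ
          (HopfAlgebraStruct.antipode k (A := A)).rTensor A ∘ₗ
            CoalgebraStruct.comul (R := k) (A := A)) x =
      algebraMap k R' (CoalgebraStruct.counit (R := k) x) := by
    intro x
    simp only [LinearMap.comp_apply]
    rw [HopfAlgebra.mul_antipode_rTensor_comul_apply]
    simp
  have h4 : ∀ t : A ⊗[k] A, TensorProduct.map (ι.toLinearMap ∘ₗ LinearMap.mul' k A ∘ₗ
          (HopfAlgebraStruct.antipode k (A := A)).rTensor A ∘ₗ
            CoalgebraStruct.comul (R := k) (A := A)) LinearMap.id t =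
      (1 : R') ⊗ₜ[k] ((TensorProduct.lid k A)
        ((CoalgebraStruct.counit (R := k) (A := A)).rTensor A t)) := by
    intro t
    induction t using TensorProduct.induction_on with
    | zero => simp
    | tmul x y =>
      rw [TensorProduct.map_tmul, h3, LinearMap.rTensor_tmul, TensorProduct.lid_tmul,
        LinearMap.id_apply, Algebra.algebraMap_eq_smul_one, TensorProduct.smul_tmul]
    | add x y hx hy => simp only [map_add, TensorProduct.tmul_add, hx, hy]
  rw [h4, ← hs, Coalgebra.rTensor_counit_comul, TensorProduct.lid_tmul, one_smul]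

lemma theta_theta (x : R' ⊗[k] A) :
    theta ι (theta (ι.comp (HopfAlgebra.antipodeAlgHom k A)) x) = x := by
  induction x using TensorProduct.induction_on with
  | zero => simp
  | tmul r b =>
    have h1 : r ⊗ₜ[k] b = r • ((1 : R') ⊗ₜ[k] b) := by
      rw [TensorProduct.smul_tmul', smul_eq_mul, mul_one]
    rw [h1, map_smul, map_smul, theta_theta_one_tmul]
  | add x y hx hy => simp only [map_add, hx, hy]

lemma theta_surjective : Function.Surjective (theta ι) :=
  fun x => ⟨_, theta_theta ι x⟩

variable [Module.Finite k A]

lemma theta_bijective : Function.Bijective (theta ι) :=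
  OrzechProperty.bijective_of_surjective_endomorphism (theta ι).toLinearMap (theta_surjective ι)

/-- `theta` as an algebra automorphism -/
noncomputable def thetaEquiv : R' ⊗[k] A ≃ₐ[R'] R' ⊗[k] A :=
  AlgEquiv.ofBijective (theta ι) (theta_bijective ι)

end Theta

section ThetaField

variable {k : Type u} [Field k] {A : Type v} [CommRing A] [HopfAlgebra k A]
  {R' : Type w} [CommRing R'] [Algebra k R'] (ι : A →ₐ[k] R') [Module.Finite k A]

lemma charpoly_theta {κ : Type*} [Fintype κ] [DecidableEq κ] (e : Module.Basis κ R' (R' ⊗[k] A))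
    (x : R' ⊗[k] A) :
    (Algebra.leftMulMatrix e (theta ι x)).charpoly = (Algebra.leftMulMatrix e x).charpoly := by
  rw [Algebra.leftMulMatrix_apply, Algebra.leftMulMatrix_apply, LinearMap.charpoly_toMatrix,
    LinearMap.charpoly_toMatrix]
  have h1 : Algebra.lmul R' (R' ⊗[k] A) (theta ι x) =
      (thetaEquiv ι).toLinearEquiv.conj (Algebra.lmul R' (R' ⊗[k] A) x) := by
    apply LinearMap.ext
    intro z
    rw [LinearEquiv.conj_apply]
    show theta ι x * z = theta ι (x * (thetaEquiv ι).symm z)
    rw [map_mul]
    congr 1
    exact ((thetaEquiv ι).apply_symm_apply z).symm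
  rw [h1, LinearEquiv.charpoly_conj]

end ThetaField

section Integral

variable {k : Type u} [Field k] {A : Type v} [CommRing A] [HopfAlgebra k A] [Module.Finite k A]
  {R : Type w} [CommRing R] [Algebra k R] [HopfRep.Comod k A R] [GLin.IsCoactAlg k A R]

local notation "ρ" => GLin.coactAlgHom k A R

/-- `id ⊗ ε` as an `R`-algebra map -/
noncomputable def epsR : R ⊗[k] A →ₐ[R] R :=
  Algebra.TensorProduct.lift (AlgHom.id R R)
    ((Algebra.ofId k R).comp (Bialgebra.counitAlgHom k A)) (fun _ _ => Commute.all _ _)

lemma epsR_coact (r : R) : epsR (k := k) (A := A) (ρ r) = r := by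
  have h1 : ∀ t : R ⊗[k] A, epsR (k := k) (A := A) t =
      TensorProduct.rid k R ((CoalgebraStruct.counit (R := k) (A := A)).lTensor R t) := by
    intro t
    induction t using TensorProduct.induction_on with
    | zero => simp
    | tmul x a =>
      rw [epsR, Algebra.TensorProduct.lift_tmul, LinearMap.lTensor_tmul, TensorProduct.rid_tmul]
      simp [Algebra.ofId_apply, Algebra.algebraMap_eq_smul_one]
    | add x y hx hy => simp only [map_add, hx, hy]
  have h2 := LinearMap.congr_fun (HopfRep.Comod.counit_comp (k := k) (A := A) (V := R)) r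
  rw [h1]
  show TensorProduct.rid k R ((CoalgebraStruct.counit (R := k) (A := A)).lTensor R
    (HopfRep.Comod.coact (k := k) (A := A) r)) = r
  have h3 : (CoalgebraStruct.counit (R := k) (A := A)).lTensor R
      (HopfRep.Comod.coact (k := k) (A := A) r) = r ⊗ₜ[k] (1 : k) := h2
  rw [h3, TensorProduct.rid_tmul, one_smul]

/-- coassociativity of the coaction in algebra-map form -/
lemma map_coact_coact (r : R) :
    Algebra.TensorProduct.map ρ (AlgHom.id k A) (ρ r) =
      theta (Algebra.TensorProduct.includeRight : A →ₐ[k] R ⊗[k] A)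
        (Algebra.TensorProduct.map (Algebra.TensorProduct.includeLeft : R →ₐ[k] R ⊗[k] A)
          (AlgHom.id k A) (ρ r)) := by
  have h1 : ∀ t : R ⊗[k] A, Algebra.TensorProduct.map ρ (AlgHom.id k A) t =
      (HopfRep.Comod.coact (k := k) (A := A) (V := R)).rTensor A t := by
    intro t
    induction t using TensorProduct.induction_on with
    | zero => simp
    | tmul x a => rfl
    | add x y hx hy => simp only [map_add, hx, hy]
  have h2 : ∀ t : R ⊗[k] A,
      theta (Algebra.TensorProduct.includeRight : A →ₐ[k] R ⊗[k] A)
        (Algebra.TensorProduct.map (Algebra.TensorProduct.includeLeft : R →ₐ[k] R ⊗[k] A)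
          (AlgHom.id k A) t) =
      (TensorProduct.assoc k R A A).symm
        ((CoalgebraStruct.comul (R := k) (A := A)).lTensor R t) := by
    intro t
    induction t using TensorProduct.induction_on with
    | zero => simp
    | tmul x a =>
      rw [Algebra.TensorProduct.map_tmul, AlgHom.id_apply, theta_tmul, thetaG_apply,
        LinearMap.lTensor_tmul]
      generalize CoalgebraStruct.comul (R := k) a = s
      induction s using TensorProduct.induction_on with
      | zero => simp
      | tmul u v =>
        simp only [Algebra.TensorProduct.map_tmul, AlgHom.id_apply,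
          Algebra.TensorProduct.includeLeft_apply, Algebra.TensorProduct.includeRight_apply,
          Algebra.TensorProduct.tmul_mul_tmul, one_mul, mul_one, TensorProduct.assoc_symm_tmul]
      | add s s' hs hs' => simp only [map_add, TensorProduct.tmul_add, mul_add, hs, hs']
    | add x y hx hy => simp only [map_add, hx, hy]
  rw [h1, h2]
  have h3 := LinearMap.congr_fun (HopfRep.Comod.coassoc (k := k) (A := A) (V := R)) r
  simp only [LinearMap.comp_apply, LinearEquiv.coe_coe] at h3
  show (HopfRep.Comod.coact (k := k) (A := A) (V := R)).rTensor A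
    (HopfRep.Comod.coact (k := k) (A := A) r) = (TensorProduct.assoc k R A A).symm
      ((CoalgebraStruct.comul (R := k) (A := A)).lTensor R
        (HopfRep.Comod.coact (k := k) (A := A) r))
  rw [← h3, LinearEquiv.symm_apply_apply]

/-- the characteristic polynomial of the coaction of `r` -/
noncomputable def coactCharpoly (r : R) : Polynomial R :=
  (Algebra.leftMulMatrix (Algebra.TensorProduct.basis R (Module.finBasis k A)) (ρ r)).charpoly

lemma coactCharpoly_monic (r : R) : (coactCharpoly (k := k) (A := A) r).Monic :=
  Matrix.charpoly_monic _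

lemma aeval_coactCharpoly (r : R) :
    Polynomial.aeval r (coactCharpoly (k := k) (A := A) r) = 0 := by
  have h1 := aeval_charpoly_leftMulMatrix (R := R) (Module.finBasis k A) (ρ r)
  have h2 := congrArg (epsR (k := k) (A := A) (R := R)) h1
  rw [← Polynomial.aeval_algHom_apply, epsR_coact, map_zero] at h2
  exact h2

lemma coactCharpoly_map (r : R) :
    (coactCharpoly (k := k) (A := A) r).map ((ρ : R →ₐ[k] R ⊗[k] A) : R →+* R ⊗[k] A) =
      (coactCharpoly (k := k) (A := A) r).map
        ((Algebra.TensorProduct.includeLeft : R →ₐ[k] R ⊗[k] A) : R →+* R ⊗[k] A) := by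
  rw [coactCharpoly, ← charpoly_map_tensor, ← charpoly_map_tensor, map_coact_coact, charpoly_theta]

lemma coeff_coactCharpoly_mem (r : R) (i : ℕ) :
    (coactCharpoly (k := k) (A := A) r).coeff i ∈ GLin.invariants k A R := by
  rw [GLin.mem_invariants_iff]
  have h1 := congrArg (fun q => Polynomial.coeff q i) (coactCharpoly_map (k := k) (A := A) r)
  simp only [Polynomial.coeff_map] at h1
  exact h1

/-- every element is integral over the invariants -/
theorem isIntegral_invariants (r : R) : IsIntegral (GLin.invariants k A R) r := by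
  by_cases hR : Nontrivial R
  · have hl : coactCharpoly (k := k) (A := A) r ∈
        Polynomial.lifts (algebraMap (GLin.invariants k A R) R) := by
      rw [Polynomial.lifts_iff_coeff_lifts]
      intro i
      exact ⟨⟨_, coeff_coactCharpoly_mem r i⟩, rfl⟩
    obtain ⟨q, hq1, -, hq3⟩ := Polynomial.lifts_and_degree_eq_and_monic hl (coactCharpoly_monic r)
    refine ⟨q, hq3, ?_⟩
    rw [← Polynomial.eval_map, hq1]
    exact aeval_coactCharpoly r
  · rw [not_nontrivial_iff_subsingleton] at hR
    exact ⟨Polynomial.X, Polynomial.monic_X, Subsingleton.elim _ _⟩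

/-- the invariants are of finite type and `R` is finite over them -/
theorem finiteType_and_finite_invariants [Algebra.FiniteType k R] :
    Algebra.FiniteType k (GLin.invariants k A R) ∧ Module.Finite (GLin.invariants k A R) R := by
  have hint : Algebra.IsIntegral (GLin.invariants k A R) R := ⟨isIntegral_invariants⟩
  have hft : Algebra.FiniteType (GLin.invariants k A R) R :=
    Algebra.FiniteType.of_restrictScalars_finiteType k _ R
  have hfin : Module.Finite (GLin.invariants k A R) R := Algebra.IsIntegral.finite
  refine ⟨⟨?_⟩, hfin⟩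
  exact fg_of_fg_of_fg k (GLin.invariants k A R) R Algebra.FiniteType.out hfin.1
    Subtype.val_injective

end Integral

end Groth.Agent.H9.FinHopf
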