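import Mathlib

/-!
# Lagrange's theorem for local coideal subalgebras of finite Hopf algebras (helper9)

Let `A` be a finite-dimensional commutative Hopf algebra over a field `k` and `B ⊆ A` a subalgebra
with `Δ B ⊆ A ⊗ B` whose augmentation ideal `B⁺` consists of nilpotent elements.  Then `A` is a free
`B`-module of rank `dim A/B⁺A`; in particular `dim A = dim B * dim A/B⁺A`.
-/

set_option autoImplicit false
set_option linter.unusedSectionVars false

universe u v

open TensorProduct

namespace Groth.Agent.H9.FinHopf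

section Galois

variable {k : Type u} [Field k] {A : Type v} [CommRing A] [HopfAlgebra k A]

/-- the map `u ⊗ v ↦ (S u ⊗ 1) Δ v` -/
noncomputable def galW : A ⊗[k] A →ₗ[k] A ⊗[k] A :=
  (LinearMap.mul' k A).rTensor A ∘ₗ (TensorProduct.assoc k A A A).symm.toLinearMap ∘ₗ
    TensorProduct.map (HopfAlgebraStruct.antipode k (A := A)) (CoalgebraStruct.comul (R := k) (A := A))

lemma galW_tmul (u v : A) :
    galW (k := k) (u ⊗ₜ[k] v) =
      (HopfAlgebraStruct.antipode k u ⊗ₜ[k] (1 : A)) * CoalgebraStruct.comul (R := k) v := by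
  rw [galW, LinearMap.comp_apply, LinearMap.comp_apply, TensorProduct.map_tmul]
  generalize CoalgebraStruct.comul (R := k) v = t
  induction t using TensorProduct.induction_on with
  | zero => simp
  | tmul x y =>
    rw [LinearEquiv.coe_coe, TensorProduct.assoc_symm_tmul, LinearMap.rTensor_tmul,
      LinearMap.mul'_apply, Algebra.TensorProduct.tmul_mul_tmul, one_mul]
  | add x y hx hy =>
    rw [TensorProduct.tmul_add, map_add, map_add, hx, hy, mul_add]

/-- `Σ (S c₁ ⊗ 1) Δ c₂ = 1 ⊗ c` -/
lemma galW_comul (c : A) : galW (k := k) (CoalgebraStruct.comul (R := k) c) = (1 : A) ⊗ₜ[k] c := by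
  have h1 : TensorProduct.map (HopfAlgebraStruct.antipode k (A := A))
      (CoalgebraStruct.comul (R := k) (A := A)) =
      (HopfAlgebraStruct.antipode k (A := A)).rTensor (A ⊗[k] A) ∘ₗ
        (CoalgebraStruct.comul (R := k) (A := A)).lTensor A := by
    apply TensorProduct.ext'
    intro x y
    rfl
  have h2 : (TensorProduct.assoc k A A A).symm.toLinearMap ∘ₗ
      (HopfAlgebraStruct.antipode k (A := A)).rTensor (A ⊗[k] A) ∘ₗ
        (TensorProduct.assoc k A A A).toLinearMap =
      ((HopfAlgebraStruct.antipode k (A := A)).rTensor A).rTensor A := by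
    apply TensorProduct.ext_threefold
    intro x y z
    rfl
  rw [galW, h1, LinearMap.comp_apply, LinearMap.comp_apply, LinearMap.comp_apply,
    ← Coalgebra.coassoc_apply]
  have h3 := LinearMap.congr_fun h2
    ((CoalgebraStruct.comul (R := k) (A := A)).rTensor A (CoalgebraStruct.comul (R := k) c))
  simp only [LinearMap.comp_apply, LinearEquiv.coe_coe] at h3
  rw [LinearEquiv.coe_coe]
  rw [h3, ← LinearMap.comp_apply, ← LinearMap.rTensor_comp, ← LinearMap.comp_apply,
    ← LinearMap.rTensor_comp, LinearMap.comp_assoc, HopfAlgebra.mul_antipode_rTensor_comul,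
    LinearMap.rTensor_comp,
    LinearMap.comp_apply, Coalgebra.rTensor_counit_comul, LinearMap.rTensor_tmul]
  simp

end Galois

section Lagrange

variable {k : Type u} [Field k] {A : Type v} [CommRing A] [HopfAlgebra k A]
  (B : Subalgebra k A)

/-- the ideal `B⁺A` -/
def augSpan : Ideal A :=
  Ideal.span {a : A | a ∈ B ∧ CoalgebraStruct.counit (R := k) (A := A) a = 0}

/-- the map `a ↦ (id ⊗ π) Δ a` -/
noncomputable def gam : A →ₐ[k] A ⊗[k] (A ⧸ augSpan B) :=
  (Algebra.TensorProduct.map (AlgHom.id k A) (Ideal.Quotient.mkₐ k (augSpan B))).comp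
    (Bialgebra.comulAlgHom k A)

lemma gam_apply (a : A) :
    gam B a = (Ideal.Quotient.mkₐ k (augSpan B)).toLinearMap.lTensor A
      (CoalgebraStruct.comul (R := k) a) := by
  show (Algebra.TensorProduct.map (AlgHom.id k A) (Ideal.Quotient.mkₐ k (augSpan B)))
    (CoalgebraStruct.comul (R := k) a) = _
  generalize CoalgebraStruct.comul (R := k) a = t
  induction t using TensorProduct.induction_on with
  | zero => simp
  | tmul x y => rfl
  | add x y hx hy => rw [map_add, map_add, hx, hy]

lemma mk_eq_counit {b : A} (hb : b ∈ B) :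
    Ideal.Quotient.mk (augSpan B) b =
      algebraMap k (A ⧸ augSpan B) (CoalgebraStruct.counit (R := k) b) := by
  have h1 : b - algebraMap k A (CoalgebraStruct.counit (R := k) b) ∈ augSpan B := by
    apply Ideal.subset_span
    refine ⟨B.sub_mem hb (B.algebraMap_mem _), ?_⟩
    rw [map_sub, Bialgebra.counit_algebraMap, sub_self]
  have h2 := Ideal.Quotient.eq.mpr h1
  rw [h2]
  rfl

variable (hΔ : ∀ b ∈ B, CoalgebraStruct.comul (R := k) (A := A) b ∈
  LinearMap.range (B.val.toLinearMap.lTensor A))

include hΔ in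
/-- `γ` is `B`-linear: `γ b = b ⊗ 1` for `b ∈ B` -/
lemma gam_of_mem {b : A} (hb : b ∈ B) : gam B b = b ⊗ₜ[k] (1 : A ⧸ augSpan B) := by
  obtain ⟨t, ht⟩ := hΔ b hb
  rw [gam_apply, ← ht]
  have h1 : ∀ t : A ⊗[k] B,
      (Ideal.Quotient.mkₐ k (augSpan B)).toLinearMap.lTensor A (B.val.toLinearMap.lTensor A t) =
        (TensorProduct.rid k A ((CoalgebraStruct.counit (R := k) (A := A)).lTensor A
          (B.val.toLinearMap.lTensor A t))) ⊗ₜ[k] (1 : A ⧸ augSpan B) := by
    intro t
    induction t using TensorProduct.induction_on with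
    | zero => simp
    | tmul x y =>
      simp only [LinearMap.lTensor_tmul, AlgHom.toLinearMap_apply, Subalgebra.coe_val,
        TensorProduct.rid_tmul]
      show x ⊗ₜ[k] Ideal.Quotient.mk (augSpan B) (y : A) = _
      rw [mk_eq_counit B y.2, Algebra.algebraMap_eq_smul_one, TensorProduct.tmul_smul,
        TensorProduct.smul_tmul']
    | add x y hx hy => simp only [map_add, hx, hy, TensorProduct.add_tmul]
  rw [h1, ht, Coalgebra.lTensor_counit_comul, TensorProduct.rid_tmul, one_smul]

/-- pure tensors are in the `A`-span of `γ(A)` -/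
lemma tmul_eq_sum_gam (a c : A) :
    ∃ t : A ⊗[k] A, a ⊗ₜ[k] Ideal.Quotient.mk (augSpan B) c =
      (Algebra.TensorProduct.map (AlgHom.id k A) (Ideal.Quotient.mkₐ k (augSpan B)))
        (((a ⊗ₜ[k] (1 : A)) * galW (k := k) t)) ∧ t = CoalgebraStruct.comul (R := k) c := by
  refine ⟨_, ?_, rfl⟩
  rw [galW_comul, Algebra.TensorProduct.tmul_mul_tmul, mul_one, one_mul,
    Algebra.TensorProduct.map_tmul]
  rfl

variable [Module.Finite k A]
  (hnil : ∀ b ∈ B, CoalgebraStruct.counit (R := k) (A := A) b = 0 → IsNilpotent b)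

include hnil in
/-- Nakayama: lifts of a basis of `A/B⁺A` generate `A` over `B` -/
lemma exists_repr_of_basis {n : ℕ} (a : Fin n → A)
    (hspan : ⊤ ≤ Submodule.span k (Set.range fun j => Ideal.Quotient.mk (augSpan B) (a j))) (y : A) :
    ∃ b : Fin n → B, ∑ j, (b j : A) * a j = y := by
  classical
  let I : Ideal B := RingHom.ker (((Bialgebra.counitAlgHom k A).comp B.val : B →ₐ[k] k) : B →+* k)
  have hI : ∀ b : B, b ∈ I ↔ CoalgebraStruct.counit (R := k) (A := A) (b : A) = 0 := by
    intro b
    rw [RingHom.mem_ker]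
    rfl
  have hfinB : Module.Finite B A := Module.Finite.of_restrictScalars_finite k B A
  let N : Submodule B A := Submodule.span B (Set.range a)
  have hIJ : I ≤ Ideal.jacobson ⊥ := by
    intro b hb
    have h1 : IsNilpotent (b : A) := hnil b b.2 ((hI b).mp hb)
    have h2 : IsNilpotent b := by
      obtain ⟨m, hm⟩ := h1
      exact ⟨m, Subtype.ext (by rw [SubmonoidClass.coe_pow, hm]; rfl)⟩
    have h3 : b ∈ nilradical B := mem_nilradical.mpr h2
    exact Ideal.radical_le_jacobson h3
  have hJsub : ∀ z ∈ augSpan B, z ∈ (I • (⊤ : Submodule B A)) := by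
    intro z hz
    refine Submodule.span_induction (p := fun z _ => z ∈ (I • (⊤ : Submodule B A))) ?_ ?_ ?_ ?_ hz
    · rintro b ⟨hbB, hb0⟩
      have h1 : (⟨b, hbB⟩ : B) ∈ I := (hI _).mpr hb0
      have h2 := Submodule.smul_mem_smul h1 (Submodule.mem_top (x := (1 : A)))
      have h3 : (⟨b, hbB⟩ : B) • (1 : A) = b := by
        show b * 1 = b
        rw [mul_one]
      rw [h3] at h2
      exact h2
    · exact zero_mem _
    · intro x y _ _ hx hy
      exact add_mem hx hy
    · intro c x _ hx
      refine Submodule.smul_induction_on hx ?_ ?_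
      · intro r hr m _
        have h1 := Submodule.smul_mem_smul hr (Submodule.mem_top (x := c * m))
        have h2 : r • (c * m) = c • (r • m) := by
          show (r : A) * (c * m) = c * ((r : A) * m)
          ring
        rw [h2] at h1
        exact h1
      · intro x y hx hy
        rw [smul_add]
        exact add_mem hx hy
  have hNN : (⊤ : Submodule B A) ≤ N ⊔ I • ⊤ := by
    intro z _
    have h1 : Ideal.Quotient.mk (augSpan B) z ∈
        Submodule.span k (Set.range fun j => Ideal.Quotient.mk (augSpan B) (a j)) := hspan trivial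
    rw [Submodule.mem_span_range_iff_exists_fun] at h1
    obtain ⟨c, hc⟩ := h1
    have h2 : z - ∑ j, c j • a j ∈ augSpan B := by
      rw [← Ideal.Quotient.eq, map_sum, ← hc]
      refine Finset.sum_congr rfl fun j _ => ?_
      rw [Algebra.smul_def, Algebra.smul_def, map_mul]
      rfl
    have h3 : z = ∑ j, c j • a j + (z - ∑ j, c j • a j) := by ring
    rw [h3]
    apply Submodule.add_mem_sup _ (hJsub _ h2)
    apply Submodule.sum_mem
    intro j _
    have h4 : c j • a j = (algebraMap k B (c j)) • a j := by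
      rw [Algebra.smul_def, Algebra.smul_def]
      rfl
    rw [h4]
    exact Submodule.smul_mem _ _ (Submodule.subset_span ⟨j, rfl⟩)
  have hN : (⊤ : Submodule B A) ≤ N :=
    Submodule.le_of_le_smul_of_le_jacobson_bot (Module.finite_def.mp hfinB) hIJ hNN
  have hy : y ∈ N := hN trivial
  rw [Submodule.mem_span_range_iff_exists_fun] at hy
  obtain ⟨b, hb⟩ := hy
  exact ⟨b, hb⟩

include hΔ hnil in
/-- **Lagrange**: `dim A = dim B * dim A/B⁺A` -/
theorem finrank_eq_mul :
    Module.finrank k A = Module.finrank k B * Module.finrank k (A ⧸ augSpan B) := by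
  classical
  set n := Module.finrank k (A ⧸ augSpan B) with hn
  let e := Module.finBasis k (A ⧸ augSpan B)
  have hex : ∀ j, ∃ a : A, Ideal.Quotient.mk (augSpan B) a = e j := fun j =>
    Ideal.Quotient.mk_surjective (e j)
  choose a ha using hex
  have hspan : ⊤ ≤ Submodule.span k (Set.range fun j => Ideal.Quotient.mk (augSpan B) (a j)) := by
    have : (fun j => Ideal.Quotient.mk (augSpan B) (a j)) = e := funext ha
    rw [this, e.span_eq]
  have hrepr := exists_repr_of_basis B hnil a hspan
  -- the comparison map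
  let Ψ : (Fin n → A) →ₗ[k] A ⊗[k] (A ⧸ augSpan B) :=
    ∑ j, (LinearMap.mulRight k (gam B (a j))) ∘ₗ
      ((TensorProduct.mk k A (A ⧸ augSpan B)).flip 1) ∘ₗ (LinearMap.proj j)
  have hΨ : ∀ c : Fin n → A, Ψ c = ∑ j, (c j ⊗ₜ[k] (1 : A ⧸ augSpan B)) * gam B (a j) := by
    intro c
    simp only [Ψ, LinearMap.sum_apply, LinearMap.comp_apply, LinearMap.proj_apply,
      LinearMap.flip_apply, TensorProduct.mk_apply, LinearMap.mulRight_apply]
    rfl
  have hΨB : ∀ b : Fin n → B, Ψ (fun j => (b j : A)) = gam B (∑ j, (b j : A) * a j) := by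
    intro b
    rw [hΨ, map_sum]
    refine Finset.sum_congr rfl fun j _ => ?_
    rw [map_mul, gam_of_mem B hΔ (b j).2]
  have hΨsmul : ∀ (u : A) (c : Fin n → A), Ψ (fun j => u * c j) =
      (u ⊗ₜ[k] (1 : A ⧸ augSpan B)) * Ψ c := by
    intro u c
    rw [hΨ, hΨ, Finset.mul_sum]
    refine Finset.sum_congr rfl fun j _ => ?_
    rw [← mul_assoc, Algebra.TensorProduct.tmul_mul_tmul, mul_one]
  have hgam_mem : ∀ y : A, gam B y ∈ LinearMap.range Ψ := by
    intro y
    obtain ⟨b, hb⟩ := hrepr y
    exact ⟨fun j => (b j : A), by rw [hΨB, hb]⟩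
  have hsurj : Function.Surjective Ψ := by
    rw [← LinearMap.range_eq_top, eq_top_iff]
    rintro t -
    induction t using TensorProduct.induction_on with
    | zero => exact zero_mem _
    | tmul u v =>
      obtain ⟨c, rfl⟩ := Ideal.Quotient.mk_surjective v
      -- `u ⊗ π c = Σ (u S c₁ ⊗ 1) γ(c₂)`
      have key : ∀ t : A ⊗[k] A,
          (Algebra.TensorProduct.map (AlgHom.id k A) (Ideal.Quotient.mkₐ k (augSpan B)))
            ((u ⊗ₜ[k] (1 : A)) * galW (k := k) t) ∈ LinearMap.range Ψ := by
        intro t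
        induction t using TensorProduct.induction_on with
        | zero =>
          rw [map_zero, mul_zero, map_zero]
          exact zero_mem _
        | tmul x y =>
          rw [galW_tmul, ← mul_assoc, Algebra.TensorProduct.tmul_mul_tmul, mul_one, map_mul,
            Algebra.TensorProduct.map_tmul, map_one]
          obtain ⟨c', hc'⟩ := hgam_mem y
          refine ⟨fun j => (u * HopfAlgebraStruct.antipode k x) * c' j, ?_⟩
          rw [hΨsmul, hc']
          rfl
        | add x y hx hy =>
          rw [map_add, mul_add, map_add]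
          exact add_mem hx hy
      have h1 := key (CoalgebraStruct.comul (R := k) c)
      rw [galW_comul, Algebra.TensorProduct.tmul_mul_tmul, mul_one, one_mul,
        Algebra.TensorProduct.map_tmul] at h1
      exact h1
    | add x y hx hy => exact add_mem hx hy
  have hdim : Module.finrank k (Fin n → A) = Module.finrank k (A ⊗[k] (A ⧸ augSpan B)) := by
    rw [Module.finrank_pi_fintype, Module.finrank_tensorProduct, Finset.sum_const, Finset.card_univ,
      Fintype.card_fin, smul_eq_mul, mul_comm]
  have hinj : Function.Injective Ψ :=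
    (LinearMap.injective_iff_surjective_of_finrank_eq_finrank hdim).mpr hsurj
  -- the `B`-basis
  let φ : (Fin n → B) →ₗ[k] A :=
    ∑ j, (LinearMap.mulRight k (a j)) ∘ₗ B.val.toLinearMap ∘ₗ (LinearMap.proj j)
  have hφ : ∀ b : Fin n → B, φ b = ∑ j, (b j : A) * a j := by
    intro b
    simp only [φ, LinearMap.sum_apply, LinearMap.comp_apply, LinearMap.proj_apply,
      LinearMap.mulRight_apply, AlgHom.toLinearMap_apply, Subalgebra.coe_val]
    rfl
  have hφsurj : Function.Surjective φ := by
    intro y
    obtain ⟨b, hb⟩ := hrepr y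
    exact ⟨b, by rw [hφ, hb]⟩
  have hφinj : Function.Injective φ := by
    rw [← LinearMap.ker_eq_bot, LinearMap.ker_eq_bot']
    intro b hb
    have h1 : Ψ (fun j => (b j : A)) = 0 := by rw [hΨB, ← hφ, hb, map_zero]
    have h2 := hinj (h1.trans (map_zero Ψ).symm)
    funext j
    exact Subtype.ext (congrFun h2 j)
  have hequiv := LinearEquiv.ofBijective φ ⟨hφinj, hφsurj⟩
  rw [← hequiv.finrank_eq, Module.finrank_pi_fintype, Finset.sum_const, Finset.card_univ,
    Fintype.card_fin, smul_eq_mul, mul_comm]

end Lagrange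

end Groth.Agent.H9.FinHopf
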