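import Mathlib

/-!
# Hopf subalgebras as Hopf algebras (helper9)

For a commutative Hopf algebra `A` over a field `k` and a subalgebra `B ⊆ A` with
`Δ B ⊆ B ⊗ B` and `S B ⊆ B`, we construct the Hopf algebra structure on `B`.
-/

set_option autoImplicit false
set_option linter.unusedSectionVars false

universe u v

open TensorProduct

namespace Groth.Agent.H9.SubHopf

variable {k : Type u} [Field k] {A : Type v} [CommRing A] [HopfAlgebra k A]

/-- a Hopf subalgebra -/
structure IsSubHopf (B : Subalgebra k A) : Prop where
  comul_mem : ∀ b ∈ B, CoalgebraStruct.comul (R := k) (A := A) b ∈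
    LinearMap.range (TensorProduct.map B.val.toLinearMap B.val.toLinearMap)
  antipode_mem : ∀ b ∈ B, HopfAlgebraStruct.antipode k b ∈ B

variable (B : Subalgebra k A)

/-- `ι ⊗ ι` -/
noncomputable abbrev incl₂ : B ⊗[k] B →ₗ[k] A ⊗[k] A :=
  TensorProduct.map B.val.toLinearMap B.val.toLinearMap

lemma incl₂_injective : Function.Injective (incl₂ B) :=
  TensorProduct.map_injective_of_flat_flat (R := k) B.val.toLinearMap B.val.toLinearMap
    Subtype.val_injective Subtype.val_injective

/-- `ι ⊗ (ι ⊗ ι)` -/
noncomputable abbrev incl₃ : B ⊗[k] (B ⊗[k] B) →ₗ[k] A ⊗[k] (A ⊗[k] A) :=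
  TensorProduct.map B.val.toLinearMap (incl₂ B)

lemma incl₃_injective : Function.Injective (incl₃ B) :=
  TensorProduct.map_injective_of_flat_flat (R := k) B.val.toLinearMap (incl₂ B)
    Subtype.val_injective (incl₂_injective B)

variable {B} (hB : IsSubHopf B)

/-- the comultiplication of `B` -/
noncomputable def comulLin : B →ₗ[k] B ⊗[k] B :=
  (LinearEquiv.ofInjective (incl₂ B) (incl₂_injective B)).symm.toLinearMap ∘ₗ
    LinearMap.codRestrict (LinearMap.range (incl₂ B))
      ((CoalgebraStruct.comul (R := k) (A := A)) ∘ₗ B.val.toLinearMap)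
      (fun b => hB.comul_mem b b.2)

lemma incl₂_comulLin (b : B) :
    incl₂ B (comulLin hB b) = CoalgebraStruct.comul (R := k) (b : A) := by
  unfold comulLin
  rw [LinearMap.comp_apply]
  have := (LinearEquiv.ofInjective (incl₂ B) (incl₂_injective B)).apply_symm_apply
    (LinearMap.codRestrict (LinearMap.range (incl₂ B))
      ((CoalgebraStruct.comul (R := k) (A := A)) ∘ₗ B.val.toLinearMap)
      (fun b => hB.comul_mem b b.2) b)
  exact congrArg Subtype.val this

lemma incl₂_comp_comulLin :
    incl₂ B ∘ₗ comulLin hB = (CoalgebraStruct.comul (R := k) (A := A)) ∘ₗ B.val.toLinearMap :=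
  LinearMap.ext fun b => incl₂_comulLin hB b

/-- the counit of `B` -/
noncomputable def counitLin : B →ₗ[k] k :=
  (CoalgebraStruct.counit (R := k) (A := A)) ∘ₗ B.val.toLinearMap

/-- the coalgebra structure of a Hopf subalgebra -/
@[instance_reducible]
noncomputable def coalgebra : Coalgebra k B where
  comul := comulLin hB
  counit := counitLin (B := B)
  coassoc := by
    apply LinearMap.ext
    intro b
    apply incl₃_injective B
    have n1 : incl₃ B ∘ₗ (TensorProduct.assoc k B B B).toLinearMap =
        (TensorProduct.assoc k A A A).toLinearMap ∘ₗ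
          TensorProduct.map (incl₂ B) B.val.toLinearMap := by
      apply TensorProduct.ext_threefold
      intro x y z
      rfl
    have n2 : TensorProduct.map (incl₂ B) B.val.toLinearMap ∘ₗ (comulLin hB).rTensor B =
        (CoalgebraStruct.comul (R := k) (A := A)).rTensor A ∘ₗ incl₂ B := by
      rw [LinearMap.rTensor, ← TensorProduct.map_comp, incl₂_comp_comulLin, LinearMap.rTensor,
        ← TensorProduct.map_comp]
      rfl
    have n3 : incl₃ B ∘ₗ (comulLin hB).lTensor B =
        (CoalgebraStruct.comul (R := k) (A := A)).lTensor A ∘ₗ incl₂ B := by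
      rw [LinearMap.lTensor, ← TensorProduct.map_comp, incl₂_comp_comulLin, LinearMap.lTensor,
        ← TensorProduct.map_comp]
      rfl
    have e1 : incl₃ B ((TensorProduct.assoc k B B B).toLinearMap
        ((comulLin hB).rTensor B (comulLin hB b))) =
        (TensorProduct.assoc k A A A).toLinearMap
          ((CoalgebraStruct.comul (R := k) (A := A)).rTensor A
            (CoalgebraStruct.comul (R := k) (b : A))) := by
      rw [← LinearMap.comp_apply, n1, LinearMap.comp_apply, ← LinearMap.comp_apply
        (TensorProduct.map (incl₂ B) B.val.toLinearMap), n2, LinearMap.comp_apply, incl₂_comulLin]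
    have e2 : incl₃ B ((comulLin hB).lTensor B (comulLin hB b)) =
        (CoalgebraStruct.comul (R := k) (A := A)).lTensor A
          (CoalgebraStruct.comul (R := k) (b : A)) := by
      rw [← LinearMap.comp_apply, n3, LinearMap.comp_apply, incl₂_comulLin]
    simp only [LinearMap.comp_apply]
    rw [e1, e2]
    exact Coalgebra.coassoc_apply (b : A)
  rTensor_counit_comp_comul := by
    apply LinearMap.ext
    intro b
    have hinj : Function.Injective (B.val.toLinearMap.lTensor k) :=
      Module.Flat.lTensor_preserves_injective_linearMap _ Subtype.val_injective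
    apply hinj
    have n1 : B.val.toLinearMap.lTensor k ∘ₗ (counitLin (B := B)).rTensor B =
        (CoalgebraStruct.counit (R := k) (A := A)).rTensor A ∘ₗ incl₂ B := by
      apply TensorProduct.ext'
      intro x y
      rfl
    rw [LinearMap.comp_apply, ← LinearMap.comp_apply (B.val.toLinearMap.lTensor k), n1,
      LinearMap.comp_apply, incl₂_comulLin, Coalgebra.rTensor_counit_comul]
    rfl
  lTensor_counit_comp_comul := by
    apply LinearMap.ext
    intro b
    have hinj : Function.Injective (B.val.toLinearMap.rTensor k) :=
      Module.Flat.rTensor_preserves_injective_linearMap _ Subtype.val_injective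
    apply hinj
    have n1 : B.val.toLinearMap.rTensor k ∘ₗ (counitLin (B := B)).lTensor B =
        (CoalgebraStruct.counit (R := k) (A := A)).lTensor A ∘ₗ incl₂ B := by
      apply TensorProduct.ext'
      intro x y
      rfl
    rw [LinearMap.comp_apply, ← LinearMap.comp_apply (B.val.toLinearMap.rTensor k), n1,
      LinearMap.comp_apply, incl₂_comulLin, Coalgebra.lTensor_counit_comul]
    rfl

lemma incl₂_one : incl₂ B (1 : B ⊗[k] B) = 1 := rfl

lemma incl₂_mul (x y : B ⊗[k] B) : incl₂ B (x * y) = incl₂ B x * incl₂ B y :=
  map_mul (Algebra.TensorProduct.map B.val B.val) x y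

/-- the bialgebra structure of a Hopf subalgebra -/
@[instance_reducible]
noncomputable def bialgebra : Bialgebra k B :=
  letI := coalgebra hB
  Bialgebra.mk' k B
    (by
      show CoalgebraStruct.counit (R := k) (A := A) ((1 : B) : A) = 1
      rw [OneMemClass.coe_one, Bialgebra.counit_one])
    (by
      intro a b
      show CoalgebraStruct.counit (R := k) (A := A) ((a * b : B) : A) =
        CoalgebraStruct.counit (R := k) (A := A) (a : A) *
          CoalgebraStruct.counit (R := k) (A := A) (b : A)
      rw [MulMemClass.coe_mul, Bialgebra.counit_mul])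
    (by
      apply incl₂_injective B
      show incl₂ B (comulLin hB 1) = incl₂ B 1
      rw [incl₂_comulLin, incl₂_one, OneMemClass.coe_one, Bialgebra.comul_one])
    (by
      intro a b
      apply incl₂_injective B
      show incl₂ B (comulLin hB (a * b)) = incl₂ B (comulLin hB a * comulLin hB b)
      rw [incl₂_mul, incl₂_comulLin, incl₂_comulLin, incl₂_comulLin, MulMemClass.coe_mul,
        Bialgebra.comul_mul])

/-- the antipode of `B` -/
noncomputable def antipodeLin : B →ₗ[k] B where
  toFun b := ⟨HopfAlgebraStruct.antipode k (b : A), hB.antipode_mem b b.2⟩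
  map_add' x y := Subtype.ext (by simp)
  map_smul' c x := Subtype.ext (by simp)

/-- the Hopf algebra structure of a Hopf subalgebra -/
@[instance_reducible]
noncomputable def hopfAlgebra : HopfAlgebra k B :=
  letI := bialgebra hB
  { antipode := antipodeLin hB
    mul_antipode_rTensor_comul := by
      apply LinearMap.ext
      intro b
      apply Subtype.ext
      have n1 : B.val.toLinearMap ∘ₗ LinearMap.mul' k B = LinearMap.mul' k A ∘ₗ incl₂ B := by
        apply TensorProduct.ext'
        intro x y
        rfl
      have n2 : incl₂ B ∘ₗ (antipodeLin hB).rTensor B =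
          (HopfAlgebraStruct.antipode k (A := A)).rTensor A ∘ₗ incl₂ B := by
        apply TensorProduct.ext'
        intro x y
        rfl
      show B.val.toLinearMap (LinearMap.mul' k B ((antipodeLin hB).rTensor B (comulLin hB b))) =
        algebraMap k A (CoalgebraStruct.counit (R := k) (A := A) (b : A))
      rw [← LinearMap.comp_apply, n1, LinearMap.comp_apply, ← LinearMap.comp_apply (incl₂ B), n2,
        LinearMap.comp_apply, incl₂_comulLin, HopfAlgebra.mul_antipode_rTensor_comul_apply]
    mul_antipode_lTensor_comul := by
      apply LinearMap.ext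
      intro b
      apply Subtype.ext
      have n1 : B.val.toLinearMap ∘ₗ LinearMap.mul' k B = LinearMap.mul' k A ∘ₗ incl₂ B := by
        apply TensorProduct.ext'
        intro x y
        rfl
      have n2 : incl₂ B ∘ₗ (antipodeLin hB).lTensor B =
          (HopfAlgebraStruct.antipode k (A := A)).lTensor A ∘ₗ incl₂ B := by
        apply TensorProduct.ext'
        intro x y
        rfl
      show B.val.toLinearMap (LinearMap.mul' k B ((antipodeLin hB).lTensor B (comulLin hB b))) =
        algebraMap k A (CoalgebraStruct.counit (R := k) (A := A) (b : A))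
      rw [← LinearMap.comp_apply, n1, LinearMap.comp_apply, ← LinearMap.comp_apply (incl₂ B), n2,
        LinearMap.comp_apply, incl₂_comulLin, HopfAlgebra.mul_antipode_lTensor_comul_apply] }

end Groth.Agent.H9.SubHopf
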