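import Mathlib
import Groth.Agent.Lib.Helper9.FinHopf.HeightOne
import Groth.Agent.Lib.Helper9.FinHopf.Lagrange
import Groth.Agent.Lib.Helper9.FinHopf.SubHopf
import Groth.Agent.Lib.Helper9.CotGr.Cartier

/-!
# The order of a connected finite group scheme is a power of the characteristic (helper9)
-/

set_option autoImplicit false
set_option linter.unusedSectionVars false

universe u v

open TensorProduct

namespace Groth.Agent.H9.FinHopf

open Groth.Agent.H9.SubHopf

section SubHopfIdeal

variable {k : Type u} [Field k] {A : Type v} [CommRing A] [HopfAlgebra k A] {B : Subalgebra k A}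

lemma lid_map_counit_comul (a : A) :
    TensorProduct.lid k k (TensorProduct.map (CoalgebraStruct.counit (R := k) (A := A))
      (CoalgebraStruct.counit (R := k) (A := A)) (CoalgebraStruct.comul (R := k) a)) =
      CoalgebraStruct.counit (R := k) a := by
  have h1 : TensorProduct.map (CoalgebraStruct.counit (R := k) (A := A))
      (CoalgebraStruct.counit (R := k) (A := A)) =
      (CoalgebraStruct.counit (R := k) (A := A)).lTensor k ∘ₗ
        (CoalgebraStruct.counit (R := k) (A := A)).rTensor A := by
    apply TensorProduct.ext'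
    intro x y
    rfl
  rw [h1, LinearMap.comp_apply, Coalgebra.rTensor_counit_comul, LinearMap.lTensor_tmul,
    TensorProduct.lid_tmul, one_smul]

/-- `B⁺A` is a Hopf ideal for a Hopf subalgebra `B` -/
theorem isHopfIdeal_augSpan (hB : IsSubHopf B) : (augSpan B).IsHopfIdeal k := by
  set J := augSpan B with hJ
  -- counit
  have h1 : ∀ x ∈ J, CoalgebraStruct.counit (R := k) x = 0 := by
    have h2 : J ≤ RingHom.ker ((Bialgebra.counitAlgHom k A : A →ₐ[k] k) : A →+* k) := by
      apply Ideal.span_le.mpr
      rintro b ⟨_, hb0⟩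
      rw [SetLike.mem_coe, RingHom.mem_ker]
      exact hb0
    intro x hx
    have h2' : ((Bialgebra.counitAlgHom k A : A →ₐ[k] k) : A →+* k) x = 0 :=
      (RingHom.mem_ker).mp (h2 hx)
    exact h2'
  -- comultiplication
  let F : A →ₐ[k] (A ⧸ J) ⊗[k] (A ⧸ J) :=
    (Algebra.TensorProduct.map (Ideal.Quotient.mkₐ k J) (Ideal.Quotient.mkₐ k J)).comp
      (Bialgebra.comulAlgHom k A)
  have hkey : ∀ t : B ⊗[k] B,
      (Algebra.TensorProduct.map (Ideal.Quotient.mkₐ k J) (Ideal.Quotient.mkₐ k J))
        (incl₂ B t) =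
      (TensorProduct.lid k k (TensorProduct.map (CoalgebraStruct.counit (R := k) (A := A))
        (CoalgebraStruct.counit (R := k) (A := A)) (incl₂ B t))) •
          (1 : (A ⧸ J) ⊗[k] (A ⧸ J)) := by
    intro t
    induction t using TensorProduct.induction_on with
    | zero => simp
    | tmul x y =>
      show (Ideal.Quotient.mk J (x : A)) ⊗ₜ[k] (Ideal.Quotient.mk J (y : A)) = _
      rw [mk_eq_counit B x.2, mk_eq_counit B y.2, Algebra.algebraMap_eq_smul_one,
        Algebra.algebraMap_eq_smul_one, TensorProduct.smul_tmul_smul]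
      rfl
    | add x y hx hy =>
      rw [map_add, map_add, hx, hy, map_add, map_add, add_smul]
  have h3 : ∀ x ∈ J, F x = 0 := by
    have h4 : J ≤ RingHom.ker (F : A →+* (A ⧸ J) ⊗[k] (A ⧸ J)) := by
      apply Ideal.span_le.mpr
      rintro b ⟨hbB, hb0⟩
      rw [SetLike.mem_coe, RingHom.mem_ker]
      obtain ⟨t, ht⟩ := hB.comul_mem b hbB
      show (Algebra.TensorProduct.map (Ideal.Quotient.mkₐ k J) (Ideal.Quotient.mkₐ k J))
        (CoalgebraStruct.comul (R := k) b) = 0
      rw [← ht, hkey, ht, lid_map_counit_comul, hb0, zero_smul]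
    intro x hx
    exact (RingHom.mem_ker).mp (h4 hx)
  -- antipode
  have h5 : ∀ x ∈ J, HopfAlgebraStruct.antipode (R := k) x ∈ J := by
    have h6 : J ≤ Ideal.comap (HopfAlgebra.antipodeAlgHom k A : A →+* A) J := by
      apply Ideal.span_le.mpr
      rintro b ⟨hbB, hb0⟩
      rw [SetLike.mem_coe, Ideal.mem_comap]
      show HopfAlgebraStruct.antipode (R := k) b ∈ J
      apply Ideal.subset_span
      refine ⟨hB.antipode_mem b hbB, ?_⟩
      rw [HopfAlgebra.counit_antipode, hb0]
    intro x hx
    exact h6 hx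
  exact { counit_eq_zero := fun x hx => h1 x hx
          map_mkQ_comul_eq_zero := fun x hx => h3 x hx
          antipode_mem := fun x hx => h5 x hx }

/-- the coideal condition needed for Lagrange -/
lemma comul_mem_lTensor (hB : IsSubHopf B) (b : A) (hb : b ∈ B) :
    CoalgebraStruct.comul (R := k) (A := A) b ∈
      LinearMap.range (B.val.toLinearMap.lTensor A) := by
  obtain ⟨t, ht⟩ := hB.comul_mem b hb
  refine ⟨B.val.toLinearMap.rTensor B t, ?_⟩
  rw [← ht, ← LinearMap.comp_apply, LinearMap.lTensor_comp_rTensor]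

/-- a subalgebra whose augmentation ideal is nil is local -/
theorem isLocalRing_of_nil
    (hnil : ∀ b ∈ B, CoalgebraStruct.counit (R := k) (A := A) b = 0 → IsNilpotent b) :
    IsLocalRing B := by
  let ε : B →ₐ[k] k := (Bialgebra.counitAlgHom k A).comp B.val
  have hsurj : Function.Surjective (ε : B →+* k) := by
    intro c
    exact ⟨algebraMap k B c, by simp⟩
  have hmax : (RingHom.ker (ε : B →+* k)).IsMaximal := RingHom.ker_isMaximal_of_surjective _ hsurj
  apply IsLocalRing.of_unique_max_ideal
  refine ⟨RingHom.ker (ε : B →+* k), hmax, ?_⟩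
  intro m hm
  have hle : RingHom.ker (ε : B →+* k) ≤ m := by
    intro b hb
    have h1' : (ε : B →+* k) b = 0 := (RingHom.mem_ker).mp hb
    have h1 : CoalgebraStruct.counit (R := k) (A := A) (b : A) = 0 := h1'
    obtain ⟨n, hn⟩ := hnil b b.2 h1
    have h2 : b ^ n = 0 := Subtype.ext (by rw [SubmonoidClass.coe_pow, hn]; rfl)
    have h3 : b ^ n ∈ m := by rw [h2]; exact zero_mem _
    exact hm.isPrime.mem_of_pow_mem n h3
  exact (hmax.eq_of_le hm.ne_top hle).symm

end SubHopfIdeal

section Frob

variable {k : Type u} [Field k] (p : ℕ) [hp : Fact p.Prime] [CharP k p]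
  {A : Type v} [CommRing A] [HopfAlgebra k A]

/-- the subalgebra `k[A^p]` -/
def frobAdj : Subalgebra k A := Algebra.adjoin k (Set.range fun a : A => a ^ p)

include k in
omit [HopfAlgebra k A] in
lemma charP_of_algebra (R : Type*) [CommRing R] [Algebra k R] [Nontrivial R] : CharP R p :=
  charP_of_injective_algebraMap (algebraMap k R).injective p

lemma pow_mem_range_incl₂ (t : A ⊗[k] A) :
    t ^ p ∈ LinearMap.range (incl₂ (frobAdj (k := k) p (A := A))) := by
  have hnt : Nontrivial (A ⊗[k] A) := Bialgebra.nontrivial k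
  have hchar : CharP (A ⊗[k] A) p := charP_of_algebra (k := k) p _
  induction t using TensorProduct.induction_on with
  | zero =>
    rw [zero_pow hp.out.ne_zero]
    exact zero_mem _
  | tmul x y =>
    rw [Algebra.TensorProduct.tmul_pow]
    exact ⟨(⟨x ^ p, Algebra.subset_adjoin ⟨x, rfl⟩⟩ : frobAdj (k := k) p (A := A)) ⊗ₜ[k]
      (⟨y ^ p, Algebra.subset_adjoin ⟨y, rfl⟩⟩ : frobAdj (k := k) p (A := A)), rfl⟩
  | add x y hx hy =>
    rw [add_pow_char]
    exact add_mem hx hy

theorem isSubHopf_frobAdj : IsSubHopf (frobAdj (k := k) p (A := A)) := by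
  constructor
  · have h1 : frobAdj (k := k) p (A := A) ≤
        (Algebra.TensorProduct.map (frobAdj (k := k) p (A := A)).val
          (frobAdj (k := k) p (A := A)).val).range.comap (Bialgebra.comulAlgHom k A) := by
      apply Algebra.adjoin_le
      rintro _ ⟨a, rfl⟩
      rw [SetLike.mem_coe, Subalgebra.mem_comap, map_pow]
      obtain ⟨t, ht⟩ := pow_mem_range_incl₂ (k := k) p (Bialgebra.comulAlgHom k A a)
      exact ⟨t, ht⟩
    intro b hb
    obtain ⟨t, ht⟩ := h1 hb
    exact ⟨t, ht⟩
  · have h1 : frobAdj (k := k) p (A := A) ≤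
        (frobAdj (k := k) p (A := A)).comap (HopfAlgebra.antipodeAlgHom k A) := by
      apply Algebra.adjoin_le
      rintro _ ⟨a, rfl⟩
      rw [SetLike.mem_coe, Subalgebra.mem_comap, map_pow]
      exact Algebra.subset_adjoin ⟨_, rfl⟩
    intro b hb
    exact h1 hb

/-- `k[A^p] ⊆ k + I²` -/
lemma sub_counit_mem_sq {b : A} (hb : b ∈ frobAdj (k := k) p (A := A)) :
    b - algebraMap k A (CoalgebraStruct.counit (R := k) b) ∈
      (RingHom.ker (Bialgebra.counitAlgHom k A)) ^ 2 := by
  set I := RingHom.ker (Bialgebra.counitAlgHom k A) with hI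
  have hnt : Nontrivial A := Bialgebra.nontrivial k
  have hchar : CharP A p := charP_of_algebra (k := k) p _
  let φ₁ : A →ₐ[k] A ⧸ I ^ 2 := Ideal.Quotient.mkₐ k (I ^ 2)
  let φ₂ : A →ₐ[k] A ⧸ I ^ 2 := (Algebra.ofId k (A ⧸ I ^ 2)).comp (Bialgebra.counitAlgHom k A)
  have h1 : frobAdj (k := k) p (A := A) ≤ AlgHom.equalizer φ₁ φ₂ := by
    apply Algebra.adjoin_le
    rintro _ ⟨a, rfl⟩
    rw [SetLike.mem_coe, AlgHom.mem_equalizer]
    have hf : a - algebraMap k A (CoalgebraStruct.counit (R := k) a) ∈ I := by
      rw [hI, RingHom.mem_ker, map_sub]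
      show CoalgebraStruct.counit (R := k) a -
        CoalgebraStruct.counit (R := k) (algebraMap k A (CoalgebraStruct.counit (R := k) a)) = 0
      rw [Bialgebra.counit_algebraMap, sub_self]
    have h2 : (a - algebraMap k A (CoalgebraStruct.counit (R := k) a)) ^ p ∈ I ^ 2 :=
      Ideal.pow_le_pow_right hp.out.two_le (Ideal.pow_mem_pow hf p)
    rw [sub_pow_char] at h2
    have h3 : φ₁ (a ^ p) = φ₁ (algebraMap k A (CoalgebraStruct.counit (R := k) a) ^ p) :=
      Ideal.Quotient.eq.mpr h2
    rw [h3, ← map_pow, AlgHom.commutes]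
    show _ = algebraMap k (A ⧸ I ^ 2) (CoalgebraStruct.counit (R := k) (a ^ p))
    have h4 : CoalgebraStruct.counit (R := k) (a ^ p) = CoalgebraStruct.counit (R := k) a ^ p :=
      map_pow (Bialgebra.counitAlgHom k A) a p
    rw [h4]
  have h5 := h1 hb
  rw [AlgHom.mem_equalizer] at h5
  have h6 : φ₁ b = φ₁ (algebraMap k A (CoalgebraStruct.counit (R := k) b)) := by
    rw [h5, AlgHom.commutes]
    rfl
  exact Ideal.Quotient.eq.mp h6

lemma augSpan_frobAdj_le :
    augSpan (frobAdj (k := k) p (A := A)) ≤ (RingHom.ker (Bialgebra.counitAlgHom k A)) ^ 2 := by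
  apply Ideal.span_le.mpr
  rintro b ⟨hbB, hb0⟩
  have := sub_counit_mem_sq (k := k) p hbB
  rw [hb0, map_zero, sub_zero] at this
  exact this

lemma pow_mem_augSpan {a : A} (ha : CoalgebraStruct.counit (R := k) a = 0) :
    a ^ p ∈ augSpan (frobAdj (k := k) p (A := A)) := by
  apply Ideal.subset_span
  refine ⟨Algebra.subset_adjoin ⟨a, rfl⟩, ?_⟩
  have h4 : CoalgebraStruct.counit (R := k) (a ^ p) = CoalgebraStruct.counit (R := k) a ^ p :=
    map_pow (Bialgebra.counitAlgHom k A) a p
  rw [h4, ha, zero_pow hp.out.ne_zero]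

end Frob

section Main

variable (k : Type u) [Field k]

/-- in a finite-dimensional local Hopf algebra the augmentation ideal is nil -/
lemma isNilpotent_of_counit_eq_zero {A : Type v} [CommRing A] [HopfAlgebra k A]
    [Module.Finite k A] [IsLocalRing A] {f : A}
    (hf : CoalgebraStruct.counit (R := k) f = 0) : IsNilpotent f := by
  set I := RingHom.ker (Bialgebra.counitAlgHom k A) with hI
  have hsurj : Function.Surjective (Bialgebra.counitAlgHom k A) :=
    fun c => ⟨algebraMap k A c, by simp⟩
  have hImax : I.IsMaximal := RingHom.ker_isMaximal_of_surjective _ hsurj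
  have hIeq : I = IsLocalRing.maximalIdeal A := IsLocalRing.eq_maximalIdeal hImax
  have hart : IsArtinianRing A := IsArtinianRing.of_finite k A
  obtain ⟨N, hN⟩ := IsArtinianRing.isNilpotent_jacobson_bot (R := A)
  rw [IsLocalRing.jacobson_eq_maximalIdeal ⊥ bot_ne_top, ← hIeq] at hN
  refine ⟨N, ?_⟩
  have hfI : f ∈ I := by
    rw [hI, RingHom.mem_ker]
    exact hf
  have := Ideal.pow_mem_pow hfI N
  rw [hN] at this
  exact this

/-- if the augmentation ideal vanishes the Hopf algebra is `k` -/
lemma finrank_eq_one_of_ker_counit {A : Type v} [CommRing A] [HopfAlgebra k A]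
    (h : RingHom.ker (Bialgebra.counitAlgHom k A) = ⊥) : Module.finrank k A = 1 := by
  have hsurj : Function.Surjective (Bialgebra.counitAlgHom k A) :=
    fun c => ⟨algebraMap k A c, by simp⟩
  have hinj : Function.Injective (Bialgebra.counitAlgHom k A) :=
    (RingHom.injective_iff_ker_eq_bot _).mpr h
  have e : A ≃ₗ[k] k :=
    LinearEquiv.ofBijective (Bialgebra.counitAlgHom k A).toLinearMap ⟨hinj, hsurj⟩
  rw [e.finrank_eq, Module.finrank_self]

variable (p : ℕ) [hp : Fact p.Prime] [CharP k p]

theorem exists_finrank_eq_pow_aux : ∀ (d : ℕ) (A : Type v) [CommRing A] [HopfAlgebra k A]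
    [Module.Finite k A] [IsLocalRing A], Module.finrank k A = d → ∃ n : ℕ, d = p ^ n := by
  intro d
  induction d using Nat.strong_induction_on with
  | _ d ih =>
  intro A _ _ _ _ hd
  set I := RingHom.ker (Bialgebra.counitAlgHom k A) with hI
  have hsurj : Function.Surjective (Bialgebra.counitAlgHom k A) :=
    fun c => ⟨algebraMap k A c, by simp⟩
  have hImax : I.IsMaximal := RingHom.ker_isMaximal_of_surjective _ hsurj
  have hIeq : I = IsLocalRing.maximalIdeal A := IsLocalRing.eq_maximalIdeal hImax
  by_cases hI0 : I = ⊥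
  · refine ⟨0, ?_⟩
    rw [pow_zero, ← hd]
    exact finrank_eq_one_of_ker_counit k hI0
  · set B := frobAdj (k := k) p (A := A) with hBdef
    have hB : IsSubHopf B := isSubHopf_frobAdj p
    have hnil : ∀ b ∈ B, CoalgebraStruct.counit (R := k) (A := A) b = 0 → IsNilpotent b :=
      fun b _ hb0 => isNilpotent_of_counit_eq_zero k hb0
    have hlag := finrank_eq_mul B (comul_mem_lTensor hB) hnil
    have hHI : (augSpan B).IsHopfIdeal k := isHopfIdeal_augSpan hB
    have hq : ∃ r, Module.finrank k (A ⧸ augSpan B) = p ^ r := by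
      refine ⟨_, finrank_of_height_one p ?_⟩
      intro f hf
      obtain ⟨a, rfl⟩ := Ideal.Quotient.mk_surjective f
      have ha : CoalgebraStruct.counit (R := k) a = 0 := hf
      rw [← map_pow]
      exact Ideal.Quotient.eq_zero_iff_mem.mpr (pow_mem_augSpan (k := k) p ha)
    -- `B ≠ A`
    have hex : ∃ f ∈ I, f ∉ I ^ 2 := by
      by_contra hcon
      push Not at hcon
      apply hI0
      have hart : IsArtinianRing A := IsArtinianRing.of_finite k A
      have hnoeth : IsNoetherianRing A := inferInstance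
      have hfg : (I : Submodule A A).FG := IsNoetherian.noetherian I
      apply Submodule.eq_bot_of_le_smul_of_le_jacobson_bot I I hfg
      · intro f hf
        have := hcon f hf
        rw [pow_two] at this
        exact this
      · rw [IsLocalRing.jacobson_eq_maximalIdeal ⊥ bot_ne_top, hIeq]
    obtain ⟨f, hfI, hfI2⟩ := hex
    have hfB : f ∉ B := by
      intro hfB
      apply hfI2
      have h1 := sub_counit_mem_sq (k := k) p hfB
      have h2' : (Bialgebra.counitAlgHom k A) f = 0 := (RingHom.mem_ker).mp hfI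
      have h2 : CoalgebraStruct.counit (R := k) f = 0 := h2'
      rw [h2, map_zero, sub_zero] at h1
      exact h1
    have hlt : Module.finrank k B < d := by
      rw [← hd]
      have h1 : Subalgebra.toSubmodule B ≠ ⊤ := by
        intro h2
        apply hfB
        have : f ∈ Subalgebra.toSubmodule B := by rw [h2]; trivial
        exact this
      exact Submodule.finrank_lt h1
    let _ := hopfAlgebra hB
    have hloc : IsLocalRing B := isLocalRing_of_nil hnil
    obtain ⟨m, hm⟩ := ih (Module.finrank k B) hlt B rfl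
    obtain ⟨r, hr⟩ := hq
    exact ⟨m + r, by rw [← hd, hlag, hm, hr, pow_add]⟩

end Main

/-- **the order of a connected finite group scheme is a power of the characteristic exponent** -/
theorem exists_finrank_eq_ringExpChar_pow (k : Type u) (A : Type v) [Field k]
    [CommRing A] [HopfAlgebra k A] [Module.Finite k A] [IsLocalRing A] :
    ∃ n : ℕ, Module.finrank k A = ringExpChar k ^ n := by
  obtain ⟨q, hq⟩ := CharP.exists k
  rcases CharP.char_is_prime_or_zero k q with hp | h0
  · have hfact : Fact q.Prime := ⟨hp⟩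
    have hexp : ExpChar k q := ExpChar.prime hp
    have h1 : ringExpChar k = q := ringExpChar.eq k q
    obtain ⟨n, hn⟩ := exists_finrank_eq_pow_aux k q _ A rfl
    exact ⟨n, by rw [h1]; exact hn⟩
  · subst h0
    have hz : CharZero k := CharP.charP_to_charZero k
    have h1 : ringExpChar k = 1 := ringExpChar.eq_one k
    refine ⟨0, ?_⟩
    rw [pow_zero]
    have hred : IsReduced A := CotGr.isReduced_of_charZero k
    apply finrank_eq_one_of_ker_counit k
    rw [eq_bot_iff]
    intro f hf
    have hf0' : (Bialgebra.counitAlgHom k A) f = 0 := (RingHom.mem_ker).mp hf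
    have hf0 : CoalgebraStruct.counit (R := k) f = 0 := hf0'
    have := isNilpotent_of_counit_eq_zero k hf0
    rw [Ideal.mem_bot]
    exact hred.eq_zero _ this

end Groth.Agent.H9.FinHopf
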