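import Mathlib
import Groth.Agent.Lib.Helper9.FinHopf.Connected

/-!
# The reduced subgroup of a finite group scheme over a perfect field is a direct factor (helper9)
-/

set_option autoImplicit false
set_option linter.unusedSectionVars false

universe u v

open TensorProduct

namespace Groth.Agent.H9.FinHopf

section Semilin

variable {k : Type u} [Field k] (p : ℕ) [hp : Fact p.Prime] [CharP k p] [PerfectField k]
  {V : Type v} [AddCommGroup V] [Module k V] [Module.Finite k V]

include hp in
/-- an injective `p^n`-semilinear additive endomorphism of a finite-dimensional space over a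
perfect field is surjective -/
lemma surjective_of_semilinear (n : ℕ) (f : V →+ V)
    (hf : ∀ (c : k) (v : V), f (c • v) = c ^ p ^ n • f v) (hinj : Function.Injective f) :
    Function.Surjective f := by
  classical
  have hE : ExpChar k p := ExpChar.prime hp.out
  have hP : PerfectRing k p := PerfectField.toPerfectRing p
  have hroot : ∀ c : k, ∃ d : k, d ^ p ^ n = c := by
    intro c
    refine ⟨(iterateFrobeniusEquiv k p n).symm c, ?_⟩
    have := (iterateFrobeniusEquiv k p n).apply_symm_apply c
    rwa [iterateFrobeniusEquiv_apply, iterateFrobenius_def] at this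
  let b := Module.finBasis k V
  have hli : LinearIndependent k (fun i => f (b i)) := by
    rw [Fintype.linearIndependent_iff]
    intro g hg i
    choose d hd using fun j => hroot (g j)
    have h1 : f (∑ j, d j • b j) = 0 := by
      rw [map_sum, ← hg]
      refine Finset.sum_congr rfl fun j _ => ?_
      rw [hf, hd]
    have h2 : ∑ j, d j • b j = 0 := hinj (h1.trans (map_zero f).symm)
    have h3 := Fintype.linearIndependent_iff.mp b.linearIndependent d h2 i
    rw [← hd i, h3, zero_pow (pow_ne_zero n hp.out.ne_zero)]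
  have hsp : Submodule.span k (Set.range fun i => f (b i)) = ⊤ :=
    hli.span_eq_top_of_card_eq_finrank' (by simp)
  intro y
  have hy : y ∈ Submodule.span k (Set.range fun i => f (b i)) := by rw [hsp]; trivial
  obtain ⟨g, rfl⟩ := (Submodule.mem_span_range_iff_exists_fun k).mp hy
  choose d hd using fun j => hroot (g j)
  refine ⟨∑ j, d j • b j, ?_⟩
  rw [map_sum]
  refine Finset.sum_congr rfl fun j _ => ?_
  rw [hf, hd]

end Semilin

section Section

variable (k : Type u) [Field k] (p : ℕ) [hp : Fact p.Prime] [CharP k p] [PerfectField k]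
  (E : Type v) [CommRing E] [HopfAlgebra k E] [Module.Finite k E]
  [hN : (nilradical E).IsHopfIdeal k]

/-- the key data: an algebra section `σ` of `E → E_red` together with an exponent `q = p^n`
such that `σ (ā ^ q) = a ^ q` and every element of `E_red` is a `q`-th power -/
theorem exists_section_data :
    ∃ (n : ℕ) (σ : (E ⧸ nilradical E) →ₐ[k] E),
      (∀ a : E, σ (Ideal.Quotient.mk (nilradical E) a ^ p ^ n) = a ^ p ^ n) ∧
      (∀ y : E ⧸ nilradical E, ∃ a : E, y = Ideal.Quotient.mk (nilradical E) a ^ p ^ n) := by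
  classical
  set N := nilradical E with hNdef
  have hntE : Nontrivial E := Bialgebra.nontrivial k
  have hcharE : CharP E p := charP_of_algebra (k := k) p E
  have hEE : ExpChar E p := ExpChar.prime hp.out
  have hredQ : IsReduced (E ⧸ N) := by
    have : N.IsRadical := by
      rw [hNdef]
      exact Ideal.radical_isRadical _
    exact (Ideal.isRadical_iff_quotient_reduced N).mp this
  have hntQ : Nontrivial (E ⧸ N) := Bialgebra.nontrivial k
  have hcharQ : CharP (E ⧸ N) p := charP_of_algebra (k := k) p (E ⧸ N)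
  have hEQ : ExpChar (E ⧸ N) p := ExpChar.prime hp.out
  have hEk : ExpChar k p := ExpChar.prime hp.out
  have hPk : PerfectRing k p := PerfectField.toPerfectRing p
  have hart : IsArtinianRing E := IsArtinianRing.of_finite k E
  obtain ⟨m, hm⟩ := IsArtinianRing.isNilpotent_nilradical (R := E)
  -- exponent
  have hmn : m ≤ p ^ m := (Nat.lt_pow_self hp.out.one_lt).le
  have hkill : ∀ x ∈ N, x ^ p ^ m = 0 := by
    intro x hx
    have h1 : x ^ p ^ m ∈ N ^ p ^ m := Ideal.pow_mem_pow hx _
    have h2 : N ^ p ^ m ≤ N ^ m := Ideal.pow_le_pow_right hmn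
    have h3 := h2 h1
    rw [hm] at h3
    exact h3
  let frE : E →+* E := iterateFrobenius E p m
  let frbar : E ⧸ N →+* E := Ideal.Quotient.lift N frE (fun x hx => hkill x hx)
  let φ : E ⧸ N →+* E ⧸ N := iterateFrobenius (E ⧸ N) p m
  have hφinj : Function.Injective φ := by
    rw [injective_iff_map_eq_zero]
    intro y hy
    exact pow_eq_zero_iff (pow_ne_zero m hp.out.ne_zero) |>.mp hy
  have hφsurj : Function.Surjective φ := by
    apply surjective_of_semilinear (k := k) p m φ.toAddMonoidHom
    · intro c v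
      show (c • v) ^ p ^ m = c ^ p ^ m • v ^ p ^ m
      rw [smul_pow]
    · exact hφinj
  let φe : E ⧸ N ≃+* E ⧸ N := RingEquiv.ofBijective φ ⟨hφinj, hφsurj⟩
  let σ₀ : E ⧸ N →+* E := frbar.comp φe.symm.toRingHom
  have hσ₀ : ∀ a : E, σ₀ (Ideal.Quotient.mk N a ^ p ^ m) = a ^ p ^ m := by
    intro a
    have h1 : φe.symm (Ideal.Quotient.mk N a ^ p ^ m) = Ideal.Quotient.mk N a :=
      φe.symm_apply_apply (Ideal.Quotient.mk N a)
    show frbar (φe.symm (Ideal.Quotient.mk N a ^ p ^ m)) = _
    rw [h1]
    rfl
  have hcomm : ∀ c : k, σ₀ (algebraMap k (E ⧸ N) c) = algebraMap k E c := by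
    intro c
    obtain ⟨d, rfl⟩ : ∃ d : k, d ^ p ^ m = c := by
      refine ⟨(iterateFrobeniusEquiv k p m).symm c, ?_⟩
      have := (iterateFrobeniusEquiv k p m).apply_symm_apply c
      rwa [iterateFrobeniusEquiv_apply, iterateFrobenius_def] at this
    have h1 : algebraMap k (E ⧸ N) (d ^ p ^ m) = Ideal.Quotient.mk N (algebraMap k E d) ^ p ^ m := by
      rw [map_pow]
      rfl
    rw [h1, hσ₀, map_pow]
  let σ : (E ⧸ N) →ₐ[k] E := { σ₀ with commutes' := hcomm }
  refine ⟨m, σ, hσ₀, ?_⟩
  intro y
  obtain ⟨z, rfl⟩ := hφsurj y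
  obtain ⟨a, rfl⟩ := Ideal.Quotient.mk_surjective z
  exact ⟨a, rfl⟩

include hp in
/-- the quotient map onto the reduced quotient has a bialgebra section -/
theorem exists_bialgHom_section :
    ∃ σ : (E ⧸ nilradical E) →ₐc[k] E,
      (Bialgebra.Quotient.mkBialgHom (R := k) (nilradical E)).comp σ =
        BialgHom.id k (E ⧸ nilradical E) := by
  obtain ⟨n, σ, hσ, hpow⟩ := exists_section_data k p E
  have hπσ : ∀ y : E ⧸ (nilradical E), Ideal.Quotient.mk (nilradical E) (σ y) = y := by
    intro y
    obtain ⟨a, rfl⟩ := hpow y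
    rw [hσ, map_pow]
  have hcounit : (Bialgebra.counitAlgHom k E).comp σ = Bialgebra.counitAlgHom k (E ⧸ (nilradical E)) := by
    apply AlgHom.ext
    intro y
    have h1 : Bialgebra.counitAlgHom k (E ⧸ (nilradical E)) (Ideal.Quotient.mk (nilradical E) (σ y)) =
        Bialgebra.counitAlgHom k E (σ y) := rfl
    rw [AlgHom.comp_apply, ← h1, hπσ]
  have hntT : Nontrivial (E ⊗[k] E) := Bialgebra.nontrivial k
  have hcharT : CharP (E ⊗[k] E) p := charP_of_algebra (k := k) p _
  let G : E ⊗[k] E →ₐ[k] E ⊗[k] E :=
    Algebra.TensorProduct.map (σ.comp (Ideal.Quotient.mkₐ k (nilradical E))) (σ.comp (Ideal.Quotient.mkₐ k (nilradical E)))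
  have hG : ∀ t : E ⊗[k] E, G t ^ p ^ n = t ^ p ^ n := by
    intro t
    induction t using TensorProduct.induction_on with
    | zero => rw [map_zero]
    | tmul a b =>
      show ((σ (Ideal.Quotient.mk (nilradical E) a)) ⊗ₜ[k] (σ (Ideal.Quotient.mk (nilradical E) b))) ^ p ^ n = _
      rw [Algebra.TensorProduct.tmul_pow, Algebra.TensorProduct.tmul_pow, ← map_pow σ,
        ← map_pow σ, hσ, hσ]
    | add x y hx hy => rw [map_add, add_pow_char_pow, add_pow_char_pow, hx, hy]
  have hcomul : (Algebra.TensorProduct.map σ σ).comp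
      (Bialgebra.comulAlgHom k (E ⧸ (nilradical E))) = (Bialgebra.comulAlgHom k E).comp σ := by
    apply AlgHom.ext
    intro y
    obtain ⟨a, rfl⟩ := hpow y
    have h1 : Bialgebra.comulAlgHom k (E ⧸ (nilradical E)) (Ideal.Quotient.mk (nilradical E) a) =
        Algebra.TensorProduct.map (Ideal.Quotient.mkₐ k (nilradical E)) (Ideal.Quotient.mkₐ k (nilradical E))
          (Bialgebra.comulAlgHom k E a) := rfl
    have h2 : ∀ t : E ⊗[k] E, Algebra.TensorProduct.map σ σ
        (Algebra.TensorProduct.map (Ideal.Quotient.mkₐ k (nilradical E)) (Ideal.Quotient.mkₐ k (nilradical E)) t) = G t := by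
      intro t
      induction t using TensorProduct.induction_on with
      | zero => simp
      | tmul x y => rfl
      | add x y hx hy => simp only [map_add, hx, hy]
    rw [AlgHom.comp_apply, AlgHom.comp_apply, hσ, map_pow, map_pow, h1, map_pow]
    show (Algebra.TensorProduct.map σ σ (Algebra.TensorProduct.map (Ideal.Quotient.mkₐ k (nilradical E))
      (Ideal.Quotient.mkₐ k (nilradical E)) (Bialgebra.comulAlgHom k E a))) ^ p ^ n = _
    rw [h2, hG]
  refine ⟨BialgHom.ofAlgHom σ hcounit hcomul, ?_⟩
  apply BialgHom.ext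
  intro y
  exact hπσ y

end Section

end Groth.Agent.H9.FinHopf
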