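import Mathlib
import Groth.Agent.Lib.Helper9.FinHopf.RedSection
import Groth.Agent.Lib.Helper9.FinHopf.InvInt

/-!
# A finite group scheme over a perfect field is the semidirect product of its reduced subgroup
and an infinitesimal normal subgroup (helper9)
-/

set_option autoImplicit false
set_option linter.unusedSectionVars false

universe u v w

open TensorProduct WithConv

namespace Groth.Agent.H9.FinHopf

open Groth.Agent.H9 Groth.Agent.H9.SubHopf

section Antipode

variable {k : Type u} [CommRing k] {E : Type v} [CommRing E] [HopfAlgebra k E]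
  {B : Type w} [CommRing B] [HopfAlgebra k B]

/-- bialgebra homomorphisms commute with antipodes -/
lemma bialgHom_antipode (f : E →ₐc[k] B) (x : E) :
    f (HopfAlgebraStruct.antipode k x) = HopfAlgebraStruct.antipode k (f x) := by
  have h1 : toConv ((HopfAlgebra.antipodeAlgHom k B).comp (f : E →ₐ[k] B)) *
      toConv (f : E →ₐ[k] B) = 1 := by
    have h2 := AlgHom.convMul_comp_bialgHom_distrib (toConv (HopfAlgebra.antipodeAlgHom k B))
      (toConv (AlgHom.id k B)) f
    rw [AlgHom.antipode_id_cancel] at h2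
    apply WithConv.ofConv_injective
    rw [ofConv_toConv, ofConv_toConv, AlgHom.id_comp] at h2
    rw [← h2]
    apply AlgHom.ext
    intro y
    show algebraMap k B (CoalgebraStruct.counit (R := k) (f y)) =
      algebraMap k B (CoalgebraStruct.counit (R := k) y)
    rw [CoalgHomClass.counit_comp_apply]
  have h3 : toConv ((HopfAlgebra.antipodeAlgHom k B).comp (f : E →ₐ[k] B)) =
      (toConv (f : E →ₐ[k] B))⁻¹ := eq_inv_of_mul_eq_one_left h1
  have h4 := congrArg (fun g : WithConv (E →ₐ[k] B) => g.ofConv x) h3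
  exact h4.symm

end Antipode

section Idem

variable {C : Type v} [CommRing C] [IsArtinianRing C] [IsReduced C]

/-- in a reduced artinian ring every element is a unit multiple of an idempotent -/
lemma exists_idem_of_isReduced_artinian (b : C) :
    ∃ e : C, e * e = e ∧ e ∈ Ideal.span {b} ∧ b * e = b := by
  let f : ℕ →o (Ideal C)ᵒᵈ :=
    { toFun := fun n => OrderDual.toDual (Ideal.span {b ^ n})
      monotone' := by
        intro m n hmn
        show Ideal.span {b ^ n} ≤ Ideal.span {b ^ m}
        rw [Ideal.span_singleton_le_span_singleton]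
        exact pow_dvd_pow b hmn }
  obtain ⟨N, hN⟩ := IsArtinian.monotone_stabilizes f
  have hN' : ∀ m, N ≤ m → Ideal.span {b ^ N} = Ideal.span {b ^ m} := fun m hm => hN m hm
  set n := N + 1 with hn
  have h1 : Ideal.span {b ^ n} = Ideal.span {b ^ (2 * n)} := by
    rw [← hN' n (by omega), ← hN' (2 * n) (by omega)]
  have h2 : b ^ n ∈ Ideal.span {b ^ (2 * n)} := by
    rw [← h1]
    exact Ideal.subset_span rfl
  obtain ⟨c, hc⟩ := Ideal.mem_span_singleton'.mp h2
  -- hc : c * b ^ (2 * n) = b ^ n
  have hbb : b ^ (2 * n) = b ^ n * b ^ n := by rw [two_mul, pow_add]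
  refine ⟨b ^ n * c, ?_, ?_, ?_⟩
  · calc b ^ n * c * (b ^ n * c) = (c * b ^ (2 * n)) * c := by rw [hbb]; ring
      _ = b ^ n * c := by rw [hc]
  · rw [Ideal.mem_span_singleton]
    exact Dvd.dvd.mul_right (dvd_pow_self b (by omega)) c
  · have h3 : (b - b * (b ^ n * c)) ^ n = 0 := by
      have h4 : b - b * (b ^ n * c) = b * (1 - b ^ n * c) := by ring
      have h5 : (1 - b ^ n * c) * (1 - b ^ n * c) = 1 - b ^ n * c := by
        have : b ^ n * c * (b ^ n * c) = b ^ n * c := by
          calc b ^ n * c * (b ^ n * c) = (c * b ^ (2 * n)) * c := by rw [hbb]; ring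
            _ = b ^ n * c := by rw [hc]
        linear_combination this
      have h6 : (1 - b ^ n * c) ^ n = 1 - b ^ n * c := by
        have : IsIdempotentElem (1 - b ^ n * c) := h5
        exact this.pow_succ_eq N
      rw [h4, mul_pow, h6]
      linear_combination (-1 : C) * hc
    have h7 : b - b * (b ^ n * c) = 0 := IsReduced.eq_zero _ ⟨n, h3⟩
    linear_combination (-1 : C) * h7

end Idem

section Split

variable {k : Type u} [Field k] {E : Type v} [CommRing E] [HopfAlgebra k E]
  {B : Type w} [CommRing B] [HopfAlgebra k B]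
  (π : E →ₐc[k] B) (σ : B →ₐc[k] E) (hπσ : ∀ b, π (σ b) = b)

/-- the image of the section, a Hopf subalgebra -/
noncomputable abbrev secRange : Subalgebra k E := (σ : B →ₐ[k] E).range

lemma isSubHopf_secRange : IsSubHopf (secRange σ) := by
  constructor
  · rintro _ ⟨b, rfl⟩
    have h1 : ∀ t : B ⊗[k] B, TensorProduct.map (σ : B →ₗ[k] E) (σ : B →ₗ[k] E) t ∈
        LinearMap.range (TensorProduct.map (secRange σ).val.toLinearMap
          (secRange σ).val.toLinearMap) := by
      intro t
      induction t using TensorProduct.induction_on with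
      | zero => rw [map_zero]; exact zero_mem _
      | tmul x y =>
        exact ⟨(⟨σ x, ⟨x, rfl⟩⟩ : secRange σ) ⊗ₜ[k] (⟨σ y, ⟨y, rfl⟩⟩ : secRange σ), rfl⟩
      | add x y hx hy => rw [map_add]; exact add_mem hx hy
    have h2 : CoalgebraStruct.comul (R := k) (σ b) =
        TensorProduct.map (σ : B →ₗ[k] E) (σ : B →ₗ[k] E) (CoalgebraStruct.comul (R := k) b) :=
      (CoalgHomClass.map_comp_comul_apply σ b).symm
    show CoalgebraStruct.comul (R := k) (σ b) ∈ _
    rw [h2]
    exact h1 _
  · rintro _ ⟨b, rfl⟩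
    exact ⟨HopfAlgebraStruct.antipode k b, bialgHom_antipode σ b⟩

/-- the ideal of the kernel of the retraction `G → G_red` -/
noncomputable abbrev secIdeal : Ideal E := augSpan (secRange σ)

lemma isHopfIdeal_secIdeal : (secIdeal σ).IsHopfIdeal k :=
  isHopfIdeal_augSpan (isSubHopf_secRange σ)

lemma sigma_mem_secIdeal {b : B} (hb : CoalgebraStruct.counit (R := k) b = 0) :
    σ b ∈ secIdeal σ := by
  apply Ideal.subset_span
  refine ⟨⟨b, rfl⟩, ?_⟩
  rw [← hb]
  exact CoalgHomClass.counit_comp_apply σ b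

lemma sigma_sub_counit_mem (b : B) :
    σ b - algebraMap k E (CoalgebraStruct.counit (R := k) b) ∈ secIdeal σ := by
  have h1 : σ b - algebraMap k E (CoalgebraStruct.counit (R := k) b) =
      σ (b - algebraMap k B (CoalgebraStruct.counit (R := k) b)) := by
    rw [map_sub, AlgHomClass.commutes]
  rw [h1]
  apply sigma_mem_secIdeal
  rw [map_sub, Bialgebra.counit_algebraMap, sub_self]

omit [HopfAlgebra k E] in
/-- a `k`-algebra with a point whose kernel is nil is local -/
lemma isLocalRing_of_ker_nil [Algebra k E] (ε' : E →ₐ[k] k) (h : ∀ a, ε' a = 0 → IsNilpotent a) :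
    IsLocalRing E := by
  have hnt : Nontrivial E := by
    refine ⟨⟨0, 1, fun h01 => ?_⟩⟩
    have := congrArg ε' h01
    rw [map_zero, map_one] at this
    exact zero_ne_one this
  apply IsLocalRing.of_isUnit_or_isUnit_one_sub_self
  intro a
  by_cases h0 : ε' a = 0
  · right
    exact (h a h0).isUnit_one_sub
  · left
    have h1 : IsNilpotent (a - algebraMap k E (ε' a)) := by
      apply h
      rw [map_sub, AlgHom.commutes, Algebra.algebraMap_self_apply, sub_self]
    have h2 : IsUnit (algebraMap k E (ε' a)) := (IsUnit.mk0 _ h0).map (algebraMap k E)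
    have h3 := h1.isUnit_add_left_of_commute h2 (Commute.all _ _)
    rwa [add_sub_cancel] at h3

/-- the comparison map `E → B ⊗ E/J` -/
noncomputable abbrev psi (J : Ideal E) : E →ₐ[k] B ⊗[k] (E ⧸ J) :=
  (Algebra.TensorProduct.map (π : E →ₐ[k] B) (Ideal.Quotient.mkₐ k J)).comp
    (Bialgebra.comulAlgHom k E)

local instance : (secIdeal σ).IsHopfIdeal k := isHopfIdeal_secIdeal σ

include hπσ in
lemma isLocalRing_quotient_secIdeal (hker : ∀ x : E, π x = 0 → IsNilpotent x) :
    IsLocalRing (E ⧸ secIdeal σ) := by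
  apply isLocalRing_of_ker_nil (k := k) (Bialgebra.counitAlgHom k (E ⧸ secIdeal σ))
  intro q hq
  obtain ⟨a, rfl⟩ := Ideal.Quotient.mk_surjective q
  have hq' : CoalgebraStruct.counit (R := k) a = 0 := hq
  have h1 : σ (π a) ∈ secIdeal σ := by
    apply sigma_mem_secIdeal
    rw [CoalgHomClass.counit_comp_apply, hq']
  have h2 : IsNilpotent (a - σ (π a)) := by
    apply hker
    rw [map_sub, hπσ, sub_self]
  have h3 : Ideal.Quotient.mk (secIdeal σ) a = Ideal.Quotient.mk (secIdeal σ) (a - σ (π a)) := by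
    rw [map_sub, Ideal.Quotient.eq_zero_iff_mem.mpr h1, sub_zero]
  rw [h3]
  exact h2.map _

/-- `τ = (σπ)⁻¹ * id` in the convolution group -/
noncomputable def tauConv : WithConv (E →ₐ[k] E) :=
  (toConv ((σ : B →ₐ[k] E).comp (π : E →ₐ[k] B)))⁻¹ * toConv (AlgHom.id k E)

include hπσ in
lemma tauConv_comp_sigma :
    (tauConv π σ).ofConv.comp (σ : B →ₐ[k] E) = (1 : WithConv (B →ₐ[k] E)).ofConv := by
  have h1 := AlgHom.convMul_comp_bialgHom_distrib
    ((toConv ((σ : B →ₐ[k] E).comp (π : E →ₐ[k] B)))⁻¹) (toConv (AlgHom.id k E)) σ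
  have h2 : toConv (((toConv ((σ : B →ₐ[k] E).comp (π : E →ₐ[k] B)))⁻¹).ofConv.comp
      (σ : B →ₐ[k] E)) = (toConv (σ : B →ₐ[k] E))⁻¹ := by
    apply WithConv.ofConv_injective
    apply AlgHom.ext
    intro b
    show σ (π (HopfAlgebraStruct.antipode k (σ b))) = σ (HopfAlgebraStruct.antipode k b)
    rw [← bialgHom_antipode σ b, hπσ]
  rw [ofConv_toConv, AlgHom.id_comp, h2, inv_mul_cancel] at h1
  exact h1

include hπσ in
lemma tauConv_mem_secIdeal (x : E) (hx : x ∈ secIdeal σ) : (tauConv π σ).ofConv x = 0 := by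
  have h1 : secIdeal σ ≤ RingHom.ker ((tauConv π σ).ofConv : E →+* E) := by
    apply Ideal.span_le.mpr
    rintro _ ⟨⟨b, rfl⟩, hb0⟩
    rw [SetLike.mem_coe, RingHom.mem_ker]
    have h2 := congrArg (fun f : B →ₐ[k] E => f b) (tauConv_comp_sigma π σ hπσ)
    have h3 : CoalgebraStruct.counit (R := k) b = 0 := by
      rw [← hb0]
      exact (CoalgHomClass.counit_comp_apply σ b).symm
    have h4 : (tauConv π σ).ofConv (σ b) = algebraMap k E (CoalgebraStruct.counit (R := k) b) := h2
    show (tauConv π σ).ofConv (σ b) = 0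
    rw [h4, h3, map_zero]
  exact (RingHom.mem_ker).mp (h1 hx)

include hπσ in
/-- the comparison map for `secIdeal` is injective -/
lemma psi_secIdeal_injective : Function.Injective (psi π (secIdeal σ)) := by
  let τbar : E ⧸ secIdeal σ →ₐ[k] E :=
    Ideal.Quotient.liftₐ (secIdeal σ) (tauConv π σ).ofConv (tauConv_mem_secIdeal π σ hπσ)
  let Φ : B ⊗[k] (E ⧸ secIdeal σ) →ₐ[k] E :=
    (Algebra.TensorProduct.lmul' k).comp (Algebra.TensorProduct.map (σ : B →ₐ[k] E) τbar)
  have h1 : Φ.comp (psi π (secIdeal σ)) = AlgHom.id k E := by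
    have h2 : τbar.comp (Ideal.Quotient.mkₐ k (secIdeal σ)) = (tauConv π σ).ofConv :=
      Ideal.Quotient.liftₐ_comp _ _ _
    have h3 : Φ.comp (psi π (secIdeal σ)) =
        (toConv ((σ : B →ₐ[k] E).comp (π : E →ₐ[k] B)) * tauConv π σ).ofConv := by
      rw [AlgHom.convMul_def, ofConv_toConv, ofConv_toConv, ← h2, Algebra.TensorProduct.map_comp]
      rfl
    rw [h3, tauConv, mul_inv_cancel_left, ofConv_toConv]
  intro x y hxy
  have := congrArg Φ hxy
  rw [← AlgHom.comp_apply, ← AlgHom.comp_apply, h1] at this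
  exact this

include hπσ in
lemma psi_sigma (J : Ideal E) (hJ : secIdeal σ ≤ J) (b : B) :
    psi π J (σ b) = b ⊗ₜ[k] (1 : E ⧸ J) := by
  have h2 : CoalgebraStruct.comul (R := k) (σ b) =
      TensorProduct.map (σ : B →ₗ[k] E) (σ : B →ₗ[k] E) (CoalgebraStruct.comul (R := k) b) :=
    (CoalgHomClass.map_comp_comul_apply σ b).symm
  have h3 : ∀ t : B ⊗[k] B, Algebra.TensorProduct.map (π : E →ₐ[k] B) (Ideal.Quotient.mkₐ k J)
      (TensorProduct.map (σ : B →ₗ[k] E) (σ : B →ₗ[k] E) t) =
      (Algebra.linearMap k (E ⧸ J)).lTensor B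
        ((CoalgebraStruct.counit (R := k) (A := B)).lTensor B t) := by
    intro t
    induction t using TensorProduct.induction_on with
    | zero => simp
    | tmul x y =>
      have h4 : Ideal.Quotient.mk J (σ y) =
          algebraMap k (E ⧸ J) (CoalgebraStruct.counit (R := k) y) := by
        have h5 := hJ (sigma_sub_counit_mem σ y)
        rw [← Ideal.Quotient.eq_zero_iff_mem, map_sub, sub_eq_zero] at h5
        exact h5
      show (π (σ x)) ⊗ₜ[k] (Ideal.Quotient.mk J (σ y)) = _
      rw [hπσ, h4]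
      rfl
    | add x y hx hy => simp only [map_add, hx, hy]
  show Algebra.TensorProduct.map (π : E →ₐ[k] B) (Ideal.Quotient.mkₐ k J)
    (CoalgebraStruct.comul (R := k) (σ b)) = _
  rw [h2, h3, Coalgebra.lTensor_counit_comul, LinearMap.lTensor_tmul]
  simp

include hπσ in
/-- the comparison map is surjective for ideals containing `secIdeal` -/
lemma psi_surjective (J : Ideal E) (hJ : secIdeal σ ≤ J) : Function.Surjective (psi π J) := by
  have h1 : ∀ t : B ⊗[k] E, Algebra.TensorProduct.map (AlgHom.id k B) (Ideal.Quotient.mkₐ k J)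
      (theta (π : E →ₐ[k] B) t) ∈ (psi π J).range := by
    intro t
    induction t using TensorProduct.induction_on with
    | zero => rw [map_zero, map_zero]; exact zero_mem _
    | tmul b a =>
      refine ⟨σ b * a, ?_⟩
      show psi π J (σ b * a) = _
      rw [map_mul, psi_sigma π σ hπσ J hJ, theta_tmul, map_mul, Algebra.TensorProduct.map_tmul,
        map_one, AlgHom.id_apply, thetaG_apply]
      congr 1
      show Algebra.TensorProduct.map (π : E →ₐ[k] B) (Ideal.Quotient.mkₐ k J)
        (CoalgebraStruct.comul (R := k) a) =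
        Algebra.TensorProduct.map (AlgHom.id k B) (Ideal.Quotient.mkₐ k J)
          (Algebra.TensorProduct.map (π : E →ₐ[k] B) (AlgHom.id k E)
            (CoalgebraStruct.comul (R := k) a))
      generalize CoalgebraStruct.comul (R := k) a = s
      induction s using TensorProduct.induction_on with
      | zero => simp
      | tmul x y => rfl
      | add x y hx hy => simp only [map_add, hx, hy]
    | add x y hx hy => rw [map_add, map_add]; exact add_mem hx hy
  intro z
  obtain ⟨t', rfl⟩ := Algebra.TensorProduct.map_surjective (AlgHom.id k B)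
    (Ideal.Quotient.mkₐ k J) Function.surjective_id (Ideal.Quotient.mkₐ_surjective k J) z
  obtain ⟨t, rfl⟩ := theta_surjective (π : E →ₐ[k] B) t'
  exact h1 t

section Unique

variable [Module.Finite k E] [Module.Finite k B] [IsReduced B]

include hπσ in
lemma secIdeal_le (J : Ideal E) [J.IsHopfIdeal k] (hloc : IsLocalRing (E ⧸ J)) :
    secIdeal σ ≤ J := by
  have hart : IsArtinianRing B := IsArtinianRing.of_finite k B
  apply Ideal.span_le.mpr
  rintro _ ⟨⟨b, rfl⟩, hb0⟩
  have hb : CoalgebraStruct.counit (R := k) b = 0 := by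
    rw [← hb0]
    exact (CoalgHomClass.counit_comp_apply σ b).symm
  obtain ⟨e, he1, he2, he3⟩ := exists_idem_of_isReduced_artinian b
  obtain ⟨c, hc⟩ := Ideal.mem_span_singleton'.mp he2
  have hεe : CoalgebraStruct.counit (R := k) e = 0 := by
    rw [← hc, Bialgebra.counit_mul, hb, mul_zero]
  have hid : Ideal.Quotient.mk J (σ e) * Ideal.Quotient.mk J (σ e) = Ideal.Quotient.mk J (σ e) := by
    rw [← map_mul, ← map_mul, he1]
  have hσe : σ e ∈ J := by
    rcases IsLocalRing.isUnit_or_isUnit_one_sub_self (Ideal.Quotient.mk J (σ e)) with hu | hu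
    · exfalso
      have h1 : Ideal.Quotient.mk J (σ e) = 1 := by
        apply hu.mul_left_cancel
        rw [hid, mul_one]
      have h2 := congrArg (Bialgebra.counitAlgHom k (E ⧸ J)) h1
      have h3 : Bialgebra.counitAlgHom k (E ⧸ J) (Ideal.Quotient.mk J (σ e)) =
          CoalgebraStruct.counit (R := k) (σ e) := rfl
      rw [h3, CoalgHomClass.counit_comp_apply, hεe, map_one] at h2
      exact zero_ne_one h2
    · have h1 : Ideal.Quotient.mk J (σ e) * (1 - Ideal.Quotient.mk J (σ e)) = 0 := by
        rw [mul_sub, mul_one, hid, sub_self]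
      have h2 := (hu.mul_left_eq_zero).mp h1
      exact Ideal.Quotient.eq_zero_iff_mem.mp h2
  have h4 : σ b = σ b * σ e := by rw [← map_mul, he3]
  show σ b ∈ J
  rw [h4]
  exact J.mul_mem_left _ hσe

include hπσ in
/-- uniqueness of the infinitesimal complement -/
theorem eq_secIdeal (J : Ideal E) [J.IsHopfIdeal k] (hloc : IsLocalRing (E ⧸ J))
    (hbij : Function.Bijective (psi π J)) : J = secIdeal σ := by
  have hle := secIdeal_le π σ hπσ J hloc
  have hbijI : Function.Bijective (psi π (secIdeal σ)) :=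
    ⟨psi_secIdeal_injective π σ hπσ, psi_surjective π σ hπσ _ le_rfl⟩
  let e1 : E ≃ₗ[k] B ⊗[k] (E ⧸ J) := LinearEquiv.ofBijective (psi π J).toLinearMap hbij
  let e2 : E ≃ₗ[k] B ⊗[k] (E ⧸ secIdeal σ) :=
    LinearEquiv.ofBijective (psi π (secIdeal σ)).toLinearMap hbijI
  have h1 := e1.finrank_eq
  have h2 := e2.finrank_eq
  rw [Module.finrank_tensorProduct] at h1 h2
  have hntB : Nontrivial B := Bialgebra.nontrivial k
  have hBpos : 0 < Module.finrank k B := Module.finrank_pos
  have h3 : Module.finrank k (E ⧸ J) = Module.finrank k (E ⧸ secIdeal σ) :=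
    Nat.eq_of_mul_eq_mul_left hBpos (h1.symm.trans h2)
  let f : E ⧸ secIdeal σ →ₐ[k] E ⧸ J := Ideal.Quotient.factorₐ k hle
  have hfs : Function.Surjective f.toLinearMap := Ideal.Quotient.factor_surjective hle
  have hfi : Function.Injective f.toLinearMap :=
    (LinearMap.injective_iff_surjective_of_finrank_eq_finrank h3.symm).mpr hfs
  apply le_antisymm _ hle
  intro x hx
  have h4 : f (Ideal.Quotient.mk (secIdeal σ) x) = 0 := by
    show Ideal.Quotient.mk J x = 0
    exact Ideal.Quotient.eq_zero_iff_mem.mpr hx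
  have h4' : f.toLinearMap (Ideal.Quotient.mk (secIdeal σ) x) = f.toLinearMap 0 := by
    rw [map_zero]
    exact h4
  have h5 := hfi h4'
  exact Ideal.Quotient.eq_zero_iff_mem.mp h5

end Unique

end Split

section Main

variable (k : Type u) [Field k] (p : ℕ) [hp : Fact p.Prime] [CharP k p] [PerfectField k]
  (E : Type v) [CommRing E] [HopfAlgebra k E] [Module.Finite k E]
  [hN : (nilradical E).IsHopfIdeal k]

include hp in
/-- over a perfect field a finite group scheme is uniquely the product of its reduced subgroup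
and an infinitesimal subgroup -/
theorem existsUnique_local_complement :
    ∃! I : Ideal E, ∃ (_ : I.IsHopfIdeal k), IsLocalRing (E ⧸ I) ∧
      Function.Bijective ((Algebra.TensorProduct.map (Ideal.Quotient.mkₐ k (nilradical E))
        (Ideal.Quotient.mkₐ k I)).comp (Bialgebra.comulAlgHom k E)) := by
  obtain ⟨σ, hσ⟩ := exists_bialgHom_section k p E
  let π : E →ₐc[k] E ⧸ nilradical E := Bialgebra.Quotient.mkBialgHom (R := k) (nilradical E)
  have hπσ : ∀ b, π (σ b) = b := fun b => BialgHom.congr_fun hσ b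
  have hker : ∀ x, π x = 0 → IsNilpotent x := fun x hx =>
    mem_nilradical.mp (Ideal.Quotient.eq_zero_iff_mem.mp hx)
  have hred : IsReduced (E ⧸ nilradical E) :=
    (Ideal.isRadical_iff_quotient_reduced _).mp (Ideal.radical_isRadical _)
  refine ⟨secIdeal σ, ⟨isHopfIdeal_secIdeal σ, isLocalRing_quotient_secIdeal π σ hπσ hker,
    ⟨psi_secIdeal_injective π σ hπσ, psi_surjective π σ hπσ _ le_rfl⟩⟩, ?_⟩
  rintro J ⟨hJ, hloc, hbij⟩
  exact eq_secIdeal π σ hπσ J hloc hbij

end Main

end Groth.Agent.H9.FinHopf
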