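import Mathlib
import Groth.Agent.Lib.Helper9.FinHopf.RedSplit

/-!
# A monomorphism with trivial kernel of finite group schemes is an isomorphism (helper9)

Hopf form: an injective bialgebra map `f : B → A` of finite-dimensional commutative Hopf algebras
with `f(B⁺) A = A⁺` is bijective.
-/

set_option autoImplicit false
set_option linter.unusedSectionVars false

universe u v w

open TensorProduct

namespace Groth.Agent.H9.FinHopf

section ThetaS

variable {k : Type u} [CommRing k] {A : Type v} [CommRing A] [HopfAlgebra k A]

/-- `Σ a₁ S(a₂) ⊗ a₃ = 1 ⊗ a` -/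
lemma theta_antipode_comul (a : A) :
    theta (HopfAlgebra.antipodeAlgHom k A) (CoalgebraStruct.comul (R := k) a) =
      (1 : A) ⊗ₜ[k] a := by
  let M : A ⊗[k] (A ⊗[k] A) →ₗ[k] A ⊗[k] A :=
    (TensorProduct.map (LinearMap.mul' k A ∘ₗ
        (HopfAlgebraStruct.antipode k (A := A)).lTensor A) LinearMap.id) ∘ₗ
      (TensorProduct.assoc k A A A).symm.toLinearMap
  have h1 : ∀ t : A ⊗[k] A, theta (HopfAlgebra.antipodeAlgHom k A) t =
      M ((CoalgebraStruct.comul (R := k) (A := A)).lTensor A t) := by
    intro t
    induction t using TensorProduct.induction_on with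
    | zero => simp
    | tmul x y =>
      rw [theta_tmul, thetaG_apply, LinearMap.lTensor_tmul]
      generalize CoalgebraStruct.comul (R := k) y = s
      induction s using TensorProduct.induction_on with
      | zero => simp
      | tmul u v =>
        simp only [Algebra.TensorProduct.map_tmul, AlgHom.id_apply,
          Algebra.TensorProduct.tmul_mul_tmul, one_mul, M, LinearMap.comp_apply,
          LinearEquiv.coe_coe, TensorProduct.assoc_symm_tmul, TensorProduct.map_tmul,
          LinearMap.lTensor_tmul, LinearMap.mul'_apply, LinearMap.id_apply]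
        rfl
      | add s s' hs hs' => simp only [map_add, TensorProduct.tmul_add, mul_add, hs, hs']
    | add x y hx hy => simp only [map_add, hx, hy]
  have h2 : ∀ t : A ⊗[k] A,
      M ((TensorProduct.assoc k A A A) ((CoalgebraStruct.comul (R := k) (A := A)).rTensor A t)) =
        TensorProduct.map (LinearMap.mul' k A ∘ₗ
          (HopfAlgebraStruct.antipode k (A := A)).lTensor A ∘ₗ
            CoalgebraStruct.comul (R := k) (A := A)) LinearMap.id t := by
    intro t
    induction t using TensorProduct.induction_on with
    | zero => simp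
    | tmul x y =>
      simp only [LinearMap.rTensor_tmul, M, LinearMap.comp_apply, LinearEquiv.coe_coe,
        TensorProduct.map_tmul, LinearMap.id_apply]
      generalize CoalgebraStruct.comul (R := k) x = s
      induction s using TensorProduct.induction_on with
      | zero => simp
      | tmul u v => simp
      | add s s' hs hs' => simp only [map_add, TensorProduct.add_tmul, hs, hs']
    | add x y hx hy => simp only [map_add, hx, hy]
  rw [h1, ← Coalgebra.coassoc_apply, h2]
  have h3 : ∀ x : A, (LinearMap.mul' k A ∘ₗ
          (HopfAlgebraStruct.antipode k (A := A)).lTensor A ∘ₗ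
            CoalgebraStruct.comul (R := k) (A := A)) x =
      algebraMap k A (CoalgebraStruct.counit (R := k) x) := by
    intro x
    simp only [LinearMap.comp_apply]
    rw [HopfAlgebra.mul_antipode_lTensor_comul_apply]
  have h4 : ∀ t : A ⊗[k] A, TensorProduct.map (LinearMap.mul' k A ∘ₗ
          (HopfAlgebraStruct.antipode k (A := A)).lTensor A ∘ₗ
            CoalgebraStruct.comul (R := k) (A := A)) LinearMap.id t =
      (1 : A) ⊗ₜ[k] ((TensorProduct.lid k A)
        ((CoalgebraStruct.counit (R := k) (A := A)).rTensor A t)) := by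
    intro t
    induction t using TensorProduct.induction_on with
    | zero => simp
    | tmul x y =>
      rw [TensorProduct.map_tmul, h3, LinearMap.rTensor_tmul, TensorProduct.lid_tmul,
        LinearMap.id_apply, Algebra.algebraMap_eq_smul_one, TensorProduct.smul_tmul]
    | add x y hx hy => simp only [map_add, TensorProduct.tmul_add, hx, hy]
  rw [h4, Coalgebra.rTensor_counit_comul, TensorProduct.lid_tmul, one_smul]

end ThetaS

section Epi

variable {k : Type u} [CommRing k] {A : Type v} [CommRing A] [HopfAlgebra k A]
  {B : Type w} [CommRing B] [HopfAlgebra k B] (f : B →ₐc[k] A)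
  [Algebra B A] [IsScalarTower k B A] (hf : ∀ b : B, algebraMap B A b = f b)
  (hker : Ideal.map f (RingHom.ker (Bialgebra.counitAlgHom k B)) =
    RingHom.ker (Bialgebra.counitAlgHom k A))

/-- the canonical map `A ⊗[k] A → A ⊗[B] A` -/
noncomputable abbrev canB : A ⊗[k] A →ₐ[k] A ⊗[B] A :=
  Algebra.TensorProduct.mapOfCompatibleSMul B k k A A

/-- `c ↦ Σ S(c₁) ⊗_B c₂` -/
noncomputable abbrev thB : A →ₐ[k] A ⊗[B] A :=
  (canB (k := k) (A := A) (B := B)).comp (thetaG (HopfAlgebra.antipodeAlgHom k A))

include hf in
lemma thB_map (b : B) :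
    thB (k := k) (A := A) (B := B) (f b) =
      algebraMap k (A ⊗[B] A) (CoalgebraStruct.counit (R := k) b) := by
  have h1 : CoalgebraStruct.comul (R := k) (f b) =
      TensorProduct.map (f : B →ₗ[k] A) (f : B →ₗ[k] A) (CoalgebraStruct.comul (R := k) b) :=
    (CoalgHomClass.map_comp_comul_apply f b).symm
  have h2 : ∀ s : B ⊗[k] B, canB (k := k) (A := A) (B := B)
      (Algebra.TensorProduct.map (HopfAlgebra.antipodeAlgHom k A) (AlgHom.id k A)
        (TensorProduct.map (f : B →ₗ[k] A) (f : B →ₗ[k] A) s)) =
      (f (LinearMap.mul' k B ((HopfAlgebraStruct.antipode k (A := B)).rTensor B s))) ⊗ₜ[B]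
        (1 : A) := by
    intro s
    induction s using TensorProduct.induction_on with
    | zero => simp
    | tmul x y =>
      show (HopfAlgebraStruct.antipode k (f x)) ⊗ₜ[B] (f y) = _
      rw [LinearMap.rTensor_tmul, LinearMap.mul'_apply, map_mul]
      have h3 : y • (1 : A) = f y := by
        rw [Algebra.smul_def, mul_one, hf]
      calc (HopfAlgebraStruct.antipode k (f x)) ⊗ₜ[B] (f y)
          = (HopfAlgebraStruct.antipode k (f x)) ⊗ₜ[B] (y • (1 : A)) := by rw [h3]
        _ = (y • HopfAlgebraStruct.antipode k (f x)) ⊗ₜ[B] (1 : A) :=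
            (TensorProduct.smul_tmul y _ _).symm
        _ = (f (HopfAlgebraStruct.antipode k x) * f y) ⊗ₜ[B] (1 : A) := by
            rw [Algebra.smul_def, hf, ← bialgHom_antipode f x, mul_comm]
    | add x y hx hy => simp only [map_add, TensorProduct.add_tmul, hx, hy]
  show canB (k := k) (A := A) (B := B)
    (Algebra.TensorProduct.map (HopfAlgebra.antipodeAlgHom k A) (AlgHom.id k A)
      (CoalgebraStruct.comul (R := k) (f b))) = _
  rw [h1, h2, HopfAlgebra.mul_antipode_rTensor_comul_apply, AlgHomClass.commutes,
    Algebra.algebraMap_eq_smul_one, Algebra.algebraMap_eq_smul_one, Algebra.TensorProduct.one_def,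
    TensorProduct.smul_tmul']

include hf hker in
lemma thB_apply (c : A) :
    thB (k := k) (A := A) (B := B) c =
      algebraMap k (A ⊗[B] A) (CoalgebraStruct.counit (R := k) c) := by
  have h1 : RingHom.ker (Bialgebra.counitAlgHom k A) ≤
      RingHom.ker (thB (k := k) (A := A) (B := B) : A →+* A ⊗[B] A) := by
    rw [← hker]
    apply Ideal.map_le_iff_le_comap.mpr
    intro b hb
    have hb0' : Bialgebra.counitAlgHom k B b = 0 := (RingHom.mem_ker).mp hb
    have hb0 : CoalgebraStruct.counit (R := k) b = 0 := hb0'
    rw [Ideal.mem_comap, RingHom.mem_ker]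
    show thB (k := k) (A := A) (B := B) (f b) = 0
    rw [thB_map f hf, hb0, map_zero]
  have h2 : c - algebraMap k A (CoalgebraStruct.counit (R := k) c) ∈
      RingHom.ker (Bialgebra.counitAlgHom k A) := by
    rw [RingHom.mem_ker, map_sub]
    show CoalgebraStruct.counit (R := k) c -
      CoalgebraStruct.counit (R := k) (algebraMap k A (CoalgebraStruct.counit (R := k) c)) = 0
    rw [Bialgebra.counit_algebraMap, sub_self]
  have h3 := (RingHom.mem_ker).mp (h1 h2)
  have h4 : thB (k := k) (A := A) (B := B) (c - algebraMap k A (CoalgebraStruct.counit (R := k) c))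
      = 0 := h3
  rw [map_sub, AlgHom.commutes, sub_eq_zero] at h4
  exact h4

include hf hker in
/-- the structure map `B → A` is an epimorphism -/
lemma one_tmul_eq (a : A) : (1 : A) ⊗ₜ[B] a = a ⊗ₜ[B] (1 : A) := by
  have h1 : ∀ t : A ⊗[k] A, canB (k := k) (A := A) (B := B)
      (theta (HopfAlgebra.antipodeAlgHom k A) t) =
      (TensorProduct.rid k A ((CoalgebraStruct.counit (R := k) (A := A)).lTensor A t)) ⊗ₜ[B]
        (1 : A) := by
    intro t
    induction t using TensorProduct.induction_on with
    | zero => simp
    | tmul x y =>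
      rw [theta_tmul, map_mul]
      have h2 : canB (k := k) (A := A) (B := B) (thetaG (HopfAlgebra.antipodeAlgHom k A) y) =
          thB (k := k) (A := A) (B := B) y := rfl
      rw [h2, thB_apply f hf hker, LinearMap.lTensor_tmul, TensorProduct.rid_tmul]
      show (x ⊗ₜ[B] (1 : A)) * _ = _
      rw [Algebra.algebraMap_eq_smul_one, mul_smul_comm, mul_one, TensorProduct.smul_tmul']
    | add x y hx hy => simp only [map_add, TensorProduct.add_tmul, hx, hy]
  have h2 := h1 (CoalgebraStruct.comul (R := k) a)
  rw [theta_antipode_comul, Coalgebra.lTensor_counit_comul, TensorProduct.rid_tmul, one_smul] at h2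
  exact h2

end Epi

section Main

variable (k : Type u) [Field k] (A : Type v) (B : Type w)
  [CommRing A] [HopfAlgebra k A] [Module.Finite k A]
  [CommRing B] [HopfAlgebra k B]

/-- an injective bialgebra map with trivial kernel is bijective -/
theorem bijective_of_trivial_kernel (f : B →ₐc[k] A) (hinj : Function.Injective f)
    (hker : Ideal.map f (RingHom.ker (Bialgebra.counitAlgHom k B)) =
      RingHom.ker (Bialgebra.counitAlgHom k A)) :
    Function.Bijective f := by
  refine ⟨hinj, ?_⟩
  let _ : Algebra B A := (f : B →+* A).toAlgebra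
  have htower : IsScalarTower k B A := IsScalarTower.of_algebraMap_eq (fun c => by
    show algebraMap k A c = f (algebraMap k B c)
    rw [AlgHomClass.commutes])
  have hf : ∀ b : B, algebraMap B A b = f b := fun b => rfl
  have hfin : Module.Finite B A := Module.Finite.of_restrictScalars_finite k B A
  have hepi : Algebra.IsEpi B A :=
    (Algebra.isEpi_iff_forall_one_tmul_eq B A).mpr (one_tmul_eq f hf hker)
  exact Algebra.isEpi_iff_surjective_algebraMap_of_finite.mp hepi

end Main

end Groth.Agent.H9.FinHopf
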