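import Mathlib
import Groth.Agent.Lib.Helper9.FinHopf.TrivKer
import Groth.Agent.Lib.Helper9.FinHopf.Components
import Groth.Agent.Lib.Helper9.FinHopf.EtaleDualLocal
import Groth.Agent.Lib.Helper9.FinHopf.HeightOne

/-!
# A finite group scheme over a field is killed by its order (helper9)

Hopf form: for a finite-dimensional commutative Hopf algebra `A` over a field, the
`dim A`-th convolution power of the identity is the unit of the convolution monoid.
-/

set_option autoImplicit false
set_option linter.unusedSectionVars false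

universe u v w

open TensorProduct WithConv

namespace Groth.Agent.H9.FinHopf

section ThetaConv

variable {k : Type u} [CommRing k] {A : Type v} [CommRing A] [HopfAlgebra k A]
  {R' : Type w} [CommRing R'] [Algebra k R']

/-- `theta` turns convolution into composition -/
lemma theta_theta_conv_one_tmul (ι ι' : A →ₐ[k] R') (b : A) :
    theta ι (theta ι' ((1 : R') ⊗ₜ[k] b)) =
      theta (toConv ι' * toConv ι : WithConv (A →ₐ[k] R')).ofConv ((1 : R') ⊗ₜ[k] b) := by
  rw [theta_tmul ι', ← Algebra.TensorProduct.one_def, one_mul, thetaG_apply,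
    theta_tmul, ← Algebra.TensorProduct.one_def, one_mul, thetaG_apply]
  -- G (u ⊗ (v₁ ⊗ v₂)) = ι' u * ι v₁ ⊗ v₂
  let G : A ⊗[k] (A ⊗[k] A) →ₗ[k] R' ⊗[k] A :=
    (TensorProduct.map ((Algebra.TensorProduct.lmul' k (S := R')).toLinearMap ∘ₗ
      TensorProduct.map ι'.toLinearMap ι.toLinearMap) LinearMap.id) ∘ₗ
      (TensorProduct.assoc k A A A).symm.toLinearMap
  have h1 : ∀ t : A ⊗[k] A,
      theta ι (Algebra.TensorProduct.map ι' (AlgHom.id k A) t) =
        G ((CoalgebraStruct.comul (R := k) (A := A)).lTensor A t) := by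
    intro t
    induction t using TensorProduct.induction_on with
    | zero => simp
    | tmul x y =>
      rw [Algebra.TensorProduct.map_tmul, AlgHom.id_apply, theta_tmul, thetaG_apply,
        LinearMap.lTensor_tmul]
      generalize CoalgebraStruct.comul (R := k) y = s
      induction s using TensorProduct.induction_on with
      | zero => simp
      | tmul u v =>
        simp only [Algebra.TensorProduct.map_tmul, AlgHom.id_apply,
          Algebra.TensorProduct.tmul_mul_tmul, one_mul, G, LinearMap.comp_apply,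
          LinearEquiv.coe_coe, TensorProduct.assoc_symm_tmul, TensorProduct.map_tmul,
          AlgHom.toLinearMap_apply, Algebra.TensorProduct.lmul'_apply_tmul,
          LinearMap.id_apply]
      | add s s' hs hs' => simp only [map_add, TensorProduct.tmul_add, mul_add, hs, hs']
    | add x y hx hy => simp only [map_add, hx, hy]
  have h2 : ∀ t : A ⊗[k] A,
      G ((TensorProduct.assoc k A A A) ((CoalgebraStruct.comul (R := k) (A := A)).rTensor A t)) =
        Algebra.TensorProduct.map (toConv ι' * toConv ι : WithConv (A →ₐ[k] R')).ofConv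
          (AlgHom.id k A) t := by
    intro t
    induction t using TensorProduct.induction_on with
    | zero => simp
    | tmul x y =>
      simp only [LinearMap.rTensor_tmul, G, LinearMap.comp_apply, LinearEquiv.coe_coe,
        Algebra.TensorProduct.map_tmul, AlgHom.id_apply]
      have h3 : (toConv ι' * toConv ι : WithConv (A →ₐ[k] R')).ofConv x =
          (Algebra.TensorProduct.lmul' k (S := R'))
            (TensorProduct.map ι'.toLinearMap ι.toLinearMap
              (CoalgebraStruct.comul (R := k) x)) := rfl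
      rw [h3]
      generalize CoalgebraStruct.comul (R := k) x = s
      induction s using TensorProduct.induction_on with
      | zero => simp
      | tmul u v => simp
      | add s s' hs hs' => simp only [map_add, TensorProduct.add_tmul, hs, hs']
    | add x y hx hy => simp only [map_add, hx, hy]
  rw [h1, ← Coalgebra.coassoc_apply, h2]

lemma theta_theta_conv (ι ι' : A →ₐ[k] R') (x : R' ⊗[k] A) :
    theta ι (theta ι' x) =
      theta (toConv ι' * toConv ι : WithConv (A →ₐ[k] R')).ofConv x := by
  induction x using TensorProduct.induction_on with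
  | zero => simp
  | tmul r b =>
    have h1 : r ⊗ₜ[k] b = r • ((1 : R') ⊗ₜ[k] b) := by
      rw [TensorProduct.smul_tmul', smul_eq_mul, mul_one]
    rw [h1, map_smul, map_smul, map_smul, theta_theta_conv_one_tmul]
  | add x y hx hy => simp only [map_add, hx, hy]

lemma theta_one (x : R' ⊗[k] A) :
    theta (1 : WithConv (A →ₐ[k] R')).ofConv x = x := by
  induction x using TensorProduct.induction_on with
  | zero => simp
  | tmul r b =>
    have h1 : r ⊗ₜ[k] b = r • ((1 : R') ⊗ₜ[k] b) := by
      rw [TensorProduct.smul_tmul', smul_eq_mul, mul_one]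
    rw [h1, map_smul]
    congr 1
    rw [theta_tmul, ← Algebra.TensorProduct.one_def, one_mul, thetaG_apply]
    have h2 : ∀ t : A ⊗[k] A, Algebra.TensorProduct.map (1 : WithConv (A →ₐ[k] R')).ofConv
        (AlgHom.id k A) t = (1 : R') ⊗ₜ[k] (TensorProduct.lid k A
          ((CoalgebraStruct.counit (R := k) (A := A)).rTensor A t)) := by
      intro t
      induction t using TensorProduct.induction_on with
      | zero => simp
      | tmul x y =>
        rw [Algebra.TensorProduct.map_tmul, LinearMap.rTensor_tmul, TensorProduct.lid_tmul,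
          AlgHom.id_apply]
        show (algebraMap k R' (CoalgebraStruct.counit (R := k) x)) ⊗ₜ[k] y = _
        rw [Algebra.algebraMap_eq_smul_one, TensorProduct.smul_tmul]
      | add x y hx hy => simp only [map_add, TensorProduct.tmul_add, hx, hy]
    rw [h2, Coalgebra.rTensor_counit_comul, TensorProduct.lid_tmul, one_smul]
  | add x y hx hy => simp only [map_add, hx, hy]

lemma theta_iterate (ι : A →ₐ[k] R') (n : ℕ) (x : R' ⊗[k] A) :
    (theta ι)^[n] x = theta ((toConv ι : WithConv (A →ₐ[k] R')) ^ n).ofConv x := by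
  induction n generalizing x with
  | zero => rw [Function.iterate_zero, id_eq, pow_zero, theta_one]
  | succ n ih =>
    rw [Function.iterate_succ_apply', ih, theta_theta_conv, pow_succ]

/-- `id ⊗ ε` as an `R'`-algebra map -/
noncomputable def epsL : R' ⊗[k] A →ₐ[R'] R' :=
  Algebra.TensorProduct.lift (AlgHom.id R' R')
    ((Algebra.ofId k R').comp (Bialgebra.counitAlgHom k A)) (fun _ _ => Commute.all _ _)

lemma epsL_tmul (r : R') (a : A) :
    epsL (k := k) (r ⊗ₜ[k] a) = CoalgebraStruct.counit (R := k) a • r := by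
  rw [epsL, Algebra.TensorProduct.lift_tmul]
  simp [Algebra.ofId_apply, Algebra.smul_def, mul_comm]

lemma epsL_theta_one_tmul (ι : A →ₐ[k] R') (b : A) :
    epsL (k := k) (theta ι ((1 : R') ⊗ₜ[k] b)) = ι b := by
  rw [theta_tmul, ← Algebra.TensorProduct.one_def, one_mul, thetaG_apply]
  have h2 : ∀ t : A ⊗[k] A, epsL (k := k) (Algebra.TensorProduct.map ι (AlgHom.id k A) t) =
      ι (TensorProduct.rid k A ((CoalgebraStruct.counit (R := k) (A := A)).lTensor A t)) := by
    intro t
    induction t using TensorProduct.induction_on with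
    | zero => simp
    | tmul x y =>
      rw [Algebra.TensorProduct.map_tmul, LinearMap.lTensor_tmul, TensorProduct.rid_tmul,
        AlgHom.id_apply, epsL_tmul, map_smul]
    | add x y hx hy => simp only [map_add, hx, hy]
  rw [h2, Coalgebra.lTensor_counit_comul, TensorProduct.rid_tmul, one_smul]

/-- if `theta ι` is the identity then `ι` is the trivial point -/
lemma eq_one_of_theta_eq (ι : A →ₐ[k] R') (h : ∀ x, theta ι x = x) :
    (toConv ι : WithConv (A →ₐ[k] R')) = 1 := by
  apply WithConv.ofConv_injective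
  apply AlgHom.ext
  intro b
  have h1 := epsL_theta_one_tmul ι b
  rw [h, epsL_tmul] at h1
  show ι b = algebraMap k R' (CoalgebraStruct.counit (R := k) b)
  rw [← h1, Algebra.algebraMap_eq_smul_one]

end ThetaConv

section NilIndex

variable {k : Type u} [Field k] {B : Type v} [CommRing B] [Algebra k B] [Module.Finite k B]

/-- a nilpotent ideal of a finite-dimensional algebra is killed by the dimension -/
lemma pow_finrank_eq_bot (I : Ideal B) (hI : ∃ M : ℕ, I ^ M = ⊥) :
    I ^ (Module.finrank k B) = ⊥ := by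
  obtain ⟨M, hM⟩ := hI
  have key : ∀ j : ℕ, I ^ j = ⊥ ∨
      Module.finrank k ((I ^ j).restrictScalars k) + j ≤ Module.finrank k B := by
    intro j
    induction j with
    | zero =>
      right
      rw [pow_zero, Ideal.one_eq_top, add_zero]
      exact Submodule.finrank_le _
    | succ j ih =>
      by_cases hz : I ^ j = ⊥
      · left
        rw [pow_succ, hz, Ideal.bot_mul]
      · right
        rcases ih with h0 | hle
        · exact absurd h0 hz
        · have hlt : I ^ (j + 1) < I ^ j := by
            refine lt_of_le_of_ne (Ideal.pow_le_pow_right (Nat.le_succ j)) ?_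
            intro heq
            apply hz
            have hstab : ∀ t : ℕ, I ^ (j + t) = I ^ j := by
              intro t
              induction t with
              | zero => rfl
              | succ t iht => rw [← add_assoc, pow_succ, iht, ← pow_succ, heq]
            rw [← hstab M, add_comm, pow_add, hM, Ideal.bot_mul]
          have hlt' : (I ^ (j + 1)).restrictScalars k < (I ^ j).restrictScalars k := hlt
          have := Submodule.finrank_lt_finrank_of_lt hlt'
          omega
  rcases key (Module.finrank k B) with h | h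
  · exact h
  · have h0 : Module.finrank k ((I ^ (Module.finrank k B)).restrictScalars k) = 0 := by omega
    rw [Submodule.finrank_eq_zero] at h0
    rw [eq_bot_iff]
    intro x hx
    have hx' : x ∈ (I ^ (Module.finrank k B)).restrictScalars k := hx
    rw [h0] at hx'
    exact hx'

end NilIndex

section LocalCase

variable {k : Type u} [Field k] {B : Type v} [CommRing B] [HopfAlgebra k B]

/-- the submodule `I^j · (B ⊗ B)` of the left `B`-module `B ⊗ B` -/
noncomputable abbrev augSmul (j : ℕ) : Submodule B (B ⊗[k] B) :=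
  (RingHom.ker (Bialgebra.counitAlgHom k B)) ^ j • (⊤ : Submodule B (B ⊗[k] B))

lemma sub_one_tmul_mem (t : B ⊗[k] B) :
    t - (1 : B) ⊗ₜ[k] (TensorProduct.lid k B
      ((CoalgebraStruct.counit (R := k) (A := B)).rTensor B t)) ∈ augSmul (k := k) (B := B) 1 := by
  induction t using TensorProduct.induction_on with
  | zero => simp
  | tmul x y =>
    rw [LinearMap.rTensor_tmul, TensorProduct.lid_tmul, TensorProduct.tmul_smul]
    have h1 : x ⊗ₜ[k] y - CoalgebraStruct.counit (R := k) x • ((1 : B) ⊗ₜ[k] y) =
        (x - algebraMap k B (CoalgebraStruct.counit (R := k) x)) • ((1 : B) ⊗ₜ[k] y) := by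
      rw [TensorProduct.smul_tmul', TensorProduct.smul_tmul', smul_eq_mul, mul_one,
        TensorProduct.sub_tmul, Algebra.algebraMap_eq_smul_one]
    rw [h1]
    apply Submodule.smul_mem_smul _ Submodule.mem_top
    rw [pow_one, RingHom.mem_ker, map_sub]
    show CoalgebraStruct.counit (R := k) x -
      CoalgebraStruct.counit (R := k) (algebraMap k B (CoalgebraStruct.counit (R := k) x)) = 0
    rw [Bialgebra.counit_algebraMap, sub_self]
  | add x y hx hy =>
    have : x + y - (1 : B) ⊗ₜ[k] (TensorProduct.lid k B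
        ((CoalgebraStruct.counit (R := k) (A := B)).rTensor B (x + y))) =
      (x - (1 : B) ⊗ₜ[k] (TensorProduct.lid k B
        ((CoalgebraStruct.counit (R := k) (A := B)).rTensor B x))) +
      (y - (1 : B) ⊗ₜ[k] (TensorProduct.lid k B
        ((CoalgebraStruct.counit (R := k) (A := B)).rTensor B y))) := by
      rw [map_add, map_add, TensorProduct.tmul_add]
      abel
    rw [this]
    exact Submodule.add_mem _ hx hy

/-- `θ_id - 1` as a `B`-linear endomorphism of `B ⊗ B` -/
noncomputable def thetaD : Module.End B (B ⊗[k] B) :=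
  (theta (AlgHom.id k B)).toLinearMap - 1

lemma thetaD_apply (x : B ⊗[k] B) : thetaD (k := k) x = theta (AlgHom.id k B) x - x := rfl

lemma thetaD_mem (x : B ⊗[k] B) : thetaD (k := k) x ∈ augSmul (k := k) (B := B) 1 := by
  induction x using TensorProduct.induction_on with
  | zero => simp
  | tmul r b =>
    have h1 : r ⊗ₜ[k] b = r • ((1 : B) ⊗ₜ[k] b) := by
      rw [TensorProduct.smul_tmul', smul_eq_mul, mul_one]
    rw [h1, map_smul]
    apply Submodule.smul_mem
    rw [thetaD_apply, theta_tmul, ← Algebra.TensorProduct.one_def, one_mul, thetaG_apply]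
    have h : Algebra.TensorProduct.map (AlgHom.id k B) (AlgHom.id k B) = AlgHom.id k (B ⊗[k] B) :=
      Algebra.TensorProduct.map_id
    rw [h, AlgHom.id_apply]
    have h2 := sub_one_tmul_mem (k := k) (CoalgebraStruct.comul (R := k) b)
    rw [Coalgebra.rTensor_counit_comul, TensorProduct.lid_tmul, one_smul] at h2
    exact h2
  | add x y hx hy =>
    rw [map_add]
    exact Submodule.add_mem _ hx hy

lemma thetaD_map_mem (j : ℕ) {y : B ⊗[k] B} (hy : y ∈ augSmul (k := k) (B := B) j) :
    thetaD (k := k) y ∈ augSmul (k := k) (B := B) (j + 1) := by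
  refine Submodule.smul_induction_on hy ?_ ?_
  · intro c hc z _
    rw [map_smul]
    have h1 := thetaD_mem (k := k) z
    have h2 : c • thetaD (k := k) z ∈ (RingHom.ker (Bialgebra.counitAlgHom k B)) ^ j •
        ((RingHom.ker (Bialgebra.counitAlgHom k B)) ^ 1 • (⊤ : Submodule B (B ⊗[k] B))) :=
      Submodule.smul_mem_smul hc h1
    rw [← Submodule.mul_smul, ← pow_add] at h2
    exact h2
  · intro x y hx hy
    rw [map_add]
    exact Submodule.add_mem _ hx hy

lemma thetaD_pow_mem (j : ℕ) (x : B ⊗[k] B) :
    (thetaD (k := k) (B := B) ^ j) x ∈ augSmul (k := k) (B := B) j := by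
  induction j with
  | zero =>
    rw [pow_zero, augSmul, pow_zero, Ideal.one_eq_top, Submodule.top_smul]
    exact Submodule.mem_top
  | succ j ih =>
    rw [pow_succ', Module.End.mul_apply]
    exact thetaD_map_mem j ih

variable [Module.Finite k B] [IsLocalRing B]

/-- **local case**: a connected finite group scheme is killed by its order -/
theorem id_pow_finrank_of_isLocalRing :
    (toConv (AlgHom.id k B) : WithConv (B →ₐ[k] B)) ^ (Module.finrank k B) = 1 := by
  obtain ⟨r, hr⟩ := exists_finrank_eq_ringExpChar_pow k B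
  have hnil : ∃ M : ℕ, (RingHom.ker (Bialgebra.counitAlgHom k B)) ^ M = ⊥ := by
    apply exists_pow_eq_bot_of_forall_isNilpotent (k := k)
    intro f hf
    have hf' : (Bialgebra.counitAlgHom k B) f = 0 := (RingHom.mem_ker).mp hf
    exact isNilpotent_of_counit_eq_zero k hf'
  have hbot := pow_finrank_eq_bot (k := k) _ hnil
  have hD : thetaD (k := k) (B := B) ^ (Module.finrank k B) = 0 := by
    apply LinearMap.ext
    intro x
    have := thetaD_pow_mem (k := k) (Module.finrank k B) x
    rw [augSmul, hbot, Submodule.bot_smul, Submodule.mem_bot] at this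
    rw [this]
    rfl
  -- `(X - 1)^q = X^q - 1`
  have hexp : ExpChar (Polynomial k) (ringExpChar k) :=
    expChar_of_injective_algebraMap (Polynomial.C_injective (R := k)) (ringExpChar k)
  have hpoly : ((Polynomial.X : Polynomial k) - 1) ^ (ringExpChar k) ^ r =
      Polynomial.X ^ (ringExpChar k) ^ r - 1 := by
    rw [sub_pow_expChar_pow, one_pow]
  have h1 := congrArg (Polynomial.aeval ((theta (AlgHom.id k B)).toLinearMap :
    Module.End B (B ⊗[k] B))) hpoly
  rw [map_pow, map_sub, map_sub, map_pow, Polynomial.aeval_X, map_one, ← hr] at h1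
  have h2 : ((theta (AlgHom.id k B)).toLinearMap : Module.End B (B ⊗[k] B)) ^
      (Module.finrank k B) = 1 := by
    have h3 : ((theta (AlgHom.id k B)).toLinearMap : Module.End B (B ⊗[k] B)) - 1 =
        thetaD (k := k) (B := B) := rfl
    rw [h3, hD] at h1
    exact (sub_eq_zero.mp h1.symm)
  have h4 : ∀ x, theta ((toConv (AlgHom.id k B) : WithConv (B →ₐ[k] B)) ^
      (Module.finrank k B)).ofConv x = x := by
    intro x
    rw [← theta_iterate]
    have h5 := LinearMap.congr_fun h2 x
    rw [Module.End.pow_apply] at h5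
    exact h5
  exact eq_one_of_theta_eq _ h4

end LocalCase

section ConvPow

variable {k : Type u} [CommRing k] {C : Type v} [CommRing C] [Bialgebra k C]
  {A' : Type w} [CommRing A'] [Algebra k A']

lemma comp_convPow {B' : Type*} [CommRing B'] [Algebra k B'] (g : A' →ₐ[k] B')
    (f : WithConv (C →ₐ[k] A')) (n : ℕ) :
    g.comp (f ^ n).ofConv = ((toConv (g.comp f.ofConv) : WithConv (C →ₐ[k] B')) ^ n).ofConv := by
  induction n with
  | zero =>
    rw [pow_zero, pow_zero]
    apply AlgHom.ext
    intro c
    show g (algebraMap k A' (CoalgebraStruct.counit (R := k) c)) =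
      algebraMap k B' (CoalgebraStruct.counit (R := k) c)
    rw [AlgHom.commutes]
  | succ n ih =>
    rw [pow_succ, pow_succ, AlgHom.comp_convMul_distrib, ih]

lemma convPow_comp_bialgHom {D : Type*} [CommRing D] [Bialgebra k D] (f : WithConv (C →ₐ[k] A'))
    (π : D →ₐc[k] C) (n : ℕ) :
    (f ^ n).ofConv.comp (π : D →ₐ[k] C) =
      ((toConv (f.ofConv.comp (π : D →ₐ[k] C)) : WithConv (D →ₐ[k] A')) ^ n).ofConv := by
  induction n with
  | zero =>
    rw [pow_zero, pow_zero]
    apply AlgHom.ext
    intro c
    show algebraMap k A' (CoalgebraStruct.counit (R := k) (π c)) =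
      algebraMap k A' (CoalgebraStruct.counit (R := k) c)
    rw [CoalgHomClass.counit_comp_apply]
  | succ n ih =>
    rw [pow_succ, pow_succ, AlgHom.convMul_comp_bialgHom_distrib, ih]

end ConvPow

section Closed

variable {k : Type u} [Field k] {A : Type v} [CommRing A] [HopfAlgebra k A]

lemma sub_one_tmul_mem_map (t : A ⊗[k] A) :
    t - (1 : A) ⊗ₜ[k] (TensorProduct.lid k A
      ((CoalgebraStruct.counit (R := k) (A := A)).rTensor A t)) ∈
      Ideal.map (Algebra.TensorProduct.includeLeft : A →ₐ[k] A ⊗[k] A)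
        (RingHom.ker (Bialgebra.counitAlgHom k A)) := by
  induction t using TensorProduct.induction_on with
  | zero => simp
  | tmul x y =>
    rw [LinearMap.rTensor_tmul, TensorProduct.lid_tmul, TensorProduct.tmul_smul]
    have h1 : x ⊗ₜ[k] y - CoalgebraStruct.counit (R := k) x • ((1 : A) ⊗ₜ[k] y) =
        (Algebra.TensorProduct.includeLeft : A →ₐ[k] A ⊗[k] A)
          (x - algebraMap k A (CoalgebraStruct.counit (R := k) x)) * ((1 : A) ⊗ₜ[k] y) := by
      rw [Algebra.TensorProduct.includeLeft_apply, Algebra.TensorProduct.tmul_mul_tmul, mul_one,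
        one_mul, TensorProduct.sub_tmul, Algebra.algebraMap_eq_smul_one, TensorProduct.smul_tmul']
    rw [h1]
    apply Ideal.mul_mem_right
    apply Ideal.mem_map_of_mem
    rw [RingHom.mem_ker, map_sub]
    show CoalgebraStruct.counit (R := k) x -
      CoalgebraStruct.counit (R := k) (algebraMap k A (CoalgebraStruct.counit (R := k) x)) = 0
    rw [Bialgebra.counit_algebraMap, sub_self]
  | add x y hx hy =>
    have : x + y - (1 : A) ⊗ₜ[k] (TensorProduct.lid k A
        ((CoalgebraStruct.counit (R := k) (A := A)).rTensor A (x + y))) =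
      (x - (1 : A) ⊗ₜ[k] (TensorProduct.lid k A
        ((CoalgebraStruct.counit (R := k) (A := A)).rTensor A x))) +
      (y - (1 : A) ⊗ₜ[k] (TensorProduct.lid k A
        ((CoalgebraStruct.counit (R := k) (A := A)).rTensor A y))) := by
      rw [map_add, map_add, TensorProduct.tmul_add]
      abel
    rw [this]
    exact Ideal.add_mem _ hx hy

lemma comul_mem_sup {a : A} (ha : a ∈ RingHom.ker (Bialgebra.counitAlgHom k A)) :
    CoalgebraStruct.comul (R := k) a ∈
      Ideal.map (Algebra.TensorProduct.includeLeft : A →ₐ[k] A ⊗[k] A)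
        (RingHom.ker (Bialgebra.counitAlgHom k A)) ⊔
      Ideal.map (Algebra.TensorProduct.includeRight : A →ₐ[k] A ⊗[k] A)
        (RingHom.ker (Bialgebra.counitAlgHom k A)) := by
  have h1 := sub_one_tmul_mem_map (k := k) (CoalgebraStruct.comul (R := k) a)
  rw [Coalgebra.rTensor_counit_comul, TensorProduct.lid_tmul, one_smul] at h1
  have h2 : (1 : A) ⊗ₜ[k] a ∈
      Ideal.map (Algebra.TensorProduct.includeRight : A →ₐ[k] A ⊗[k] A)
        (RingHom.ker (Bialgebra.counitAlgHom k A)) := Ideal.mem_map_of_mem _ ha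
  have h3 : CoalgebraStruct.comul (R := k) a =
      (CoalgebraStruct.comul (R := k) a - (1 : A) ⊗ₜ[k] a) + (1 : A) ⊗ₜ[k] a := by abel
  rw [h3]
  exact Ideal.add_mem _ (Ideal.mem_sup_left h1) (Ideal.mem_sup_right h2)

/-- a stable power of the augmentation ideal is a Hopf ideal -/
theorem isHopfIdeal_aug_pow (N : ℕ) (hN : N ≠ 0)
    (hstab : (RingHom.ker (Bialgebra.counitAlgHom k A)) ^ N =
      (RingHom.ker (Bialgebra.counitAlgHom k A)) ^ (N + N)) :
    ((RingHom.ker (Bialgebra.counitAlgHom k A)) ^ N).IsHopfIdeal k := by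
  set J := (RingHom.ker (Bialgebra.counitAlgHom k A)) ^ N with hJ
  have hJI : J ≤ RingHom.ker (Bialgebra.counitAlgHom k A) := Ideal.pow_le_self hN
  let F : A →ₐ[k] (A ⧸ J) ⊗[k] (A ⧸ J) :=
    (Algebra.TensorProduct.map (Ideal.Quotient.mkₐ k J) (Ideal.Quotient.mkₐ k J)).comp
      (Bialgebra.comulAlgHom k A)
  have h1 : ∀ x ∈ J, CoalgebraStruct.counit (R := k) x = 0 := by
    intro x hx
    have hx' : (Bialgebra.counitAlgHom k A) x = 0 := (RingHom.mem_ker).mp (hJI hx)
    exact hx'
  have h3 : ∀ x ∈ J, F x = 0 := by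
    intro x hx
    rw [hstab] at hx
    have hle : Ideal.map (Bialgebra.comulAlgHom k A) (RingHom.ker (Bialgebra.counitAlgHom k A)) ≤
        Ideal.map (Algebra.TensorProduct.includeLeft : A →ₐ[k] A ⊗[k] A)
          (RingHom.ker (Bialgebra.counitAlgHom k A)) ⊔
        Ideal.map (Algebra.TensorProduct.includeRight : A →ₐ[k] A ⊗[k] A)
          (RingHom.ker (Bialgebra.counitAlgHom k A)) := by
      rw [Ideal.map_le_iff_le_comap]
      intro a ha
      exact comul_mem_sup ha
    have h4 : Bialgebra.comulAlgHom k A x ∈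
        (Ideal.map (Bialgebra.comulAlgHom k A)
          (RingHom.ker (Bialgebra.counitAlgHom k A))) ^ (N + N) := by
      rw [← Ideal.map_pow]
      exact Ideal.mem_map_of_mem _ hx
    have h5 := Ideal.sup_pow_add_le_pow_sup_pow (Ideal.pow_right_mono hle (N + N) h4)
    rw [← Ideal.map_pow, ← Ideal.map_pow, ← hJ] at h5
    have h6 : Ideal.map (Algebra.TensorProduct.includeLeft : A →ₐ[k] A ⊗[k] A) J ⊔
        Ideal.map (Algebra.TensorProduct.includeRight : A →ₐ[k] A ⊗[k] A) J ≤
        RingHom.ker (Algebra.TensorProduct.map (Ideal.Quotient.mkₐ k J)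
          (Ideal.Quotient.mkₐ k J)) := by
      apply sup_le
      · rw [Ideal.map_le_iff_le_comap]
        intro c hc
        rw [Ideal.mem_comap, RingHom.mem_ker]
        show Algebra.TensorProduct.map (Ideal.Quotient.mkₐ k J) (Ideal.Quotient.mkₐ k J)
          (c ⊗ₜ[k] (1 : A)) = 0
        have hc0 : (Ideal.Quotient.mkₐ k J) c = 0 := Ideal.Quotient.eq_zero_iff_mem.mpr hc
        rw [Algebra.TensorProduct.map_tmul, hc0, TensorProduct.zero_tmul]
      · rw [Ideal.map_le_iff_le_comap]
        intro c hc
        rw [Ideal.mem_comap, RingHom.mem_ker]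
        show Algebra.TensorProduct.map (Ideal.Quotient.mkₐ k J) (Ideal.Quotient.mkₐ k J)
          ((1 : A) ⊗ₜ[k] c) = 0
        have hc0 : (Ideal.Quotient.mkₐ k J) c = 0 := Ideal.Quotient.eq_zero_iff_mem.mpr hc
        rw [Algebra.TensorProduct.map_tmul, hc0, TensorProduct.tmul_zero]
    exact (RingHom.mem_ker).mp (h6 h5)
  have h5 : ∀ x ∈ J, HopfAlgebraStruct.antipode (R := k) x ∈ J := by
    intro x hx
    have hle : Ideal.map (HopfAlgebra.antipodeAlgHom k A)
        (RingHom.ker (Bialgebra.counitAlgHom k A)) ≤ RingHom.ker (Bialgebra.counitAlgHom k A) := by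
      rw [Ideal.map_le_iff_le_comap]
      intro a ha
      rw [Ideal.mem_comap, RingHom.mem_ker]
      show CoalgebraStruct.counit (R := k) (HopfAlgebraStruct.antipode (R := k) a) = 0
      rw [HopfAlgebra.counit_antipode]
      have ha' : (Bialgebra.counitAlgHom k A) a = 0 := (RingHom.mem_ker).mp ha
      exact ha'
    have h6 : HopfAlgebra.antipodeAlgHom k A x ∈
        (Ideal.map (HopfAlgebra.antipodeAlgHom k A)
          (RingHom.ker (Bialgebra.counitAlgHom k A))) ^ N := by
      rw [← Ideal.map_pow]
      exact Ideal.mem_map_of_mem _ hx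
    exact Ideal.pow_right_mono hle N h6
  exact { counit_eq_zero := fun x hx => h1 x hx
          map_mkQ_comul_eq_zero := fun x hx => h3 x hx
          antipode_mem := fun x hx => h5 x hx }

variable [IsAlgClosed k] [Module.Finite k A]

/-- **algebraically closed case** -/
theorem id_pow_finrank_of_isAlgClosed :
    (toConv (AlgHom.id k A) : WithConv (A →ₐ[k] A)) ^ (Module.finrank k A) = 1 := by
  classical
  have hart : IsArtinianRing A := IsArtinianRing.of_finite k A
  have hnoeth : IsNoetherianRing A := inferInstance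
  obtain ⟨N1, hN1⟩ := IsNoetherianRing.isNilpotent_nilradical A
  -- stabilisation of the powers of the augmentation ideal
  let f : ℕ →o (Ideal A)ᵒᵈ :=
    { toFun := fun j => OrderDual.toDual ((RingHom.ker (Bialgebra.counitAlgHom k A)) ^ j)
      monotone' := fun i j hij => Ideal.pow_le_pow_right hij }
  obtain ⟨N0, hN0⟩ := IsArtinian.monotone_stabilizes f
  have hN0' : ∀ j, N0 ≤ j → (RingHom.ker (Bialgebra.counitAlgHom k A)) ^ N0 =
      (RingHom.ker (Bialgebra.counitAlgHom k A)) ^ j := fun j hj => hN0 j hj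
  set N := max N0 N1 + 1 with hNdef
  have hNne : N ≠ 0 := Nat.succ_ne_zero _
  have hnilN : (nilradical A) ^ N = ⊥ := by
    rw [eq_bot_iff, ← Ideal.zero_eq_bot, ← hN1]
    exact Ideal.pow_le_pow_right (by omega)
  have hstab : (RingHom.ker (Bialgebra.counitAlgHom k A)) ^ N =
      (RingHom.ker (Bialgebra.counitAlgHom k A)) ^ (N + N) := by
    rw [← hN0' N (by omega), ← hN0' (N + N) (by omega)]
  have hHopf : ((RingHom.ker (Bialgebra.counitAlgHom k A)) ^ N).IsHopfIdeal k :=
    isHopfIdeal_aug_pow N hNne hstab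
  -- the quotient is local
  have hloc : IsLocalRing (A ⧸ (RingHom.ker (Bialgebra.counitAlgHom k A)) ^ N) := by
    apply isLocalRing_of_ker_nil (k := k)
      (Bialgebra.counitAlgHom k (A ⧸ (RingHom.ker (Bialgebra.counitAlgHom k A)) ^ N))
    intro q hq
    obtain ⟨a, rfl⟩ := Ideal.Quotient.mk_surjective q
    have hq' : CoalgebraStruct.counit (R := k) a = 0 := hq
    refine ⟨N, ?_⟩
    rw [← map_pow, Ideal.Quotient.eq_zero_iff_mem]
    apply Ideal.pow_mem_pow
    rw [RingHom.mem_ker]
    exact hq'
  have hcard := finrank_eq_card_mul (k := k) (A := A) N hnilN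
  have hfinG : Finite (A →ₐ[k] k) := EtaleUnip.finite_points
  -- the `m`-th power of the identity is trivial modulo the nilradical
  have hpt : ∀ (χ : A →ₐ[k] k),
      (toConv χ : WithConv (A →ₐ[k] k)) ^ (Nat.card (A →ₐ[k] k)) = 1 := by
    intro χ
    let _ : Group (WithConv (A →ₐ[k] k)) := pointsGroup k A k
    have hfin' : Finite (WithConv (A →ₐ[k] k)) :=
      Finite.of_equiv (A →ₐ[k] k) (WithConv.equiv _).symm
    have hc : Nat.card (WithConv (A →ₐ[k] k)) = Nat.card (A →ₐ[k] k) :=
      Nat.card_congr (WithConv.equiv _)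
    rw [← hc]
    exact pow_card_eq_one' (G := WithConv (A →ₐ[k] k))
  have hmem : ∀ a : A, ((toConv (AlgHom.id k A) : WithConv (A →ₐ[k] A)) ^
      (Nat.card (A →ₐ[k] k))).ofConv a -
        algebraMap k A (CoalgebraStruct.counit (R := k) a) ∈ nilradical A := by
    intro a
    apply mem_nilradical_of_forall_point (k := k)
    intro χ
    have h1 := comp_convPow χ (toConv (AlgHom.id k A) : WithConv (A →ₐ[k] A))
      (Nat.card (A →ₐ[k] k))
    have h2 : χ.comp (toConv (AlgHom.id k A) : WithConv (A →ₐ[k] A)).ofConv = χ := rfl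
    rw [h2, hpt χ] at h1
    have h3 := AlgHom.congr_fun h1 a
    rw [map_sub, AlgHom.commutes]
    have h4 : χ (((toConv (AlgHom.id k A) : WithConv (A →ₐ[k] A)) ^
        (Nat.card (A →ₐ[k] k))).ofConv a) =
        algebraMap k k (CoalgebraStruct.counit (R := k) a) := h3
    rw [h4, sub_self]
  -- hence it kills `I^N`
  have hkill : ∀ x ∈ (RingHom.ker (Bialgebra.counitAlgHom k A)) ^ N,
      ((toConv (AlgHom.id k A) : WithConv (A →ₐ[k] A)) ^
        (Nat.card (A →ₐ[k] k))).ofConv x = 0 := by
    intro x hx
    have hle : Ideal.map ((toConv (AlgHom.id k A) : WithConv (A →ₐ[k] A)) ^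
        (Nat.card (A →ₐ[k] k))).ofConv (RingHom.ker (Bialgebra.counitAlgHom k A)) ≤
        nilradical A := by
      rw [Ideal.map_le_iff_le_comap]
      intro a ha
      rw [Ideal.mem_comap]
      have ha' : CoalgebraStruct.counit (R := k) a = 0 := ha
      have := hmem a
      rw [ha', map_zero, sub_zero] at this
      exact this
    have h6 : ((toConv (AlgHom.id k A) : WithConv (A →ₐ[k] A)) ^
        (Nat.card (A →ₐ[k] k))).ofConv x ∈
        (Ideal.map ((toConv (AlgHom.id k A) : WithConv (A →ₐ[k] A)) ^
          (Nat.card (A →ₐ[k] k))).ofConv (RingHom.ker (Bialgebra.counitAlgHom k A))) ^ N := by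
      rw [← Ideal.map_pow]
      exact Ideal.mem_map_of_mem _ hx
    have h7 := Ideal.pow_right_mono hle N h6
    rw [hnilN] at h7
    exact h7
  -- factor through the quotient
  let hbar : (A ⧸ (RingHom.ker (Bialgebra.counitAlgHom k A)) ^ N) →ₐ[k] A :=
    Ideal.Quotient.liftₐ _ ((toConv (AlgHom.id k A) : WithConv (A →ₐ[k] A)) ^
      (Nat.card (A →ₐ[k] k))).ofConv hkill
  let π : A →ₐc[k] (A ⧸ (RingHom.ker (Bialgebra.counitAlgHom k A)) ^ N) :=
    Bialgebra.Quotient.mkBialgHom _
  have hfac : ((toConv (AlgHom.id k A) : WithConv (A →ₐ[k] A)) ^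
      (Nat.card (A →ₐ[k] k))) = toConv ((hbar.comp (AlgHom.id k _)).comp (π : A →ₐ[k] _)) := by
    apply WithConv.ofConv_injective
    apply AlgHom.ext
    intro a
    rfl
  have hlocal := id_pow_finrank_of_isLocalRing (k := k)
    (B := A ⧸ (RingHom.ker (Bialgebra.counitAlgHom k A)) ^ N)
  rw [hcard, pow_mul, hfac]
  apply WithConv.ofConv_injective
  have h8 := convPow_comp_bialgHom
    (toConv (hbar.comp (AlgHom.id k _)) : WithConv (_ →ₐ[k] A)) π
    (Module.finrank k (A ⧸ (RingHom.ker (Bialgebra.counitAlgHom k A)) ^ N))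
  have h9 := comp_convPow hbar
    (toConv (AlgHom.id k (A ⧸ (RingHom.ker (Bialgebra.counitAlgHom k A)) ^ N)))
    (Module.finrank k (A ⧸ (RingHom.ker (Bialgebra.counitAlgHom k A)) ^ N))
  rw [hlocal] at h9
  show ((toConv ((toConv (hbar.comp (AlgHom.id k _)) : WithConv (_ →ₐ[k] A)).ofConv.comp
    (π : A →ₐ[k] _)) : WithConv (A →ₐ[k] A)) ^ _).ofConv = _
  rw [← h8]
  show ((toConv (hbar.comp (toConv (AlgHom.id k
    (A ⧸ (RingHom.ker (Bialgebra.counitAlgHom k A)) ^ N))).ofConv) : WithConv (_ →ₐ[k] A)) ^
      _).ofConv.comp (π : A →ₐ[k] _) = _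
  rw [← h9]
  apply AlgHom.ext
  intro a
  show hbar (algebraMap k _ (CoalgebraStruct.counit (R := k) (π a))) =
    algebraMap k A (CoalgebraStruct.counit (R := k) a)
  rw [AlgHom.commutes]
  rfl

end Closed

section Descent

variable {k : Type u} [CommRing k] {A : Type v} [CommRing A] [HopfAlgebra k A]
  (K : Type w) [CommRing K] [Algebra k K]

/-- `a ↦ 1 ⊗ a` -/
noncomputable abbrev jmap : A →ₐ[k] K ⊗[k] A := Algebra.TensorProduct.includeRight

/-- `x ⊗ y ↦ (1 ⊗ x) ⊗_K (1 ⊗ y)` -/
noncomputable def jmap₂ : A ⊗[k] A →ₐ[k] (K ⊗[k] A) ⊗[K] (K ⊗[k] A) :=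
  (Algebra.TensorProduct.mapOfCompatibleSMul K k k (K ⊗[k] A) (K ⊗[k] A)).comp
    (Algebra.TensorProduct.map (jmap (k := k) (A := A) K) (jmap (k := k) (A := A) K))

lemma jmap₂_tmul (x y : A) :
    jmap₂ (k := k) K (x ⊗ₜ[k] y) = ((1 : K) ⊗ₜ[k] x) ⊗ₜ[K] ((1 : K) ⊗ₜ[k] y) := rfl

lemma comul_jmap (a : A) :
    CoalgebraStruct.comul (R := K) (jmap (k := k) (A := A) K a) =
      jmap₂ (k := k) K (CoalgebraStruct.comul (R := k) a) := by
  show CoalgebraStruct.comul (R := K) ((1 : K) ⊗ₜ[k] a) = _
  rw [TensorProduct.comul_tmul, CommSemiring.comul_apply]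
  generalize CoalgebraStruct.comul (R := k) a = s
  induction s using TensorProduct.induction_on with
  | zero => simp
  | tmul x y =>
    rw [jmap₂_tmul]
    rfl
  | add x y hx hy => rw [TensorProduct.tmul_add, map_add, hx, hy, map_add]

lemma counit_jmap (a : A) :
    CoalgebraStruct.counit (R := K) (jmap (k := k) (A := A) K a) =
      algebraMap k K (CoalgebraStruct.counit (R := k) a) := by
  show CoalgebraStruct.counit (R := K) ((1 : K) ⊗ₜ[k] a) = _
  rw [TensorProduct.counit_tmul, Algebra.algebraMap_eq_smul_one]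
  rfl

lemma convMul_jmap (F G : WithConv ((K ⊗[k] A) →ₐ[K] (K ⊗[k] A))) (f g : WithConv (A →ₐ[k] A))
    (hF : ∀ a, F.ofConv (jmap (k := k) (A := A) K a) = jmap (k := k) (A := A) K (f.ofConv a))
    (hG : ∀ a, G.ofConv (jmap (k := k) (A := A) K a) = jmap (k := k) (A := A) K (g.ofConv a))
    (a : A) :
    (F * G).ofConv (jmap (k := k) (A := A) K a) = jmap (k := k) (A := A) K ((f * g).ofConv a) := by
  have h1 := AlgHom.convMul_apply F G (jmap (k := k) (A := A) K a)
  have h2 := AlgHom.convMul_apply f g a
  have h1' : (F * G).ofConv (jmap (k := k) (A := A) K a) =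
      Algebra.TensorProduct.lift F.ofConv G.ofConv (fun _ _ => Commute.all _ _)
        (CoalgebraStruct.comul (R := K) (jmap (k := k) (A := A) K a)) := h1
  have h2' : (f * g).ofConv a =
      Algebra.TensorProduct.lift f.ofConv g.ofConv (fun _ _ => Commute.all _ _)
        (CoalgebraStruct.comul (R := k) a) := h2
  rw [h1', h2', comul_jmap]
  generalize CoalgebraStruct.comul (R := k) a = s
  induction s using TensorProduct.induction_on with
  | zero => simp
  | tmul x y =>
    rw [jmap₂_tmul, Algebra.TensorProduct.lift_tmul, Algebra.TensorProduct.lift_tmul, map_mul]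
    exact congrArg₂ (· * ·) (hF x) (hG y)
  | add x y hx hy => simp only [map_add, hx, hy]

lemma convPow_jmap (n : ℕ) (a : A) :
    ((toConv (AlgHom.id K (K ⊗[k] A)) : WithConv ((K ⊗[k] A) →ₐ[K] (K ⊗[k] A))) ^ n).ofConv
      (jmap (k := k) (A := A) K a) =
    jmap (k := k) (A := A) K (((toConv (AlgHom.id k A) : WithConv (A →ₐ[k] A)) ^ n).ofConv a) := by
  induction n generalizing a with
  | zero =>
    rw [pow_zero, pow_zero]
    show algebraMap K (K ⊗[k] A) (CoalgebraStruct.counit (R := K) (jmap (k := k) (A := A) K a)) =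
      jmap (k := k) (A := A) K (algebraMap k A (CoalgebraStruct.counit (R := k) a))
    rw [counit_jmap, AlgHom.commutes, ← IsScalarTower.algebraMap_apply]
  | succ n ih =>
    rw [pow_succ, pow_succ]
    exact convMul_jmap K _ _ _ _ ih (fun _ => rfl) a

end Descent

/-- **A finite group scheme over a field is killed by its order.** -/
theorem id_pow_finrank (k : Type u) [Field k] (A : Type v) [CommRing A] [HopfAlgebra k A]
    [Module.Finite k A] :
    (toConv (AlgHom.id k A) : WithConv (A →ₐ[k] A)) ^ (Module.finrank k A) = 1 := by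
  let K := AlgebraicClosure k
  have h1 := id_pow_finrank_of_isAlgClosed (k := K) (A := K ⊗[k] A)
  rw [Module.finrank_baseChange] at h1
  apply WithConv.ofConv_injective
  apply AlgHom.ext
  intro a
  have hinj : Function.Injective (jmap (k := k) (A := A) K) :=
    Algebra.TensorProduct.includeRight_injective (algebraMap k K).injective
  apply hinj
  rw [← convPow_jmap, h1]
  show algebraMap K (K ⊗[k] A) (CoalgebraStruct.counit (R := K) (jmap (k := k) (A := A) K a)) =
    jmap (k := k) (A := A) K (algebraMap k A (CoalgebraStruct.counit (R := k) a))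
  rw [counit_jmap, AlgHom.commutes, ← IsScalarTower.algebraMap_apply]

end Groth.Agent.H9.FinHopf
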