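import Mathlib
import Groth.Agent.Lib.Helper9.FinHopf.KillOrder

/-!
# Deligne's theorem: a commutative finite locally free group scheme is killed by its order
(helper9)
-/

set_option autoImplicit false
set_option linter.unusedSectionVars false

universe u v w

open TensorProduct WithConv

namespace Groth.Agent.H9.FinHopf

section DeligneFree

variable {R : Type u} [CommRing R] {A : Type v} [CommRing A] [HopfAlgebra R A]
  [Coalgebra.IsCocomm R A]

/-- the structure map `A → End_R(A)` (convolution ring), `c ↦ (a ↦ ε(a) c)` -/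
noncomputable def iotaS : A →ₐ[R] WithConv (A →ₗ[R] A) :=
  { toRingHom := algebraMap A (WithConv (A →ₗ[R] A))
    commutes' := fun r => by
      apply WithConv.ext
      apply LinearMap.ext
      intro c
      show (algebraMap A (WithConv (A →ₗ[R] A)) (algebraMap R A r)) c =
        (algebraMap R (WithConv (A →ₗ[R] A)) r) c
      rw [LinearMap.convAlgebraMap_apply, LinearMap.convAlgebraMap_apply, algebraMap_smul] }

lemma iotaS_apply (x a : A) :
    (iotaS (R := R) x) a = CoalgebraStruct.counit (R := R) a • x := by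
  show (algebraMap A (WithConv (A →ₗ[R] A)) x) a = _
  rw [LinearMap.convAlgebraMap_apply, Algebra.algebraMap_eq_smul_one, smul_comm, smul_eq_mul,
    mul_one]

variable [Module.Finite R A] [Module.Projective R A]

/-- `End_R(A) ⊗ A ≃ Hom_R(A, A ⊗ A)` -/
noncomputable def PsiL :
    (WithConv (A →ₗ[R] A)) ⊗[R] A ≃ₗ[R] WithConv (A →ₗ[R] A ⊗[R] A) :=
  (TensorProduct.congr (WithConv.linearEquiv R (A →ₗ[R] A)) (LinearEquiv.refl R A)) ≪≫ₗ
    (rTensorHomEquivHomRTensor R A A A) ≪≫ₗ (WithConv.linearEquiv R (A →ₗ[R] A ⊗[R] A)).symm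

lemma PsiL_tmul (s : WithConv (A →ₗ[R] A)) (b a : A) :
    (PsiL (R := R) (s ⊗ₜ[R] b)) a = s a ⊗ₜ[R] b := by
  simp [PsiL, rTensorHomToHomRTensor_apply]

lemma PsiL_mul (y y' : (WithConv (A →ₗ[R] A)) ⊗[R] A) :
    PsiL (R := R) (y * y') = PsiL (R := R) y * PsiL (R := R) y' := by
  induction y using TensorProduct.induction_on with
  | zero => simp
  | tmul s b =>
    induction y' using TensorProduct.induction_on with
    | zero => simp
    | tmul s' b' =>
      rw [Algebra.TensorProduct.tmul_mul_tmul]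
      apply WithConv.ext
      apply LinearMap.ext
      intro a
      show (PsiL (R := R) ((s * s') ⊗ₜ[R] (b * b'))) a =
        (PsiL (R := R) (s ⊗ₜ[R] b) * PsiL (R := R) (s' ⊗ₜ[R] b')) a
      rw [PsiL_tmul, LinearMap.convMul_apply, LinearMap.convMul_apply]
      generalize CoalgebraStruct.comul (R := R) a = t
      induction t using TensorProduct.induction_on with
      | zero => simp
      | tmul x z =>
        rw [TensorProduct.map_tmul, TensorProduct.map_tmul, LinearMap.mul'_apply,
          LinearMap.mul'_apply]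
        show (s x * s' z) ⊗ₜ[R] (b * b') =
          (PsiL (R := R) (s ⊗ₜ[R] b)) x * (PsiL (R := R) (s' ⊗ₜ[R] b')) z
        rw [PsiL_tmul, PsiL_tmul, Algebra.TensorProduct.tmul_mul_tmul]
      | add t t' ht ht' =>
        rw [map_add, map_add, TensorProduct.add_tmul, ht, ht', map_add, map_add]
    | add z z' hz hz' => rw [mul_add, map_add, hz, hz', map_add, mul_add]
  | add z z' hz hz' => rw [add_mul, map_add, hz, hz', map_add, add_mul]

lemma PsiL_one : PsiL (R := R) (1 : (WithConv (A →ₗ[R] A)) ⊗[R] A) = 1 := by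
  apply WithConv.ext
  apply LinearMap.ext
  intro a
  show (PsiL (R := R) ((1 : WithConv (A →ₗ[R] A)) ⊗ₜ[R] (1 : A))) a = _
  rw [PsiL_tmul]
  show (algebraMap R A (CoalgebraStruct.counit (R := R) a)) ⊗ₜ[R] (1 : A) =
    algebraMap R (A ⊗[R] A) (CoalgebraStruct.counit (R := R) a)
  rw [Algebra.TensorProduct.algebraMap_apply]

lemma PsiL_map_iotaS (t : A ⊗[R] A) :
    PsiL (R := R) (Algebra.TensorProduct.map (iotaS (R := R) (A := A)) (AlgHom.id R A) t) =
      algebraMap (A ⊗[R] A) (WithConv (A →ₗ[R] A ⊗[R] A)) t := by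
  induction t using TensorProduct.induction_on with
  | zero => simp
  | tmul x z =>
    apply WithConv.ext
    apply LinearMap.ext
    intro a
    show (PsiL (R := R) (iotaS (R := R) x ⊗ₜ[R] z)) a =
      (algebraMap (A ⊗[R] A) (WithConv (A →ₗ[R] A ⊗[R] A)) (x ⊗ₜ[R] z)) a
    rw [PsiL_tmul, iotaS_apply, LinearMap.convAlgebraMap_apply, Algebra.algebraMap_eq_smul_one,
      smul_comm, smul_eq_mul, mul_one, TensorProduct.smul_tmul']
  | add t t' ht ht' => rw [map_add, map_add, ht, ht', map_add]

lemma PsiL_theta (y : (WithConv (A →ₗ[R] A)) ⊗[R] A) (a : A) :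
    (PsiL (R := R) (theta (iotaS (R := R) (A := A)) y)) a =
      theta (AlgHom.id R A) ((PsiL (R := R) y) a) := by
  induction y using TensorProduct.induction_on with
  | zero => simp
  | tmul s b =>
    rw [theta_tmul, PsiL_mul, thetaG_apply, PsiL_map_iotaS, PsiL_tmul, theta_tmul, thetaG_apply]
    have h : Algebra.TensorProduct.map (AlgHom.id R A) (AlgHom.id R A) = AlgHom.id R (A ⊗[R] A) :=
      Algebra.TensorProduct.map_id
    rw [h, AlgHom.id_apply, ← Algebra.commutes, ← Algebra.smul_def]
    show CoalgebraStruct.comul (R := R) b • (PsiL (R := R) (s ⊗ₜ[R] (1 : A))) a = _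
    rw [PsiL_tmul, smul_eq_mul, mul_comm]
  | add z z' hz hz' =>
    rw [map_add, map_add, map_add]
    show (PsiL (R := R) (theta (iotaS (R := R) (A := A)) z)) a +
      (PsiL (R := R) (theta (iotaS (R := R) (A := A)) z')) a = _
    rw [hz, hz', ← map_add]
    rfl

/-- the element of `End(A) ⊗ A` corresponding to `a ↦ 1 ⊗ a` -/
noncomputable def xElt : (WithConv (A →ₗ[R] A)) ⊗[R] A :=
  (PsiL (R := R)).symm
    (toConv (Algebra.TensorProduct.includeRight : A →ₐ[R] A ⊗[R] A).toLinearMap)

/-- its inverse -/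
noncomputable def xInv : (WithConv (A →ₗ[R] A)) ⊗[R] A :=
  (PsiL (R := R)).symm
    (toConv ((Algebra.TensorProduct.includeRight : A →ₐ[R] A ⊗[R] A).toLinearMap ∘ₗ
      HopfAlgebraStruct.antipode R (A := A)))

lemma PsiL_xElt (a : A) : (PsiL (R := R) (xElt (R := R) (A := A))) a = (1 : A) ⊗ₜ[R] a := by
  rw [xElt, LinearEquiv.apply_symm_apply]
  rfl

lemma xElt_mul_xInv : xElt (R := R) (A := A) * xInv (R := R) (A := A) = 1 := by
  apply (PsiL (R := R)).injective
  rw [PsiL_mul, PsiL_one, xElt, xInv, LinearEquiv.apply_symm_apply, LinearEquiv.apply_symm_apply]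
  have h1 := LinearMap.algHom_comp_convMul_distrib
    (Algebra.TensorProduct.includeRight : A →ₐ[R] A ⊗[R] A)
    (toConv (LinearMap.id : A →ₗ[R] A)) (toConv (HopfAlgebraStruct.antipode R (A := A)))
  rw [LinearMap.id_mul_antipode] at h1
  apply WithConv.ofConv_injective
  have h2 : (toConv ((Algebra.TensorProduct.includeRight : A →ₐ[R] A ⊗[R] A).toLinearMap) *
      toConv ((Algebra.TensorProduct.includeRight : A →ₐ[R] A ⊗[R] A).toLinearMap ∘ₗ
        HopfAlgebraStruct.antipode R (A := A))).ofConv =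
      (Algebra.TensorProduct.includeRight : A →ₐ[R] A ⊗[R] A).toLinearMap ∘ₗ
        (1 : WithConv (A →ₗ[R] A)).ofConv := h1.symm
  rw [h2]
  apply LinearMap.ext
  intro a
  show (Algebra.TensorProduct.includeRight : A →ₐ[R] A ⊗[R] A)
    (algebraMap R A (CoalgebraStruct.counit (R := R) a)) =
      algebraMap R (A ⊗[R] A) (CoalgebraStruct.counit (R := R) a)
  rw [AlgHom.commutes]

lemma theta_xElt :
    theta (iotaS (R := R) (A := A)) (xElt (R := R) (A := A)) =
      (toConv (LinearMap.id : A →ₗ[R] A) ⊗ₜ[R] (1 : A)) * xElt (R := R) (A := A) := by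
  apply (PsiL (R := R)).injective
  apply WithConv.ext
  apply LinearMap.ext
  intro a
  show (PsiL (R := R) (theta (iotaS (R := R) (A := A)) (xElt (R := R) (A := A)))) a =
    (PsiL (R := R) ((toConv (LinearMap.id : A →ₗ[R] A) ⊗ₜ[R] (1 : A)) *
      xElt (R := R) (A := A))) a
  rw [PsiL_theta, PsiL_xElt, PsiL_mul, LinearMap.convMul_apply, theta_tmul,
    ← Algebra.TensorProduct.one_def, one_mul, thetaG_apply]
  have h : Algebra.TensorProduct.map (AlgHom.id R A) (AlgHom.id R A) = AlgHom.id R (A ⊗[R] A) :=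
    Algebra.TensorProduct.map_id
  rw [h, AlgHom.id_apply]
  generalize CoalgebraStruct.comul (R := R) a = t
  induction t using TensorProduct.induction_on with
  | zero => simp
  | tmul x z =>
    rw [TensorProduct.map_tmul, LinearMap.mul'_apply]
    show x ⊗ₜ[R] z = (PsiL (R := R) (toConv (LinearMap.id : A →ₗ[R] A) ⊗ₜ[R] (1 : A))) x *
      (PsiL (R := R) (xElt (R := R) (A := A))) z
    rw [PsiL_tmul, PsiL_xElt, Algebra.TensorProduct.tmul_mul_tmul, one_mul]
    show x ⊗ₜ[R] z = (x * 1) ⊗ₜ[R] z
    rw [mul_one]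
  | add t t' ht ht' => rw [map_add, map_add, ← ht, ← ht']

variable [Module.Free R A]

/-- **Deligne**, linear form, free case -/
theorem conv_id_pow_finrank_of_free :
    (toConv (LinearMap.id : A →ₗ[R] A)) ^ (Module.finrank R A) = 1 := by
  rcases subsingleton_or_nontrivial R with hsub | hntR
  · have hA : Subsingleton A := Module.subsingleton R A
    have hS : Subsingleton (WithConv (A →ₗ[R] A)) :=
      ⟨fun f g => WithConv.ext (LinearMap.ext fun a => Subsingleton.elim _ _)⟩
    exact Subsingleton.elim _ _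
  have hnt : Nontrivial A := Bialgebra.nontrivial R
  have hntS : Nontrivial (WithConv (A →ₗ[R] A)) := by
    refine ⟨⟨0, 1, fun h01 => ?_⟩⟩
    have h2 : (0 : WithConv (A →ₗ[R] A)).ofConv (1 : A) =
        (1 : WithConv (A →ₗ[R] A)).ofConv (1 : A) := by
      rw [h01]
    have h4 : (1 : WithConv (A →ₗ[R] A)).ofConv (1 : A) =
        algebraMap R A (CoalgebraStruct.counit (R := R) (1 : A)) := rfl
    have h3 : CoalgebraStruct.counit (R := R) (1 : A) = 1 := Bialgebra.counit_one
    have h5 : (0 : WithConv (A →ₗ[R] A)).ofConv (1 : A) = 0 := rfl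
    rw [h4, h3, h5, (algebraMap R A).map_one] at h2
    exact zero_ne_one h2
  let τ := thetaEquiv (iotaS (R := R) (A := A))
  have h1 : Algebra.norm (WithConv (A →ₗ[R] A)) (τ (xElt (R := R) (A := A))) =
      Algebra.norm (WithConv (A →ₗ[R] A)) (xElt (R := R) (A := A)) :=
    Algebra.norm_eq_of_algEquiv τ _
  have h2 : τ (xElt (R := R) (A := A)) =
      algebraMap (WithConv (A →ₗ[R] A)) ((WithConv (A →ₗ[R] A)) ⊗[R] A)
        (toConv (LinearMap.id : A →ₗ[R] A)) * xElt (R := R) (A := A) := by
    show theta (iotaS (R := R) (A := A)) (xElt (R := R) (A := A)) = _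
    rw [theta_xElt, Algebra.TensorProduct.algebraMap_apply]
    rfl
  rw [h2, map_mul, Algebra.norm_algebraMap, Module.finrank_baseChange] at h1
  have h3 : IsUnit (Algebra.norm (WithConv (A →ₗ[R] A)) (xElt (R := R) (A := A))) := by
    have h4 := congrArg (Algebra.norm (WithConv (A →ₗ[R] A))) (xElt_mul_xInv (R := R) (A := A))
    rw [map_mul, map_one] at h4
    exact IsUnit.of_mul_eq_one _ h4
  exact h3.mul_right_cancel (by rw [h1, one_mul])

/-- **Deligne**, free case -/
theorem id_pow_finrank_of_free :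
    (toConv (AlgHom.id R A) : WithConv (A →ₐ[R] A)) ^ (Module.finrank R A) = 1 := by
  apply WithConv.ofConv_injective
  apply AlgHom.toLinearMap_injective
  apply WithConv.toConv_injective
  rw [AlgHom.toLinearMap_convPow, AlgHom.toLinearMap_convOne]
  exact conv_id_pow_finrank_of_free

end DeligneFree

/-- **Deligne's theorem**: a commutative finite locally free group scheme of constant rank `n`
is killed by `n`. -/
theorem id_pow_of_rankAtStalk_eq (R : Type u) [CommRing R] (A : Type v) [CommRing A]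
    [HopfAlgebra R A] [Coalgebra.IsCocomm R A] [Module.Finite R A] [Module.Projective R A] (n : ℕ)
    (hn : ∀ p : PrimeSpectrum R, Module.rankAtStalk A p = n) :
    (toConv (AlgHom.id R A) : WithConv (A →ₐ[R] A)) ^ n = 1 := by
  apply WithConv.ofConv_injective
  apply AlgHom.ext
  intro a
  apply Module.eq_of_localization_maximal
    (fun (P : Ideal R) [P.IsMaximal] => Localization.AtPrime P ⊗[R] A)
    (fun (P : Ideal R) [P.IsMaximal] => TensorProduct.mk R (Localization.AtPrime P) A 1)
  intro P hP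
  let K := Localization.AtPrime P
  have hfp : Module.FinitePresentation K (K ⊗[R] A) := Module.finitePresentation_of_projective _ _
  have hfree : Module.Free K (K ⊗[R] A) := Module.free_of_flat_of_isLocalRing
  have h1 := id_pow_finrank_of_free (R := K) (A := K ⊗[R] A)
  have h2 : Module.finrank K (K ⊗[R] A) = n := by
    rw [← hn ⟨P, hP.isPrime⟩]
    exact (Module.rankAtStalk_eq_finrank_tensorProduct ⟨P, hP.isPrime⟩).symm
  rw [h2] at h1
  show jmap (k := R) (A := A) K (((toConv (AlgHom.id R A) : WithConv (A →ₐ[R] A)) ^ n).ofConv a) =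
    jmap (k := R) (A := A) K ((1 : WithConv (A →ₐ[R] A)).ofConv a)
  rw [← convPow_jmap, h1]
  show algebraMap K (K ⊗[R] A) (CoalgebraStruct.counit (R := K) (jmap (k := R) (A := A) K a)) =
    jmap (k := R) (A := A) K (algebraMap R A (CoalgebraStruct.counit (R := R) a))
  rw [counit_jmap, AlgHom.commutes, ← IsScalarTower.algebraMap_apply]

end Groth.Agent.H9.FinHopf
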