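import Mathlib
import Groth.Agent.Lib.Helper9.FinHopf.InvInt

/-!
# A finite locally free group scheme is étale iff its augmentation ideal is idempotent (helper9)
-/

set_option autoImplicit false
set_option linter.unusedSectionVars false

universe u v

open TensorProduct

namespace Groth.Agent.H9.FinHopf

section EtaleIdem

variable (R : Type u) [CommRing R] (A : Type v) [CommRing A] [HopfAlgebra R A]

local notation "I" => RingHom.ker (Bialgebra.counitAlgHom R A)

/-- unramified implies that the augmentation ideal is idempotent -/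
theorem sq_eq_of_formallyUnramified [Algebra.FormallyUnramified R A] : I ^ 2 = I := by
  apply le_antisymm (Ideal.pow_le_self two_ne_zero)
  intro a ha
  have ha0 : Bialgebra.counitAlgHom R A a = 0 := (RingHom.mem_ker).mp ha
  let f : A ⧸ I ^ 2 →ₐ[R] R := Ideal.Quotient.liftₐ (I ^ 2) (Bialgebra.counitAlgHom R A) (by
    intro x hx
    exact (RingHom.mem_ker).mp (Ideal.pow_le_self two_ne_zero hx))
  have hf : IsNilpotent (RingHom.ker (f : A ⧸ I ^ 2 →+* R)) := by
    refine ⟨2, ?_⟩
    rw [Ideal.zero_eq_bot, eq_bot_iff]
    have hsq : RingHom.ker (f : A ⧸ I ^ 2 →+* R) ^ 2 =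
        RingHom.ker (f : A ⧸ I ^ 2 →+* R) * RingHom.ker (f : A ⧸ I ^ 2 →+* R) := pow_two _
    rw [hsq, Ideal.mul_le]
    intro r hr s hs
    obtain ⟨x, rfl⟩ := Ideal.Quotient.mk_surjective r
    obtain ⟨y, rfl⟩ := Ideal.Quotient.mk_surjective s
    have hx : x ∈ I := by
      rw [RingHom.mem_ker]
      exact (RingHom.mem_ker).mp hr
    have hy : y ∈ I := by
      rw [RingHom.mem_ker]
      exact (RingHom.mem_ker).mp hs
    rw [Ideal.mem_bot, ← map_mul, Ideal.Quotient.eq_zero_iff_mem, pow_two]
    exact Ideal.mul_mem_mul hx hy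
  let g₁ : A →ₐ[R] A ⧸ I ^ 2 := Ideal.Quotient.mkₐ R (I ^ 2)
  let g₂ : A →ₐ[R] A ⧸ I ^ 2 := (Algebra.ofId R (A ⧸ I ^ 2)).comp (Bialgebra.counitAlgHom R A)
  have h12 : g₁ = g₂ := by
    apply Algebra.FormallyUnramified.ext' (f : A ⧸ I ^ 2 →+* R) hf g₁ g₂
    intro x
    show f (Ideal.Quotient.mk (I ^ 2) x) = f (algebraMap R (A ⧸ I ^ 2) (Bialgebra.counitAlgHom R A x))
    rw [AlgHom.commutes]
    rfl
  have h3 := congrArg (fun g : A →ₐ[R] A ⧸ I ^ 2 => g a) h12
  have h4 : Ideal.Quotient.mk (I ^ 2) a =
      algebraMap R (A ⧸ I ^ 2) (Bialgebra.counitAlgHom R A a) := h3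
  rw [ha0, map_zero, Ideal.Quotient.eq_zero_iff_mem] at h4
  exact h4

variable [Module.Finite R A]

/-- if the augmentation ideal is idempotent then the module of differentials vanishes -/
theorem formallyUnramified_of_sq_eq (h : I ^ 2 = I) : Algebra.FormallyUnramified R A := by
  constructor
  show Subsingleton (KaehlerDifferential.ideal R A).Cotangent
  rw [Ideal.cotangent_subsingleton_iff]
  -- the shear automorphism
  let θ : A ⊗[R] A ≃ₐ[A] A ⊗[R] A := thetaEquiv (HopfAlgebra.antipodeAlgHom R A)
  let E : A ⊗[R] A →ₐ[A] A := Algebra.TensorProduct.lift (AlgHom.id A A)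
    ((Algebra.ofId R A).comp (Bialgebra.counitAlgHom R A)) (fun _ _ => Commute.all _ _)
  have hE : ∀ a b : A, E (a ⊗ₜ[R] b) = a * algebraMap R A (CoalgebraStruct.counit (R := R) b) := by
    intro a b
    rfl
  have hmul : ∀ x : A ⊗[R] A, Algebra.TensorProduct.lmul' R (S := A) (θ x) = E x := by
    intro x
    induction x using TensorProduct.induction_on with
    | zero => simp
    | tmul a b =>
      show Algebra.TensorProduct.lmul' R (S := A) (theta (HopfAlgebra.antipodeAlgHom R A)
        (a ⊗ₜ[R] b)) = _
      rw [theta_tmul, map_mul, thetaG_apply, hE, Algebra.TensorProduct.lmul'_apply_tmul, mul_one]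
      congr 1
      have h1 : ∀ t : A ⊗[R] A, Algebra.TensorProduct.lmul' R (S := A)
          (Algebra.TensorProduct.map (HopfAlgebra.antipodeAlgHom R A) (AlgHom.id R A) t) =
          LinearMap.mul' R A ((HopfAlgebraStruct.antipode R (A := A)).rTensor A t) := by
        intro t
        induction t using TensorProduct.induction_on with
        | zero => simp
        | tmul x y => rfl
        | add x y hx hy => simp only [map_add, hx, hy]
      rw [h1, HopfAlgebra.mul_antipode_rTensor_comul_apply]
    | add x y hx hy => simp only [map_add, hx, hy]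
  let K : Ideal (A ⊗[R] A) := Ideal.map (Algebra.TensorProduct.includeRight : A →ₐ[R] A ⊗[R] A) I
  have hK : K * K = K := by
    show Ideal.map _ _ * Ideal.map _ _ = Ideal.map _ _
    rw [← Ideal.map_mul, ← pow_two, h]
  have hkerE : RingHom.ker (E : A ⊗[R] A →+* A) = K := by
    apply le_antisymm
    · intro x hx
      have hx0 : E x = 0 := (RingHom.mem_ker).mp hx
      have key : ∀ y : A ⊗[R] A, y - (E y) ⊗ₜ[R] (1 : A) ∈ K := by
        intro y
        induction y using TensorProduct.induction_on with
        | zero => simp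
        | tmul a b =>
          have h1 : a ⊗ₜ[R] b - (E (a ⊗ₜ[R] b)) ⊗ₜ[R] (1 : A) =
              (a ⊗ₜ[R] (1 : A)) * ((1 : A) ⊗ₜ[R]
                (b - algebraMap R A (CoalgebraStruct.counit (R := R) b))) := by
            rw [hE, Algebra.TensorProduct.tmul_mul_tmul, mul_one, one_mul, TensorProduct.tmul_sub,
              Algebra.algebraMap_eq_smul_one, TensorProduct.tmul_smul, mul_smul_comm, mul_one,
              TensorProduct.smul_tmul']
          rw [h1]
          apply Ideal.mul_mem_left
          apply Ideal.mem_map_of_mem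
          rw [RingHom.mem_ker, map_sub]
          show CoalgebraStruct.counit (R := R) b -
            CoalgebraStruct.counit (R := R) (algebraMap R A (CoalgebraStruct.counit (R := R) b)) = 0
          rw [Bialgebra.counit_algebraMap, sub_self]
        | add y z hy hz =>
          have : y + z - (E (y + z)) ⊗ₜ[R] (1 : A) =
              (y - (E y) ⊗ₜ[R] (1 : A)) + (z - (E z) ⊗ₜ[R] (1 : A)) := by
            rw [map_add, TensorProduct.add_tmul]
            ring
          rw [this]
          exact add_mem hy hz
      have := key x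
      rw [hx0, TensorProduct.zero_tmul, sub_zero] at this
      exact this
    · apply Ideal.map_le_iff_le_comap.mpr
      intro b hb
      have hb0' : Bialgebra.counitAlgHom R A b = 0 := (RingHom.mem_ker).mp hb
      have hb0 : CoalgebraStruct.counit (R := R) b = 0 := hb0'
      rw [Ideal.mem_comap, RingHom.mem_ker]
      show E ((1 : A) ⊗ₜ[R] b) = 0
      rw [hE, hb0, map_zero, mul_zero]
  have hJ : KaehlerDifferential.ideal R A = Ideal.map (θ : A ⊗[R] A →+* A ⊗[R] A) K := by
    apply le_antisymm
    · intro y hy
      have hy0 : Algebra.TensorProduct.lmul' R (S := A) y = 0 := (RingHom.mem_ker).mp hy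
      have h1 : θ.symm y ∈ K := by
        rw [← hkerE, RingHom.mem_ker]
        show E (θ.symm y) = 0
        rw [← hmul, AlgEquiv.apply_symm_apply, hy0]
      have h2 := Ideal.mem_map_of_mem (θ : A ⊗[R] A →+* A ⊗[R] A) h1
      have h3 : (θ : A ⊗[R] A →+* A ⊗[R] A) (θ.symm y) = y := θ.apply_symm_apply y
      rw [h3] at h2
      exact h2
    · apply Ideal.map_le_iff_le_comap.mpr
      intro x hx
      rw [← hkerE] at hx
      have hx0 : E x = 0 := (RingHom.mem_ker).mp hx
      rw [Ideal.mem_comap]
      show θ x ∈ RingHom.ker (Algebra.TensorProduct.lmul' R (S := A))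
      rw [RingHom.mem_ker]
      show Algebra.TensorProduct.lmul' R (S := A) (θ x) = 0
      rw [hmul, hx0]
  show KaehlerDifferential.ideal R A * KaehlerDifferential.ideal R A = KaehlerDifferential.ideal R A
  rw [hJ, ← Ideal.map_mul, hK]

variable [Module.Projective R A]

/-- **étale iff the augmentation ideal is idempotent** -/
theorem etale_iff_sq_eq : Algebra.Etale R A ↔ I ^ 2 = I := by
  constructor
  · intro h
    exact sq_eq_of_formallyUnramified R A
  · intro h
    have h1 := formallyUnramified_of_sq_eq R A h
    have h2 : Module.FinitePresentation R A := Module.finitePresentation_of_projective R A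
    have h3 : Algebra.FinitePresentation R A := inferInstance
    exact Algebra.Etale.of_formallyUnramified_of_flat

end EtaleIdem

end Groth.Agent.H9.FinHopf
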