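import Mathlib
import Groth.Agent.Lib.Helper9.FinHopf.KillOrder
import Groth.Agent.Lib.Helper9.FinHopf.EtaleIdem

/-!
# A finite group scheme whose order is invertible is étale (helper9)
-/

set_option autoImplicit false
set_option linter.unusedSectionVars false

universe u v w

open TensorProduct WithConv

namespace Groth.Agent.H9.FinHopf

section Closed

variable {k : Type u} [Field k] [IsAlgClosed k] {A : Type v} [CommRing A] [HopfAlgebra k A]
  [Module.Finite k A]

/-- over an algebraically closed field: if the order is invertible, `I² = I` -/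
theorem sq_eq_of_finrank_ne_zero (h : (Module.finrank k A : k) ≠ 0) :
    (RingHom.ker (Bialgebra.counitAlgHom k A)) ^ 2 = RingHom.ker (Bialgebra.counitAlgHom k A) := by
  classical
  have hart : IsArtinianRing A := IsArtinianRing.of_finite k A
  have hnoeth : IsNoetherianRing A := inferInstance
  obtain ⟨N1, hN1⟩ := IsNoetherianRing.isNilpotent_nilradical A
  let f : ℕ →o (Ideal A)ᵒᵈ :=
    { toFun := fun j => OrderDual.toDual ((RingHom.ker (Bialgebra.counitAlgHom k A)) ^ j)
      monotone' := fun i j hij => Ideal.pow_le_pow_right hij }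
  obtain ⟨N0, hN0⟩ := IsArtinian.monotone_stabilizes f
  have hN0' : ∀ j, N0 ≤ j → (RingHom.ker (Bialgebra.counitAlgHom k A)) ^ N0 =
      (RingHom.ker (Bialgebra.counitAlgHom k A)) ^ j := fun j hj => hN0 j hj
  set N := max N0 N1 + 2 with hNdef
  have hNne : N ≠ 0 := by omega
  have hnilN : (nilradical A) ^ N = ⊥ := by
    rw [eq_bot_iff, ← Ideal.zero_eq_bot, ← hN1]
    exact Ideal.pow_le_pow_right (by omega)
  have hstab : (RingHom.ker (Bialgebra.counitAlgHom k A)) ^ N =
      (RingHom.ker (Bialgebra.counitAlgHom k A)) ^ (N + N) := by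
    rw [← hN0' N (by omega), ← hN0' (N + N) (by omega)]
  have hHopf : ((RingHom.ker (Bialgebra.counitAlgHom k A)) ^ N).IsHopfIdeal k :=
    isHopfIdeal_aug_pow N hNne hstab
  have hloc : IsLocalRing (A ⧸ (RingHom.ker (Bialgebra.counitAlgHom k A)) ^ N) := by
    apply isLocalRing_of_ker_nil (k := k)
      (Bialgebra.counitAlgHom k (A ⧸ (RingHom.ker (Bialgebra.counitAlgHom k A)) ^ N))
    intro q hq
    obtain ⟨a, rfl⟩ := Ideal.Quotient.mk_surjective q
    have hq' : CoalgebraStruct.counit (R := k) a = 0 := hq
    refine ⟨N, ?_⟩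
    rw [← map_pow, Ideal.Quotient.eq_zero_iff_mem]
    apply Ideal.pow_mem_pow
    rw [RingHom.mem_ker]
    exact hq'
  have hcard := finrank_eq_card_mul (k := k) (A := A) N hnilN
  obtain ⟨r, hr⟩ := exists_finrank_eq_ringExpChar_pow k
    (A ⧸ (RingHom.ker (Bialgebra.counitAlgHom k A)) ^ N)
  -- the local quotient has dimension one
  have hone : Module.finrank k (A ⧸ (RingHom.ker (Bialgebra.counitAlgHom k A)) ^ N) = 1 := by
    obtain ⟨e, he⟩ : ∃ e, e = ringExpChar k := ⟨_, rfl⟩
    have hexp : ExpChar k e := he ▸ inferInstance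
    rw [← he] at hr
    cases hexp with
    | zero => rw [hr, one_pow]
    | prime hprime =>
      rcases Nat.eq_zero_or_pos r with h0 | hpos
      · rw [hr, h0, pow_zero]
      · exfalso
        apply h
        rw [hcard, hr, Nat.cast_mul, Nat.cast_pow, CharP.cast_eq_zero k e, zero_pow (by omega),
          mul_zero]
  -- hence `I ≤ I^N`
  have hle : RingHom.ker (Bialgebra.counitAlgHom k A) ≤
      (RingHom.ker (Bialgebra.counitAlgHom k A)) ^ N := by
    intro a ha
    have ha' : CoalgebraStruct.counit (R := k) a = 0 := ha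
    have hnt : Nontrivial (A ⧸ (RingHom.ker (Bialgebra.counitAlgHom k A)) ^ N) :=
      hloc.toNontrivial
    obtain ⟨c, hc⟩ := (finrank_eq_one_iff_of_nonzero'
      (1 : A ⧸ (RingHom.ker (Bialgebra.counitAlgHom k A)) ^ N) one_ne_zero).mp hone
      (Ideal.Quotient.mk _ a)
    have h2 := congrArg (CoalgebraStruct.counit (R := k)
      (A := A ⧸ (RingHom.ker (Bialgebra.counitAlgHom k A)) ^ N)) hc
    rw [map_smul] at h2
    have h3 : CoalgebraStruct.counit (R := k)
        (Ideal.Quotient.mk ((RingHom.ker (Bialgebra.counitAlgHom k A)) ^ N) a) =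
        CoalgebraStruct.counit (R := k) a := rfl
    have h4 : CoalgebraStruct.counit (R := k)
        (1 : A ⧸ (RingHom.ker (Bialgebra.counitAlgHom k A)) ^ N) = 1 := Bialgebra.counit_one
    rw [h3, ha', h4, smul_eq_mul, mul_one] at h2
    rw [h2, zero_smul] at hc
    exact Ideal.Quotient.eq_zero_iff_mem.mp hc.symm
  apply le_antisymm (Ideal.pow_le_self two_ne_zero)
  exact hle.trans (Ideal.pow_le_pow_right (by omega))

end Closed

/-- **A finite group scheme over a field whose order is invertible is étale.** -/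
theorem etale_of_finrank_ne_zero (k : Type u) [Field k] (A : Type v) [CommRing A]
    [HopfAlgebra k A] [Module.Finite k A] (h : (Module.finrank k A : k) ≠ 0) :
    Algebra.Etale k A := by
  let K := AlgebraicClosure k
  have h1 : Algebra.Etale K (K ⊗[k] A) := by
    apply (etale_iff_sq_eq K (K ⊗[k] A)).mpr
    apply sq_eq_of_finrank_ne_zero
    rw [Module.finrank_baseChange]
    intro h0
    apply h
    have h2 : algebraMap k K (Module.finrank k A : k) = 0 := by
      rw [map_natCast]
      exact h0
    exact (map_eq_zero (algebraMap k K)).mp h2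
  exact Algebra.Etale.of_etale_tensorProduct_of_faithfullyFlat K

end Groth.Agent.H9.FinHopf
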