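import Mathlib
import Groth.Agent.Lib.Helper9.FinHopf.Connected
import Groth.Agent.Lib.Helper9.FinHopf.Primitive
import Groth.Agent.Lib.Helper9.CocommDiag.Main

/-!
# Simple bi-infinitesimal finite commutative group schemes are `α_p` (helper9)
-/

set_option autoImplicit false
set_option linter.unusedSectionVars false

universe u v

open TensorProduct WithConv

namespace Groth.Agent.H9.FinHopf

open Groth.Agent.H9 Groth.Agent.H9.SubHopf Groth.Agent.H9.CocommDiag Groth.Agent.H9.Comod

section Local

variable (k : Type u) [Field k] {A : Type v} [CommRing A] [HopfAlgebra k A] [Module.Finite k A]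
  [IsLocalRing A]

/-- in a local finite Hopf algebra the augmentation ideal is not idempotent unless it vanishes -/
lemma ker_counit_eq_bot_of_le_sq
    (h : RingHom.ker (Bialgebra.counitAlgHom k A) ≤ RingHom.ker (Bialgebra.counitAlgHom k A) ^ 2) :
    RingHom.ker (Bialgebra.counitAlgHom k A) = ⊥ := by
  set I := RingHom.ker (Bialgebra.counitAlgHom k A) with hI
  have hsurj : Function.Surjective (Bialgebra.counitAlgHom k A) :=
    fun c => ⟨algebraMap k A c, by simp⟩
  have hImax : I.IsMaximal := RingHom.ker_isMaximal_of_surjective _ hsurj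
  have hIeq : I = IsLocalRing.maximalIdeal A := IsLocalRing.eq_maximalIdeal hImax
  have hart : IsArtinianRing A := IsArtinianRing.of_finite k A
  have hnoeth : IsNoetherianRing A := inferInstance
  have hfg : (I : Submodule A A).FG := IsNoetherian.noetherian I
  apply Submodule.eq_bot_of_le_smul_of_le_jacobson_bot I I hfg
  · intro f hf
    have := h hf
    rw [pow_two] at this
    exact this
  · rw [IsLocalRing.jacobson_eq_maximalIdeal ⊥ bot_ne_top, hIeq]

end Local

section HeightOne

variable (k : Type u) [Field k] (p : ℕ) [hp : Fact p.Prime] [CharP k p]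
  {A : Type v} [CommRing A] [HopfAlgebra k A] [Module.Finite k A] [IsLocalRing A]

/-- a simple connected finite group scheme which is not trivial has height one -/
theorem pow_eq_zero_of_simple (hA : 1 < Module.finrank k A)
    (hsimple : ∀ I : Ideal A, I.IsHopfIdeal k → I = ⊥ ∨ I = RingHom.ker (Bialgebra.counitAlgHom k A))
    {f : A} (hf : CoalgebraStruct.counit (R := k) f = 0) : f ^ p = 0 := by
  have hB : IsSubHopf (frobAdj (k := k) p (A := A)) := isSubHopf_frobAdj p
  have hHI := isHopfIdeal_augSpan hB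
  have hmem := pow_mem_augSpan (k := k) p hf
  rcases hsimple _ hHI with h0 | h0
  · rw [h0, Ideal.mem_bot] at hmem
    exact hmem
  · exfalso
    have h1 := augSpan_frobAdj_le (k := k) p (A := A)
    rw [h0] at h1
    have h2 := ker_counit_eq_bot_of_le_sq k h1
    have h3 := finrank_eq_one_of_ker_counit k h2
    omega

end HeightOne

section Dual

variable (k : Type u) [Field k] {A : Type v} [CommRing A] [HopfAlgebra k A]
  [Coalgebra.IsCocomm k A] [Module.Finite k A]

/-- if the dual algebra is local and `A ≠ k` then `A` has a nonzero primitive element -/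
theorem exists_prim_of_isLocalRing_dual (hdual : IsLocalRing (WithConv (A →ₗ[k] k)))
    (hA : 1 < Module.finrank k A) :
    ∃ x : A, x ≠ 0 ∧
      CoalgebraStruct.comul (R := k) x = x ⊗ₜ[k] (1 : A) + (1 : A) ⊗ₜ[k] x := by
  classical
  let D := WithConv (A →ₗ[k] k)
  let ev : D →ₐ[k] k := evG (1 : A) IsGroupLikeElem.one
  have hev : ∀ φ : D, ev φ = φ.ofConv 1 := fun φ => rfl
  have hfinD : Module.Finite k D := Module.Finite.equiv (WithConv.linearEquiv k (A →ₗ[k] k)).symm
  have hdimD : Module.finrank k D = Module.finrank k A := by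
    rw [(WithConv.linearEquiv k (A →ₗ[k] k)).finrank_eq]
    exact Subspace.dual_finrank_eq
  set m : Ideal D := RingHom.ker (ev : D →+* k) with hm
  have hsurj : Function.Surjective (ev : D →+* k) := fun c => ⟨algebraMap k D c, by simp⟩
  have hmmax : m.IsMaximal := RingHom.ker_isMaximal_of_surjective _ hsurj
  have hmeq : m = IsLocalRing.maximalIdeal D := IsLocalRing.eq_maximalIdeal hmmax
  have hm0 : m ≠ ⊥ := by
    intro h0
    have hinj : Function.Injective ev := (RingHom.injective_iff_ker_eq_bot _).mpr h0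
    have e : D ≃ₗ[k] k := LinearEquiv.ofBijective ev.toLinearMap ⟨hinj, hsurj⟩
    have := e.finrank_eq
    rw [Module.finrank_self, hdimD] at this
    omega
  have hart : IsArtinianRing D := IsArtinianRing.of_finite k D
  have hnoeth : IsNoetherianRing D := inferInstance
  have hex : ∃ φ₀ ∈ m, φ₀ ∉ m ^ 2 := by
    by_contra hcon
    push Not at hcon
    apply hm0
    have hfg : (m : Submodule D D).FG := IsNoetherian.noetherian m
    apply Submodule.eq_bot_of_le_smul_of_le_jacobson_bot m m hfg
    · intro f hf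
      have := hcon f hf
      rw [pow_two] at this
      exact this
    · rw [IsLocalRing.jacobson_eq_maximalIdeal ⊥ bot_ne_top, hmeq]
  obtain ⟨φ₀, hφ₀m, hφ₀⟩ := hex
  let W : Submodule k D := (m ^ 2).restrictScalars k ⊔ Submodule.span k {(1 : D)}
  have hφ₀W : φ₀ ∉ W := by
    intro hmem
    obtain ⟨w, hw, z, hz, hwz⟩ := Submodule.mem_sup.mp hmem
    obtain ⟨c, rfl⟩ := Submodule.mem_span_singleton.mp hz
    have hw' : w ∈ m ^ 2 := hw
    have hwm : w ∈ m := Ideal.pow_le_self two_ne_zero hw'
    have h1 : ev w = 0 := (RingHom.mem_ker).mp hwm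
    have h2 : ev φ₀ = 0 := (RingHom.mem_ker).mp hφ₀m
    have h3 := congrArg ev hwz
    rw [map_add, h1, zero_add, map_smul, map_one, smul_eq_mul, mul_one, h2] at h3
    rw [h3, zero_smul, add_zero] at hwz
    rw [← hwz] at hφ₀
    exact hφ₀ hw'
  obtain ⟨d, hdφ₀, hdW⟩ := Submodule.exists_le_ker_of_notMem hφ₀W
  have hd1 : d 1 = 0 := LinearMap.mem_ker.mp (hdW (Submodule.mem_sup_right (Submodule.subset_span rfl)))
  have hdm2 : ∀ φ ψ : D, φ ∈ m → ψ ∈ m → d (φ * ψ) = 0 := by
    intro φ ψ hφ hψ
    apply LinearMap.mem_ker.mp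
    apply hdW
    apply Submodule.mem_sup_left
    show φ * ψ ∈ m ^ 2
    rw [pow_two]
    exact Ideal.mul_mem_mul hφ hψ
  have hleib : ∀ φ ψ : D, d (φ * ψ) = ev φ * d ψ + d φ * ev ψ := by
    intro φ ψ
    have h1 : φ - algebraMap k D (ev φ) ∈ m := by
      rw [hm, RingHom.mem_ker, map_sub]
      show ev φ - ev (algebraMap k D (ev φ)) = 0
      rw [AlgHom.commutes]
      exact sub_self _
    have h2 : ψ - algebraMap k D (ev ψ) ∈ m := by
      rw [hm, RingHom.mem_ker, map_sub]
      show ev ψ - ev (algebraMap k D (ev ψ)) = 0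
      rw [AlgHom.commutes]
      exact sub_self _
    have h3 := hdm2 _ _ h1 h2
    have h4 : (φ - algebraMap k D (ev φ)) * (ψ - algebraMap k D (ev ψ)) =
        φ * ψ - ev ψ • φ - ev φ • ψ + (ev φ * ev ψ) • (1 : D) := by
      rw [Algebra.algebraMap_eq_smul_one, Algebra.algebraMap_eq_smul_one]
      simp only [sub_mul, mul_sub, smul_mul_assoc, mul_smul_comm, one_mul, mul_one]
      rw [smul_sub, smul_smul, mul_comm (ev ψ) (ev φ)]
      abel
    rw [h4, map_add, map_sub, map_sub, map_smul, map_smul, map_smul, hd1, smul_zero, add_zero,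
      smul_eq_mul, smul_eq_mul] at h3
    linear_combination h3
  -- the element representing `d`
  let d' : Module.Dual k (Module.Dual k A) := d ∘ₗ (WithConv.linearEquiv k (A →ₗ[k] k)).symm.toLinearMap
  let x : A := (Module.evalEquiv k A).symm d'
  have hx : ∀ φ : A →ₗ[k] k, φ x = d (toConv φ) := by
    intro φ
    have := Module.apply_evalEquiv_symm_apply (R := k) (M := A) φ d'
    exact this
  refine ⟨x, ?_, ?_⟩
  · intro hx0
    apply hdφ₀
    have := hx φ₀.ofConv
    rw [hx0, map_zero] at this
    exact this.symm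
  · rw [← sub_eq_zero]
    apply eq_zero_of_pair_eq_zero
    intro φ ψ
    rw [map_sub, map_add, Comod.pair_tmul, Comod.pair_tmul, sub_eq_zero]
    have h1 := convMul_apply_pair (toConv φ) (toConv ψ) x
    rw [ofConv_toConv, ofConv_toConv] at h1
    rw [← h1, hx, hx]
    have h2 : toConv ((toConv φ * toConv ψ : D).ofConv) = (toConv φ * toConv ψ : D) := rfl
    rw [h2, hleib, hx, hev, hev, ofConv_toConv, ofConv_toConv]
    ring

end Dual

section Main

variable (k : Type u) [Field k] (p : ℕ) [hp : Fact p.Prime] [CharP k p]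
  (A : Type v) [CommRing A] [HopfAlgebra k A] [Coalgebra.IsCocomm k A] [Module.Finite k A]
  [IsLocalRing A]

theorem alpha_p_of_simple (hdual : IsLocalRing (WithConv (A →ₗ[k] k)))
    (hA : 1 < Module.finrank k A)
    (hsimple : ∀ I : Ideal A, I.IsHopfIdeal k → I = ⊥ ∨ I = RingHom.ker (Bialgebra.counitAlgHom k A)) :
    ∃ x : A, CoalgebraStruct.comul (R := k) x = x ⊗ₜ[k] (1 : A) + (1 : A) ⊗ₜ[k] x ∧ x ^ p = 0 ∧
      LinearIndependent k (fun i : Fin p => x ^ (i : ℕ)) ∧ Module.finrank k A = p := by
  obtain ⟨x, hx0, hx⟩ := exists_prim_of_isLocalRing_dual k hdual hA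
  have hxp : x ^ p = 0 := pow_eq_zero_of_simple k p hA hsimple (UnipLie.counit_primitive hx)
  have hlin := linearIndependent_pow_of_prim p hx hx0 p le_rfl
  refine ⟨x, hx, hxp, hlin, ?_⟩
  set B : Subalgebra k A := Algebra.adjoin k {x} with hBdef
  have hxB : x ∈ B := Algebra.subset_adjoin rfl
  have hB : IsSubHopf B := isSubHopf_adjoin_prim hx
  have hnil : ∀ b ∈ B, CoalgebraStruct.counit (R := k) (A := A) b = 0 → IsNilpotent b :=
    fun b _ hb0 => isNilpotent_of_counit_eq_zero k hb0
  have hlag := finrank_eq_mul B (comul_mem_lTensor hB) hnil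
  have hHI : (augSpan B).IsHopfIdeal k := isHopfIdeal_augSpan hB
  have hJ : augSpan B = RingHom.ker (Bialgebra.counitAlgHom k A) := by
    rcases hsimple _ hHI with h0 | h0
    · exfalso
      have h1 : x ∈ augSpan B := Ideal.subset_span ⟨hxB, UnipLie.counit_primitive hx⟩
      rw [h0, Ideal.mem_bot] at h1
      exact hx0 h1
    · exact h0
  have hquot : Module.finrank k (A ⧸ augSpan B) = 1 := by
    rw [hJ]
    have hsurj : Function.Surjective (Bialgebra.counitAlgHom k A).toLinearMap :=
      fun c => ⟨algebraMap k A c, by simp⟩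
    have e := LinearMap.quotKerEquivOfSurjective (Bialgebra.counitAlgHom k A).toLinearMap hsurj
    have h1 : Module.finrank k (A ⧸ LinearMap.ker (Bialgebra.counitAlgHom k A).toLinearMap) = 1 := by
      rw [e.finrank_eq, Module.finrank_self]
    exact h1
  have hBdim : Module.finrank k B = p := by
    have h1 : Module.finrank k (Subalgebra.toSubmodule B) = p := by
      rw [adjoin_eq_span_of_pow_eq_zero hxp, finrank_span_eq_card hlin, Fintype.card_fin]
    exact h1
  rw [hlag, hBdim, hquot, mul_one]

end Main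

end Groth.Agent.H9.FinHopf
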