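import Mathlib
import Groth.Agent.Lib.Helper9.FinHopf.FrobKer

/-!
# Simple finite étale commutative group schemes have prime order (helper9)
-/

set_option autoImplicit false
set_option linter.unusedSectionVars false

universe u v

open TensorProduct WithConv

namespace Groth.Agent.H9.FinHopf

open Groth.Agent.H9

section Tensor

variable {k : Type u} [Field k]

/-- an element of a tensor product killed by `φ ⊗ ψ` for separating families is zero -/
lemma tensor_eq_zero_of_forall {V W : Type*} [AddCommGroup V] [Module k V] [AddCommGroup W]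
    [Module k W] (Φ : Set (V →ₗ[k] k)) (Ψ : Set (W →ₗ[k] k))
    (hΦ : ∀ v, (∀ φ ∈ Φ, φ v = 0) → v = 0) (hΨ : ∀ w, (∀ ψ ∈ Ψ, ψ w = 0) → w = 0)
    (t : V ⊗[k] W)
    (h : ∀ φ ∈ Φ, ∀ ψ ∈ Ψ, LinearMap.mul' k k (TensorProduct.map φ ψ t) = 0) : t = 0 := by
  classical
  let b := Module.Basis.ofVectorSpace k W
  apply (TensorProduct.equivFinsuppOfBasisRight b).injective
  rw [map_zero]
  ext i
  rw [Finsupp.zero_apply]
  apply hΦ
  intro φ hφ
  have key : ∀ t : V ⊗[k] W, φ ((TensorProduct.equivFinsuppOfBasisRight b t) i) =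
      b.coord i (TensorProduct.lid k W (φ.rTensor W t)) := by
    intro t
    induction t using TensorProduct.induction_on with
    | zero => simp
    | tmul v w =>
      rw [TensorProduct.equivFinsuppOfBasisRight_apply_tmul_apply, LinearMap.rTensor_tmul,
        TensorProduct.lid_tmul, map_smul, map_smul, smul_eq_mul, smul_eq_mul, mul_comm]
      rfl
    | add x y hx hy =>
      rw [map_add, Finsupp.add_apply, map_add, hx, hy, map_add, map_add, map_add]
  rw [key]
  have h0 : TensorProduct.lid k W (φ.rTensor W t) = 0 := by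
    apply hΨ
    intro ψ hψ
    have key2 : ∀ t : V ⊗[k] W, ψ (TensorProduct.lid k W (φ.rTensor W t)) =
        LinearMap.mul' k k (TensorProduct.map φ ψ t) := by
      intro t
      induction t using TensorProduct.induction_on with
      | zero => simp
      | tmul v w =>
        rw [LinearMap.rTensor_tmul, TensorProduct.lid_tmul, map_smul, TensorProduct.map_tmul,
          LinearMap.mul'_apply, smul_eq_mul]
      | add x y hx hy => simp only [map_add, hx, hy]
    rw [key2]
    exact h φ hφ ψ hψ
  rw [h0, map_zero]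

end Tensor

section VanIdeal

variable {k : Type u} [Field k] {A : Type v} [CommRing A] [HopfAlgebra k A]

/-- the ideal of functions vanishing on a set of points -/
def vanIdeal (H : Set (WithConv (A →ₐ[k] k))) : Ideal A :=
  ⨅ g ∈ H, RingHom.ker (g.ofConv : A →+* k)

lemma mem_vanIdeal {H : Set (WithConv (A →ₐ[k] k))} {a : A} :
    a ∈ vanIdeal H ↔ ∀ g ∈ H, g.ofConv a = 0 := by
  simp only [vanIdeal, Ideal.mem_iInf, RingHom.mem_ker]
  rfl

lemma convMul_ofConv_apply (g h : WithConv (A →ₐ[k] k)) (a : A) :
    (g * h).ofConv a = LinearMap.mul' k k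
      (TensorProduct.map g.ofConv.toLinearMap h.ofConv.toLinearMap
        (CoalgebraStruct.comul (R := k) a)) := by
  show (Algebra.TensorProduct.lmul' k) ((Algebra.TensorProduct.map g.ofConv h.ofConv)
    (CoalgebraStruct.comul (R := k) a)) = _
  generalize CoalgebraStruct.comul (R := k) a = t
  induction t using TensorProduct.induction_on with
  | zero => simp
  | tmul x y => rfl
  | add x y hx hy => simp only [map_add, hx, hy]

lemma convInv_ofConv_apply (g : WithConv (A →ₐ[k] k)) (a : A) :
    (g⁻¹).ofConv a = g.ofConv (HopfAlgebraStruct.antipode k a) := rfl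

lemma convOne_ofConv_apply (a : A) :
    (1 : WithConv (A →ₐ[k] k)).ofConv a = CoalgebraStruct.counit (R := k) a := rfl

/-- the vanishing ideal of a subgroup of points is a Hopf ideal -/
theorem isHopfIdeal_vanIdeal (H : Subgroup (WithConv (A →ₐ[k] k))) :
    (vanIdeal (H : Set (WithConv (A →ₐ[k] k)))).IsHopfIdeal k := by
  set J := vanIdeal (H : Set (WithConv (A →ₐ[k] k))) with hJ
  have h1 : ∀ x ∈ J, CoalgebraStruct.counit (R := k) x = 0 := by
    intro x hx
    rw [← convOne_ofConv_apply]
    exact mem_vanIdeal.mp hx 1 H.one_mem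
  let F : A →ₐ[k] (A ⧸ J) ⊗[k] (A ⧸ J) :=
    (Algebra.TensorProduct.map (Ideal.Quotient.mkₐ k J) (Ideal.Quotient.mkₐ k J)).comp
      (Bialgebra.comulAlgHom k A)
  -- the points of `H` descend to `A ⧸ J`
  have hdesc : ∀ g : H, ∀ a : A, a ∈ J → (g : WithConv (A →ₐ[k] k)).ofConv a = 0 :=
    fun g a ha => mem_vanIdeal.mp ha g g.2
  let bar : H → ((A ⧸ J) →ₗ[k] k) := fun g =>
    (Ideal.Quotient.liftₐ J (g : WithConv (A →ₐ[k] k)).ofConv (hdesc g)).toLinearMap
  have hbar : ∀ (g : H) (a : A), bar g (Ideal.Quotient.mk J a) =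
      (g : WithConv (A →ₐ[k] k)).ofConv a := fun g a => rfl
  have hsep : ∀ b : A ⧸ J, (∀ φ ∈ Set.range bar, φ b = 0) → b = 0 := by
    intro b hb
    obtain ⟨a, rfl⟩ := Ideal.Quotient.mk_surjective b
    rw [Ideal.Quotient.eq_zero_iff_mem]
    apply mem_vanIdeal.mpr
    intro g hg
    have := hb (bar ⟨g, hg⟩) ⟨_, rfl⟩
    rw [hbar] at this
    exact this
  have h3 : ∀ x ∈ J, F x = 0 := by
    intro x hx
    apply tensor_eq_zero_of_forall (Set.range bar) (Set.range bar) hsep hsep
    rintro _ ⟨g, rfl⟩ _ ⟨h, rfl⟩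
    have key : ∀ t : A ⊗[k] A, LinearMap.mul' k k (TensorProduct.map (bar g) (bar h)
        ((Algebra.TensorProduct.map (Ideal.Quotient.mkₐ k J) (Ideal.Quotient.mkₐ k J)) t)) =
        LinearMap.mul' k k (TensorProduct.map (g : WithConv (A →ₐ[k] k)).ofConv.toLinearMap
          (h : WithConv (A →ₐ[k] k)).ofConv.toLinearMap t) := by
      intro t
      induction t using TensorProduct.induction_on with
      | zero => simp
      | tmul x y => rfl
      | add x y hx hy => simp only [map_add, hx, hy]
    show LinearMap.mul' k k (TensorProduct.map (bar g) (bar h)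
        ((Algebra.TensorProduct.map (Ideal.Quotient.mkₐ k J) (Ideal.Quotient.mkₐ k J))
          (CoalgebraStruct.comul (R := k) x))) = 0
    rw [key, ← convMul_ofConv_apply]
    exact mem_vanIdeal.mp hx _ (H.mul_mem g.2 h.2)
  have h5 : ∀ x ∈ J, HopfAlgebraStruct.antipode (R := k) x ∈ J := by
    intro x hx
    apply mem_vanIdeal.mpr
    intro g hg
    rw [← convInv_ofConv_apply]
    exact mem_vanIdeal.mp hx _ (H.inv_mem hg)
  exact { counit_eq_zero := fun x hx => h1 x hx
          map_mkQ_comul_eq_zero := fun x hx => h3 x hx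
          antipode_mem := fun x hx => h5 x hx }

end VanIdeal

section Main

variable (k : Type u) [Field k] [IsAlgClosed k] (A : Type v) [CommRing A] [HopfAlgebra k A]
  [Module.Finite k A] [IsReduced A]

/-- a reduced finite Hopf algebra all of whose Hopf ideals are trivial has no proper nontrivial
subgroups of points -/
theorem subgroup_eq_bot_or_top
    (hsimple : ∀ I : Ideal A, I.IsHopfIdeal k → I = ⊥ ∨ I = RingHom.ker (Bialgebra.counitAlgHom k A))
    (H : Subgroup (WithConv (A →ₐ[k] k))) : H = ⊥ ∨ H = ⊤ := by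
  classical
  rcases hsimple _ (isHopfIdeal_vanIdeal H) with h | h
  · right
    rw [eq_top_iff]
    intro g _
    by_contra hg
    let r : (A →ₐ[k] k) → k := fun χ => if toConv χ ∈ H then 0 else 1
    let a : A := (gelfand k A).symm r
    have ha : ∀ χ : A →ₐ[k] k, χ a = r χ := by
      intro χ
      rw [← gelfand_apply, AlgEquiv.apply_symm_apply]
    have haJ : a ∈ vanIdeal (H : Set (WithConv (A →ₐ[k] k))) := by
      apply mem_vanIdeal.mpr
      intro χ hχ
      rw [ha]
      show (if toConv χ.ofConv ∈ H then (0 : k) else 1) = 0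
      have hχ' : toConv χ.ofConv ∈ H := hχ
      rw [if_pos hχ']
    rw [h, Ideal.mem_bot] at haJ
    have h1 := ha g.ofConv
    rw [haJ, map_zero] at h1
    have h2 : r g.ofConv = 1 := by
      show (if toConv g.ofConv ∈ H then (0 : k) else 1) = 1
      have hg' : ¬ toConv g.ofConv ∈ H := hg
      rw [if_neg hg']
    rw [h2] at h1
    exact zero_ne_one h1
  · left
    rw [eq_bot_iff]
    intro g hg
    rw [Subgroup.mem_bot]
    apply WithConv.ofConv_injective
    apply AlgHom.ext
    intro a
    have h1 : a - algebraMap k A (CoalgebraStruct.counit (R := k) a) ∈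
        RingHom.ker (Bialgebra.counitAlgHom k A) := by
      rw [RingHom.mem_ker, map_sub]
      show CoalgebraStruct.counit (R := k) a -
        CoalgebraStruct.counit (R := k) (algebraMap k A (CoalgebraStruct.counit (R := k) a)) = 0
      rw [Bialgebra.counit_algebraMap, sub_self]
    rw [← h] at h1
    have h2 := mem_vanIdeal.mp h1 g hg
    rw [map_sub, AlgHom.commutes, sub_eq_zero] at h2
    rw [h2]
    rfl

/-- **simple étale commutative finite group schemes have prime order** -/
theorem prime_finrank_of_simple [Coalgebra.IsCocomm k A] (hA : 1 < Module.finrank k A)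
    (hsimple : ∀ I : Ideal A, I.IsHopfIdeal k → I = ⊥ ∨ I = RingHom.ker (Bialgebra.counitAlgHom k A)) :
    (Module.finrank k A).Prime := by
  have hcard : Nat.card (WithConv (A →ₐ[k] k)) = Module.finrank k A := by
    rw [← EtaleUnip.card_points (K := k) (B := A)]
    exact Nat.card_congr (WithConv.equiv _)
  have hfin : Finite (WithConv (A →ₐ[k] k)) := by
    apply Nat.finite_of_card_ne_zero
    rw [hcard]
    omega
  have hnt : Nontrivial (WithConv (A →ₐ[k] k)) := by
    rw [← Finite.one_lt_card_iff_nontrivial, hcard]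
    exact hA
  have hs : IsSimpleGroup (WithConv (A →ₐ[k] k)) :=
    ⟨fun H _ => subgroup_eq_bot_or_top k A hsimple H⟩
  rw [← hcard]
  exact IsSimpleGroup.prime_card

end Main

end Groth.Agent.H9.FinHopf
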