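import Mathlib
import Groth.Prelude.Def_ConstGrp
import Groth.Agent.Lib.Helper9.FinHopf.PrimeOrder

/-!
# Finite étale group schemes over an algebraically closed field are constant (helper9)
-/

set_option autoImplicit false
set_option linter.unusedSectionVars false

universe u v w

open TensorProduct WithConv

namespace Groth.Agent.H9.FinHopf

open Groth.Agent.H9

section Const

variable {k : Type u} [Field k] [IsAlgClosed k] {A : Type v} [CommRing A] [HopfAlgebra k A]
  [Module.Finite k A] [IsReduced A]
  {Γ : Type w} [Group Γ] [Fintype Γ] [DecidableEq Γ] (e : Γ ≃* WithConv (A →ₐ[k] k))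

/-- the Gelfand transform indexed by an abstract copy of the group of points -/
noncomputable def constMap : A →ₐ[k] ConstGrp.F k Γ where
  toFun a := fun z => (e z).ofConv a
  map_one' := by funext z; exact map_one (e z).ofConv
  map_mul' a b := by funext z; exact map_mul (e z).ofConv a b
  map_zero' := by funext z; exact map_zero (e z).ofConv
  map_add' a b := by funext z; exact map_add (e z).ofConv a b
  commutes' c := by funext z; exact (e z).ofConv.commutes c

lemma constMap_apply (a : A) (z : Γ) : constMap e a z = (e z).ofConv a := rfl

lemma mul'_map_ev_eq (z w : Γ) (t : ConstGrp.F k Γ ⊗[k] ConstGrp.F k Γ) :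
    LinearMap.mul' k k (TensorProduct.map (ConstGrp.ev k z).toLinearMap
      (ConstGrp.ev k w).toLinearMap t) = ConstGrp.pair k Γ t (z, w) := by
  induction t using TensorProduct.induction_on with
  | zero => simp
  | tmul u v =>
    rw [TensorProduct.map_tmul, LinearMap.mul'_apply, ConstGrp.pair_tmul]
    rfl
  | add x y hx hy =>
    rw [map_add, map_add, hx, hy, map_add]
    rfl

lemma constMap_bijective : Function.Bijective (constMap e) := by
  have hinj : Function.Injective (constMap e) := by
    rw [injective_iff_map_eq_zero]
    intro a ha
    apply CocommDiag.eq_zero_of_forall_point (k := k) a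
    intro χ
    have h1 := congrFun ha (e.symm (toConv χ))
    rw [constMap_apply, MulEquiv.apply_symm_apply] at h1
    exact h1
  have hdim : Module.finrank k A = Module.finrank k (ConstGrp.F k Γ) := by
    have h1 : Module.finrank k (ConstGrp.F k Γ) = Fintype.card Γ := Module.finrank_pi k
    rw [h1, ← EtaleUnip.card_points (K := k) (B := A), ← Nat.card_eq_fintype_card]
    exact Nat.card_congr ((WithConv.equiv _).symm.trans e.symm.toEquiv)
  refine ⟨hinj, ?_⟩
  exact (LinearMap.injective_iff_surjective_of_finrank_eq_finrank
    (f := (constMap e).toLinearMap) hdim).mp hinj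

/-- the Gelfand transform is a bialgebra isomorphism onto the constant group scheme -/
noncomputable def constBialgEquiv : A ≃ₐc[k] ConstGrp.F k Γ :=
  BialgEquiv.ofBijective
    (BialgHom.ofAlgHom (constMap e)
      (by
        apply AlgHom.ext
        intro a
        show (constMap e a) 1 = CoalgebraStruct.counit (R := k) a
        rw [constMap_apply, map_one]
        rfl)
      (by
        apply AlgHom.ext
        intro a
        rw [← sub_eq_zero]
        let Φ : Set (ConstGrp.F k Γ →ₗ[k] k) :=
          Set.range fun z : Γ => (ConstGrp.ev k z).toLinearMap
        have hsep : ∀ f : ConstGrp.F k Γ, (∀ φ ∈ Φ, φ f = 0) → f = 0 := by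
          intro f hf
          funext z
          exact hf _ ⟨z, rfl⟩
        apply tensor_eq_zero_of_forall Φ Φ hsep hsep
        rintro _ ⟨z, rfl⟩ _ ⟨w, rfl⟩
        rw [map_sub, map_sub, sub_eq_zero]
        have h1 : ∀ t : A ⊗[k] A, LinearMap.mul' k k (TensorProduct.map
            (ConstGrp.ev k z).toLinearMap (ConstGrp.ev k w).toLinearMap
            ((Algebra.TensorProduct.map (constMap e) (constMap e)) t)) =
            LinearMap.mul' k k (TensorProduct.map (e z).ofConv.toLinearMap
              (e w).ofConv.toLinearMap t) := by
          intro t
          induction t using TensorProduct.induction_on with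
          | zero => simp
          | tmul x y => rfl
          | add x y hx hy => simp only [map_add, hx, hy]
        show LinearMap.mul' k k (TensorProduct.map (ConstGrp.ev k z).toLinearMap
            (ConstGrp.ev k w).toLinearMap ((Algebra.TensorProduct.map (constMap e) (constMap e))
              (CoalgebraStruct.comul (R := k) a))) =
          LinearMap.mul' k k (TensorProduct.map (ConstGrp.ev k z).toLinearMap
            (ConstGrp.ev k w).toLinearMap (CoalgebraStruct.comul (R := k) (constMap e a)))
        rw [h1, ← convMul_ofConv_apply, mul'_map_ev_eq, ConstGrp.pair_comul, constMap_apply,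
          map_mul]))
    (constMap_bijective e)

end Const

end Groth.Agent.H9.FinHopf
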