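import Mathlib
import Groth.Agent.Lib.Helper9.FinHopf.Connected
import Groth.Agent.Lib.Helper9.CocommDiag.Main

/-!
# Simple connected multiplicative finite group schemes are `μ_p` (helper9)
-/

set_option autoImplicit false
set_option linter.unusedSectionVars false

universe u v

open TensorProduct WithConv

namespace Groth.Agent.H9.FinHopf

open Groth.Agent.H9 Groth.Agent.H9.SubHopf Groth.Agent.H9.CocommDiag Groth.Agent.H9.Comod

section Diag

variable {k : Type u} [Field k] [IsAlgClosed k] {A : Type v} [CommRing A] [HopfAlgebra k A]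
  [Coalgebra.IsCocomm k A] [Module.Finite k A]

lemma isSubcoalg_top : IsSubcoalg k (⊤ : Submodule k A) := by
  intro b _
  refine ⟨TensorProduct.map (Submodule.topEquiv (R := k) (M := A)).symm.toLinearMap
    (Submodule.topEquiv (R := k) (M := A)).symm.toLinearMap (CoalgebraStruct.comul (R := k) b), ?_⟩
  rw [← LinearMap.comp_apply, ← TensorProduct.map_comp]
  have : (⊤ : Submodule k A).subtype ∘ₗ
      (Submodule.topEquiv (R := k) (M := A)).symm.toLinearMap = LinearMap.id := by
    ext x
    rfl
  rw [this, TensorProduct.map_id]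
  rfl

/-- a finite-dimensional cocommutative Hopf algebra with reduced dual algebra is spanned by its
group-like elements -/
theorem span_groupLike_eq_top (hdual : IsReduced (WithConv (A →ₗ[k] k))) :
    Submodule.span k {a : A | IsGroupLikeElem k a} = ⊤ := by
  have hC : IsSubcoalg k (⊤ : Submodule k A) := isSubcoalg_top
  have hfg : (⊤ : Submodule k A).FG := Module.Finite.fg_top
  have hfin : Module.Finite k (WithConv (A →ₗ[k] k) ⧸ perp ⊤ hC) := finite_quot ⊤ hC hfg
  have hred : IsReduced (WithConv (A →ₗ[k] k) ⧸ perp ⊤ hC) := by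
    constructor
    intro x hx
    obtain ⟨ψ, rfl⟩ := Ideal.Quotient.mk_surjective x
    obtain ⟨n, hn⟩ := hx
    rw [← map_pow, Ideal.Quotient.eq_zero_iff_mem, mem_perp] at hn
    have h1 : ψ ^ n = 0 := by
      apply WithConv.ofConv_injective
      apply LinearMap.ext
      intro a
      exact hn a trivial
    have h2 : ψ = 0 := hdual.eq_zero ψ ⟨n, h1⟩
    rw [h2, map_zero]
  rw [eq_top_iff]
  intro c hc
  by_contra hcS
  obtain ⟨f, hfc, hfS⟩ := Submodule.exists_le_ker_of_notMem hcS
  have h1 : Ideal.Quotient.mk (perp ⊤ hC) (toConv f) = 0 := by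
    refine eq_zero_of_forall_character (K := k) (L := WithConv (A →ₗ[k] k) ⧸ perp ⊤ hC) _ ?_
    intro χ
    obtain ⟨g, -, hgl, hg⟩ := groupLike_of_character ⊤ hC hfg χ
    rw [hg, ofConv_toConv]
    exact hfS (Submodule.subset_span hgl)
  rw [Ideal.Quotient.eq_zero_iff_mem, mem_perp] at h1
  exact hfc (h1 c hc)

end Diag

section Main

variable (k : Type u) [Field k] [IsAlgClosed k] (p : ℕ) [hp : Fact p.Prime] [CharP k p]
  (A : Type v) [CommRing A] [HopfAlgebra k A] [Coalgebra.IsCocomm k A] [Module.Finite k A]
  [IsLocalRing A]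

theorem mu_p_of_simple (hdual : IsReduced (WithConv (A →ₗ[k] k))) (hA : 1 < Module.finrank k A)
    (hsimple : ∀ I : Ideal A, I.IsHopfIdeal k → I = ⊥ ∨ I = RingHom.ker (Bialgebra.counitAlgHom k A)) :
    ∃ g : A, IsGroupLikeElem k g ∧ g ^ p = 1 ∧
      LinearIndependent k (fun i : Fin p => g ^ (i : ℕ)) ∧ Module.finrank k A = p := by
  classical
  -- the group of group-like elements is a basis
  have hli := linearIndep_groupLikeVal (R := k) (A := A)
  have hfinΓ : Finite (GroupLike k A) := hli.finite
  have : Fintype (GroupLike k A) := Fintype.ofFinite _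
  have hrange : Set.range (GroupLike.val (R := k) (A := A)) = {a : A | IsGroupLikeElem k a} := by
    ext a
    constructor
    · rintro ⟨g, rfl⟩
      exact g.isGroupLikeElem_val
    · intro ha
      exact ⟨⟨a, ha⟩, rfl⟩
  have hspan : ⊤ ≤ Submodule.span k (Set.range (GroupLike.val (R := k) (A := A))) := by
    rw [hrange, span_groupLike_eq_top hdual]
  have hcard : Module.finrank k A = Fintype.card (GroupLike k A) :=
    Module.finrank_eq_card_basis (Module.Basis.mk hli hspan)
  -- the order is a power of `p`
  obtain ⟨n, hn⟩ := exists_finrank_eq_ringExpChar_pow k A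
  have hexp : ExpChar k p := ExpChar.prime hp.out
  have hq : ringExpChar k = p := ringExpChar.eq k p
  rw [hq] at hn
  have hn0 : n ≠ 0 := by
    rintro rfl
    rw [pow_zero] at hn
    omega
  have hdvd : p ∣ Nat.card (GroupLike k A) := by
    rw [Nat.card_eq_fintype_card, ← hcard, hn]
    exact dvd_pow_self p hn0
  obtain ⟨h, hh⟩ := exists_prime_orderOf_dvd_card' p hdvd
  set g : A := h.val with hg
  have hgl : IsGroupLikeElem k g := h.isGroupLikeElem_val
  have hgp : g ^ p = 1 := by
    have h1 : h ^ p = 1 := by rw [← hh]; exact pow_orderOf_eq_one h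
    have h2 := congrArg GroupLike.val h1
    rw [GroupLike.val_pow, GroupLike.val_one] at h2
    exact h2
  have hg1 : g ≠ 1 := by
    intro h1
    have h2 : h = 1 := GroupLike.val_injective (by rw [GroupLike.val_one]; exact h1)
    rw [h2, orderOf_one] at hh
    exact hp.out.one_lt.ne hh
  have hinj : Function.Injective (fun i : Fin p => h ^ (i : ℕ)) := by
    intro i j hij
    apply Fin.ext
    apply pow_injOn_Iio_orderOf (x := h)
    · rw [Set.mem_Iio, hh]; exact i.2
    · rw [Set.mem_Iio, hh]; exact j.2
    · exact hij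
  have hlin : LinearIndependent k (fun i : Fin p => g ^ (i : ℕ)) := by
    have := hli.comp _ hinj
    exact this
  refine ⟨g, hgl, hgp, hlin, ?_⟩
  -- the Hopf subalgebra generated by `g`
  set B : Subalgebra k A := Algebra.adjoin k {g} with hBdef
  have hgB : g ∈ B := Algebra.subset_adjoin rfl
  have hSg : HopfAlgebraStruct.antipode k g = g ^ (p - 1) := by
    have h1 : HopfAlgebraStruct.antipode k g * g = 1 := hgl.antipode_mul_cancel
    have h2 : g * g ^ (p - 1) = 1 := by
      rw [← pow_succ', Nat.sub_add_cancel hp.out.one_lt.le, hgp]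
    calc HopfAlgebraStruct.antipode k g
        = HopfAlgebraStruct.antipode k g * (g * g ^ (p - 1)) := by rw [h2, mul_one]
      _ = g ^ (p - 1) := by rw [← mul_assoc, h1, one_mul]
  have hB : IsSubHopf B := by
    constructor
    · have h1 : B ≤ (Algebra.TensorProduct.map B.val B.val).range.comap
          (Bialgebra.comulAlgHom k A) := by
        apply Algebra.adjoin_le
        rintro _ rfl
        rw [SetLike.mem_coe, Subalgebra.mem_comap]
        refine ⟨(⟨g, hgB⟩ : B) ⊗ₜ[k] (⟨g, hgB⟩ : B), ?_⟩
        show g ⊗ₜ[k] g = CoalgebraStruct.comul (R := k) g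
        exact hgl.comul_eq_tmul_self.symm
      intro b hb
      obtain ⟨t, ht⟩ := h1 hb
      exact ⟨t, ht⟩
    · have h1 : B ≤ B.comap (HopfAlgebra.antipodeAlgHom k A) := by
        apply Algebra.adjoin_le
        rintro _ rfl
        rw [SetLike.mem_coe, Subalgebra.mem_comap]
        show HopfAlgebraStruct.antipode k g ∈ B
        rw [hSg]
        exact B.pow_mem hgB _
      intro b hb
      exact h1 hb
  have hnil : ∀ b ∈ B, CoalgebraStruct.counit (R := k) (A := A) b = 0 → IsNilpotent b :=
    fun b _ hb0 => isNilpotent_of_counit_eq_zero k hb0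
  have hlag := finrank_eq_mul B (comul_mem_lTensor hB) hnil
  have hHI : (augSpan B).IsHopfIdeal k := isHopfIdeal_augSpan hB
  have hJ : augSpan B = RingHom.ker (Bialgebra.counitAlgHom k A) := by
    rcases hsimple _ hHI with h0 | h0
    · exfalso
      have h1 : g - 1 ∈ augSpan B := by
        apply Ideal.subset_span
        refine ⟨B.sub_mem hgB B.one_mem, ?_⟩
        rw [map_sub, hgl.counit_eq_one, Bialgebra.counit_one, sub_self]
      rw [h0, Ideal.mem_bot, sub_eq_zero] at h1
      exact hg1 h1
    · exact h0
  have hquot : Module.finrank k (A ⧸ augSpan B) = 1 := by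
    rw [hJ]
    have hsurj : Function.Surjective (Bialgebra.counitAlgHom k A).toLinearMap :=
      fun c => ⟨algebraMap k A c, by simp⟩
    have e := LinearMap.quotKerEquivOfSurjective (Bialgebra.counitAlgHom k A).toLinearMap hsurj
    have h1 : Module.finrank k (A ⧸ LinearMap.ker (Bialgebra.counitAlgHom k A).toLinearMap) = 1 := by
      rw [e.finrank_eq, Module.finrank_self]
    exact h1
  -- `B` has dimension `p`
  have hBspan : Subalgebra.toSubmodule B =
      Submodule.span k (Set.range fun i : Fin p => g ^ (i : ℕ)) := by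
    apply le_antisymm
    · intro b hb
      have hb' : b ∈ Algebra.adjoin k {g} := hb
      rw [Algebra.adjoin_singleton_eq_range_aeval] at hb'
      obtain ⟨P, rfl⟩ := hb'
      show Polynomial.aeval g P ∈ _
      rw [Polynomial.aeval_eq_sum_range]
      apply Submodule.sum_mem
      intro i _
      apply Submodule.smul_mem
      have h1 : g ^ i = g ^ (i % p) := by
        conv_lhs => rw [← Nat.div_add_mod i p, pow_add, pow_mul, hgp, one_pow, one_mul]
      rw [h1]
      exact Submodule.subset_span ⟨⟨i % p, Nat.mod_lt _ hp.out.pos⟩, rfl⟩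
    · apply Submodule.span_le.mpr
      rintro _ ⟨i, rfl⟩
      exact B.pow_mem hgB _
  have hBdim : Module.finrank k B = p := by
    have h1 : Module.finrank k (Subalgebra.toSubmodule B) = p := by
      rw [hBspan, finrank_span_eq_card hlin, Fintype.card_fin]
    exact h1
  rw [hlag, hBdim, hquot, mul_one]

end Main

end Groth.Agent.H9.FinHopf
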