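import Mathlib
import Groth.Prelude.Def_ConstGrp
import Groth.Prelude.Def_AlphaP
import Groth.Prelude.Def_CartDual
import Groth.Agent.Lib.Helper9.FinHopf.ClassifyEtale
import Groth.Agent.Lib.Helper9.FinHopf.MultSimple

/-!
# Classification of finite group schemes of prime order over an algebraically closed field (helper9)
-/

set_option autoImplicit false
set_option linter.unusedSectionVars false

universe u v

open TensorProduct WithConv

namespace Groth.Agent.H9.FinHopf

open Groth.Agent.H9 Groth.Agent.H9.SubHopf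

section Mu

variable {k : Type u} [Field k] [IsAlgClosed k] {A : Type v} [CommRing A] [HopfAlgebra k A]
  [Coalgebra.IsCocomm k A] [Module.Finite k A]

/-- a finite commutative group scheme of prime order with étale Cartier dual is `μ_p` -/
theorem nonempty_bialgEquiv_monoidAlgebra (p : ℕ) [hp : Fact p.Prime]
    (hdual : IsReduced (WithConv (A →ₗ[k] k))) (hA : Module.finrank k A = p) :
    Nonempty (A ≃ₐc[k] MonoidAlgebra k (Multiplicative (ZMod p))) := by
  classical
  have hli := linearIndep_groupLikeVal (R := k) (A := A)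
  have hfinΓ : Finite (GroupLike k A) := hli.finite
  have : Fintype (GroupLike k A) := Fintype.ofFinite _
  have hrange : Set.range (GroupLike.val (R := k) (A := A)) = {a : A | IsGroupLikeElem k a} := by
    ext a
    constructor
    · rintro ⟨g, rfl⟩
      exact g.isGroupLikeElem_val
    · intro ha
      exact ⟨⟨a, ha⟩, rfl⟩
  have hspan : ⊤ ≤ Submodule.span k (Set.range (GroupLike.val (R := k) (A := A))) := by
    rw [hrange, span_groupLike_eq_top hdual]
  have hcard : Module.finrank k A = Fintype.card (GroupLike k A) :=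
    Module.finrank_eq_card_basis (Module.Basis.mk hli hspan)
  have hcardp : Nat.card (GroupLike k A) = p := by
    rw [Nat.card_eq_fintype_card, ← hcard, hA]
  have hcyc : IsCyclic (GroupLike k A) := isCyclic_of_prime_card hcardp
  obtain ⟨g, hg⟩ := IsCyclic.exists_generator (α := GroupLike k A)
  let e : Multiplicative (ZMod p) ≃* GroupLike k A := zmodMulEquivOfGenerator hg hcardp
  let f : MonoidAlgebra k (GroupLike k A) →ₐc[k] A := MonoidAlgebra.liftGroupLikeBialgHom
  have hf : ∀ γ : GroupLike k A, f (MonoidAlgebra.single γ 1) = γ.val := by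
    intro γ
    rw [MonoidAlgebra.liftGroupLikeBialgHom_apply, MonoidAlgebra.lift_single, one_smul]
    rfl
  have hsurj : Function.Surjective f := by
    have h1 : (⊤ : Submodule k A) ≤ LinearMap.range (f : MonoidAlgebra k (GroupLike k A) →ₗ[k] A) := by
      refine hspan.trans ?_
      apply Submodule.span_le.mpr
      rintro _ ⟨γ, rfl⟩
      exact ⟨MonoidAlgebra.single γ 1, hf γ⟩
    intro a
    obtain ⟨x, hx⟩ := h1 (Submodule.mem_top (x := a))
    exact ⟨x, hx⟩
  have hdim : Module.finrank k (MonoidAlgebra k (GroupLike k A)) = Module.finrank k A := by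
    rw [Module.finrank_eq_card_basis (MonoidAlgebra.basis (GroupLike k A) k), hcard]
  have hinj : Function.Injective f :=
    (LinearMap.injective_iff_surjective_of_finrank_eq_finrank
      (f := (f : MonoidAlgebra k (GroupLike k A) →ₗ[k] A)) hdim).mpr hsurj
  exact ⟨(BialgEquiv.ofBijective f ⟨hinj, hsurj⟩).symm.trans
    (MonoidAlgebra.domCongrBialgEquiv (R := k) (A := k) e.symm)⟩

end Mu

section Alpha

variable {k : Type u} [Field k] (p : ℕ) [hp : Fact p.Prime] [CharP k p]
  {A : Type v} [CommRing A] [HopfAlgebra k A] [Module.Finite k A]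

/-- a Hopf algebra of dimension `p` with a nonzero primitive `p`-nilpotent element is `α_p` -/
theorem nonempty_bialgEquiv_alphaP {x : A}
    (hx : CoalgebraStruct.comul (R := k) x = x ⊗ₜ[k] (1 : A) + (1 : A) ⊗ₜ[k] x) (hx0 : x ≠ 0)
    (hxp : x ^ p = 0) (hA : Module.finrank k A = p) :
    Nonempty (A ≃ₐc[k] AlphaP.A p k) := by
  have hlin := linearIndependent_pow_of_prim p hx hx0 p le_rfl
  have hspan : Submodule.span k (Set.range fun i : Fin p => x ^ (i : ℕ)) = ⊤ :=
    hlin.span_eq_top_of_card_eq_finrank' (by rw [Fintype.card_fin, hA])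
  let Θ : AlphaP.A p k →ₐ[k] A := AlphaP.lift p k x hxp
  have hΘx : Θ (AlphaP.x p k) = x := AlphaP.lift_x x hxp
  let f : AlphaP.A p k →ₐc[k] A := BialgHom.ofAlgHom Θ
    (by
      apply AlphaP.algHom_ext
      rw [AlgHom.comp_apply, hΘx]
      show CoalgebraStruct.counit (R := k) x = CoalgebraStruct.counit (R := k) (AlphaP.x p k)
      rw [UnipLie.counit_primitive hx, AlphaP.counit_x])
    (by
      apply AlphaP.algHom_ext
      rw [AlgHom.comp_apply, AlgHom.comp_apply, hΘx]
      show (Algebra.TensorProduct.map Θ Θ) (CoalgebraStruct.comul (R := k) (AlphaP.x p k)) =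
        CoalgebraStruct.comul (R := k) x
      rw [AlphaP.comul_x, map_add, Algebra.TensorProduct.map_tmul, Algebra.TensorProduct.map_tmul,
        hΘx, map_one, hx])
  have hsurj : Function.Surjective f := by
    have h1 : (⊤ : Submodule k A) ≤ LinearMap.range (f : AlphaP.A p k →ₗ[k] A) := by
      rw [← hspan]
      apply Submodule.span_le.mpr
      rintro _ ⟨i, rfl⟩
      refine ⟨AlphaP.x p k ^ (i : ℕ), ?_⟩
      show Θ (AlphaP.x p k ^ (i : ℕ)) = x ^ (i : ℕ)
      rw [map_pow, hΘx]
    intro a
    obtain ⟨y, hy⟩ := h1 (Submodule.mem_top (x := a))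
    exact ⟨y, hy⟩
  have hdim : Module.finrank k (AlphaP.A p k) = Module.finrank k A := by
    rw [AlphaP.finrank_eq, hA]
  have hinj : Function.Injective f :=
    (LinearMap.injective_iff_surjective_of_finrank_eq_finrank
      (f := (f : AlphaP.A p k →ₗ[k] A)) hdim).mpr hsurj
  exact ⟨(BialgEquiv.ofBijective f ⟨hinj, hsurj⟩).symm⟩

end Alpha

section Main

variable (k : Type u) [Field k] [IsAlgClosed k] (p : ℕ) [hp : Fact p.Prime] [CharP k p]
  (A : Type v) [CommRing A] [HopfAlgebra k A]

/-- étale case -/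
theorem nonempty_bialgEquiv_constGrp [Module.Finite k A] [IsReduced A] (ℓ : ℕ) [hℓ : Fact ℓ.Prime]
    (hA : Module.finrank k A = ℓ) :
    Nonempty (A ≃ₐc[k] ConstGrp.F k (Multiplicative (ZMod ℓ))) := by
  have hcard : Nat.card (WithConv (A →ₐ[k] k)) = ℓ := by
    rw [← hA, ← EtaleUnip.card_points (K := k) (B := A)]
    exact Nat.card_congr (WithConv.equiv _)
  have hcyc : IsCyclic (WithConv (A →ₐ[k] k)) := isCyclic_of_prime_card hcard
  obtain ⟨g, hg⟩ := IsCyclic.exists_generator (α := WithConv (A →ₐ[k] k))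
  exact ⟨constBialgEquiv (zmodMulEquivOfGenerator hg hcard)⟩

/-- connected case -/
theorem nonempty_bialgEquiv_of_isLocalRing [Module.Finite k A] [IsLocalRing A]
    (hA : Module.finrank k A = p) :
    Nonempty (A ≃ₐc[k] MonoidAlgebra k (Multiplicative (ZMod p))) ∨
      Nonempty (A ≃ₐc[k] AlphaP.A p k) := by
  have hcocomm : Coalgebra.IsCocomm k A := isCocomm_of_isLocalRing p hA
  have hdimD : Module.finrank k (WithConv (A →ₗ[k] k)) = p := by
    rw [(WithConv.linearEquiv k (A →ₗ[k] k)).finrank_eq, ← hA]
    exact Subspace.dual_finrank_eq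
  have hprime : (Module.finrank k (WithConv (A →ₗ[k] k))).Prime := by
    rw [hdimD]; exact hp.out
  rcases isLocalRing_or_isReduced_of_prime (k := k) (A := WithConv (A →ₗ[k] k)) hprime with
    hloc | hred
  · right
    have h1 : 1 < Module.finrank k A := by rw [hA]; exact hp.out.one_lt
    obtain ⟨x, hx0, hx⟩ := exists_prim_of_isLocalRing_dual k hloc h1
    have hxp : x ^ p = 0 := pow_eq_zero_of_finrank_eq p hA (UnipLie.counit_primitive hx)
    exact nonempty_bialgEquiv_alphaP p hx hx0 hxp hA
  · left
    exact nonempty_bialgEquiv_monoidAlgebra p hred hA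

/-- **classification of group schemes of prime order over an algebraically closed field** -/
theorem classify_prime (ℓ : ℕ) [hℓ : Fact ℓ.Prime] (hA : Module.finrank k A = ℓ) :
    (ℓ ≠ p → Nonempty (A ≃ₐc[k] ConstGrp.F k (Multiplicative (ZMod ℓ)))) ∧
      (ℓ = p → Nonempty (A ≃ₐc[k] ConstGrp.F k (Multiplicative (ZMod p))) ∨
        Nonempty (A ≃ₐc[k] MonoidAlgebra k (Multiplicative (ZMod p))) ∨
        Nonempty (A ≃ₐc[k] AlphaP.A p k)) := by
  have hfin : Module.Finite k A :=
    Module.finite_of_finrank_pos (by rw [hA]; exact hℓ.out.pos)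
  have hprime : (Module.finrank k A).Prime := by rw [hA]; exact hℓ.out
  have hlocal : IsLocalRing A → ℓ = p := by
    intro hloc
    obtain ⟨n, hn⟩ := exists_finrank_eq_ringExpChar_pow k A
    have hexp : ExpChar k p := ExpChar.prime hp.out
    have hq : ringExpChar k = p := ringExpChar.eq k p
    rw [hq, hA] at hn
    exact ((Nat.Prime.pow_eq_iff hℓ.out).mp hn.symm).1.symm
  rcases isLocalRing_or_isReduced_of_prime (k := k) hprime with hloc | hred
  · have hℓp := hlocal hloc
    refine ⟨fun hne => absurd hℓp hne, fun _ => ?_⟩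
    right
    exact nonempty_bialgEquiv_of_isLocalRing k p A (hℓp ▸ hA)
  · refine ⟨fun _ => nonempty_bialgEquiv_constGrp k A ℓ hA, fun h => ?_⟩
    left
    subst h
    exact nonempty_bialgEquiv_constGrp k A ℓ hA

end Main

end Groth.Agent.H9.FinHopf
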