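import Mathlib
import Groth.Agent.Lib.Helper9.FinHopf.FreeQuot

/-!
# Freeness over invariants: final assembly (helper9)
-/

set_option autoImplicit false
set_option linter.unusedSectionVars false

universe u v w

open TensorProduct

namespace Groth.Agent.H9.FinHopf

open Groth.Agent.H9

section Final

variable {k : Type u} [Field k] [IsAlgClosed k] {A : Type v} [CommRing A] [HopfAlgebra k A]
  [Module.Finite k A] {C : Type w} [CommRing C] [Bialgebra k C] [Module.Finite k C]
  (π : A →ₐ[k] C)
  (hε : ∀ a : A, CoalgebraStruct.counit (R := k) (π a) = CoalgebraStruct.counit (R := k) a)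
  (hΔ : ∀ a : A, CoalgebraStruct.comul (R := k) (π a) =
    TensorProduct.map π.toLinearMap π.toLinearMap (CoalgebraStruct.comul (R := k) a))
  (hπ : Function.Surjective π)

include hε hΔ hπ in
/-- **Mumford**: `A` has a basis of `dim C` elements over the right invariants of `C` -/
theorem exists_basis_invSub :
    Nonempty (Module.Basis (Fin (Module.finrank k C)) (invSub π) A) := by
  classical
  have hfinX : Finite (A →ₐ[k] k) := EtaleUnip.finite_points
  obtain ⟨a, ha⟩ := exists_family_linearIndependent (fun χ : A →ₐ[k] k => gpt π χ)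
    (gpt_surjective π hπ) (Module.finrank k C) le_rfl
  let c := Module.finBasis k C
  let eA := Algebra.TensorProduct.basis A c
  let w : Fin (Module.finrank k C) → A ⊗[k] C := fun j => rho π (a j)
  have hdet : IsUnit (eA.det w) := by
    apply isUnit_of_forall_point (k := k)
    intro χ
    have h1 := det_map_tensor c χ w
    rw [← h1]
    have h2 : (Algebra.TensorProduct.basis k c).det
        (fun j => Algebra.TensorProduct.map χ (AlgHom.id k C) (w j)) =
        c.det (fun j => gpt π χ (a j)) := by
      rw [Module.Basis.det_apply, Module.Basis.det_apply]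
      congr 1
      ext l j
      rw [Module.Basis.toMatrix_apply, Module.Basis.toMatrix_apply, lid_repr]
      rfl
    rw [h2]
    have h3 : Submodule.span k (Set.range fun j => gpt π χ (a j)) = ⊤ :=
      (ha χ).span_eq_top_of_card_eq_finrank' (by simp)
    exact ((Module.Basis.is_basis_iff_det c).mp ⟨ha χ, h3⟩).ne_zero
  obtain ⟨hwli, hwsp⟩ := (Module.Basis.is_basis_iff_det eA).mpr hdet
  let bw : Module.Basis (Fin (Module.finrank k C)) A (A ⊗[k] C) :=
    Module.Basis.mk hwli hwsp.ge
  have hbw : ∀ j, bw j = w j := fun j => Module.Basis.mk_apply hwli hwsp.ge j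
  let eR' := Algebra.TensorProduct.basis (A ⊗[k] C) c
  have hdet' : IsUnit (eR'.det (fun j => Pmap π (w j))) := by
    have h1 := det_map_tensor c (rho π) w
    rw [h1]
    exact hdet.map (rho π)
  have huli := ((Module.Basis.is_basis_iff_det eR').mpr hdet').1
  have hsmulA : ∀ (r : A) (y : A ⊗[k] C), r • y = (r ⊗ₜ[k] (1 : C)) * y :=
    fun r y => smul_eq_tmul_one_mul r y
  have hsmulR : ∀ (r : A ⊗[k] C) (y : (A ⊗[k] C) ⊗[k] C),
      r • y = (r ⊗ₜ[k] (1 : C)) * y :=
    fun r y => smul_eq_tmul_one_mul r y
  have hdecomp : ∀ x : A, rho π x = ∑ j, bw.repr (rho π x) j • w j := by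
    intro x
    conv_lhs => rw [← bw.sum_repr (rho π x)]
    exact Finset.sum_congr rfl fun j _ => by rw [hbw]
  -- invariance of the coefficients
  have hinv : ∀ (x : A) (j : Fin (Module.finrank k C)),
      bw.repr (rho π x) j ∈ invSub π := by
    intro x
    set cf : Fin (Module.finrank k C) → A := fun j => bw.repr (rho π x) j with hcf
    have hx : rho π x = ∑ j, cf j • w j := hdecomp x
    have hP : Pmap π (rho π x) = ∑ j, rho π (cf j) • Pmap π (w j) := by
      conv_lhs => rw [hx]
      rw [map_sum]
      refine Finset.sum_congr rfl fun j _ => ?_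
      rw [hsmulA, map_mul, Pmap_tmul_one, hsmulR]
    have hQ : Qmap (rho π x) = ∑ j, (cf j ⊗ₜ[k] (1 : C)) • Pmap π (w j) := by
      conv_lhs => rw [hx]
      rw [map_sum]
      refine Finset.sum_congr rfl fun j _ => ?_
      rw [hsmulA, map_mul, Qmap_tmul_one, hsmulR]
      show _ * Qmap (rho π (a j)) = _ * Pmap π (rho π (a j))
      rw [Pmap_rho π hΔ]
    have hzero : ∑ j, (rho π (cf j) - cf j ⊗ₜ[k] (1 : C)) • Pmap π (w j) = 0 := by
      have h5 : ∀ j, (rho π (cf j) - cf j ⊗ₜ[k] (1 : C)) • Pmap π (w j) =
          rho π (cf j) • Pmap π (w j) - (cf j ⊗ₜ[k] (1 : C)) • Pmap π (w j) := by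
        intro j
        rw [hsmulR, hsmulR, hsmulR, TensorProduct.sub_tmul, sub_mul]
      rw [Finset.sum_congr rfl fun j _ => h5 j]
      rw [Finset.sum_sub_distrib, ← hP, ← hQ, Pmap_rho π hΔ, sub_self]
    have h0 := Fintype.linearIndependent_iff.mp huli _ hzero
    intro j
    rw [AlgHom.mem_equalizer]
    exact sub_eq_zero.mp (h0 j)
  -- the basis
  have hli : LinearIndependent (invSub π) a := by
    rw [Fintype.linearIndependent_iff]
    intro g hg
    have h1 : ∑ j, ((g j : invSub π) : A) • w j = 0 := by
      have h2 := congrArg (rho π) hg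
      rw [map_sum, map_zero] at h2
      rw [← h2]
      refine Finset.sum_congr rfl fun j _ => ?_
      show _ = rho π (((g j : invSub π) : A) * a j)
      rw [map_mul, hsmulA]
      congr 1
      exact ((AlgHom.mem_equalizer _ _ _).mp (g j).2).symm
    have h3 := Fintype.linearIndependent_iff.mp hwli _ h1
    intro j
    exact Subtype.ext (h3 j)
  have hsp : ⊤ ≤ Submodule.span (invSub π) (Set.range a) := by
    rintro x -
    have h1 : x = ∑ j, (⟨bw.repr (rho π x) j, hinv x j⟩ : invSub π) • a j := by
      apply rho_injective π hε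
      rw [map_sum]
      conv_lhs => rw [hdecomp x]
      refine Finset.sum_congr rfl fun j _ => ?_
      show _ = rho π (bw.repr (rho π x) j * a j)
      rw [map_mul, hsmulA]
      congr 1
      exact ((AlgHom.mem_equalizer _ _ _).mp (hinv x j)).symm
    rw [h1]
    exact Submodule.sum_mem _ fun j _ =>
      Submodule.smul_mem _ _ (Submodule.subset_span ⟨j, rfl⟩)
  exact ⟨Module.Basis.mk hli hsp⟩

include hε hΔ hπ in
/-- `A` is free of rank `dim C` over the right invariants -/
theorem free_and_finrank_invSub :
    Module.Free (invSub π) A ∧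
      Module.finrank (invSub π) A = Module.finrank k C := by
  obtain ⟨b⟩ := exists_basis_invSub (k := k) π hε hΔ hπ
  have hnt : Nontrivial A := Bialgebra.nontrivial k
  refine ⟨Module.Free.of_basis b, ?_⟩
  rw [Module.finrank_eq_card_basis b, Fintype.card_fin]

end Final

end Groth.Agent.H9.FinHopf
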