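import Mathlib
import Groth.Agent.Lib.Helper9.FinHopf.Trunc

/-!
# The Frobenius kernel of a finite connected group scheme is a truncated polynomial algebra
(helper9)
-/

set_option autoImplicit false
set_option linter.unusedSectionVars false

universe u v

open TensorProduct

namespace Groth.Agent.H9.FinHopf

open Groth.Agent.H9 Groth.Agent.H9.SubHopf Groth.Agent.H9.CotGr

section Coord

variable {k : Type u} [Field k] {A : Type v} [CommRing A] [Bialgebra k A]
  [Algebra.FiniteType k A]

/-- coordinate systems exist -/
theorem exists_isCoord :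
    ∃ x : Fin (Module.finrank k (augI k A).Cotangent) → A, IsCoord (k := k) x := by
  classical
  have hfin : Module.Finite k (augI k A).Cotangent := finite_cotangent
  let b := Module.finBasis k (augI k A).Cotangent
  have hex : ∀ i, ∃ y : augI k A, (augI k A).toCotangent y = b i := fun i =>
    Ideal.toCotangent_surjective _ (b i)
  choose y hy using hex
  let x : Fin (Module.finrank k (augI k A).Cotangent) → A := fun i => (y i : A)
  have hx : ∀ i, x i ∈ augI k A := fun i => (y i).2
  have hsum : ∀ (c : Fin (Module.finrank k (augI k A).Cotangent) → k)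
      (hmem : ∑ i, c i • x i ∈ augI k A),
      (augI k A).toCotangent ⟨_, hmem⟩ = ∑ i, c i • b i := by
    intro c hmem
    have h2 : (⟨∑ i, c i • x i, hmem⟩ : augI k A) = ∑ i, c i • y i := by
      apply Subtype.ext
      rw [AddSubmonoidClass.coe_finsetSum]
      rfl
    rw [h2, map_sum]
    refine Finset.sum_congr rfl fun i _ => ?_
    rw [← hy]
    exact (((augI k A).toCotangent.restrictScalars k).map_smul _ _)
  refine ⟨x, hx, ?_, ?_⟩
  · intro c hc
    have hmem : ∑ i, c i • x i ∈ augI k A := sum_smul_mem_augI hx c
    have h1 : (augI k A).toCotangent ⟨_, hmem⟩ = 0 := by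
      rw [Ideal.toCotangent_eq_zero]
      exact hc
    rw [hsum c hmem] at h1
    exact Fintype.linearIndependent_iff.mp b.linearIndependent c h1
  · intro a ha
    refine ⟨fun i => b.repr ((augI k A).toCotangent ⟨a, ha⟩) i, ?_⟩
    have hmem := sum_smul_mem_augI hx (fun i => b.repr ((augI k A).toCotangent ⟨a, ha⟩) i)
    have h1 : (augI k A).toCotangent ⟨a, ha⟩ = (augI k A).toCotangent ⟨_, hmem⟩ := by
      rw [hsum _ hmem, b.sum_repr]
    rw [Ideal.toCotangent_eq] at h1
    exact h1

end Coord

section FrobKer

variable {k : Type u} [Field k] (p : ℕ) [hp : Fact p.Prime] [CharP k p]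
  {A : Type v} [CommRing A] [HopfAlgebra k A]

/-- the ideal generated by `p`-th powers of the augmentation ideal -/
def frobIdeal : Ideal A := Ideal.span ((fun a : A => a ^ p) '' (augI k A : Set A))

lemma frobIdeal_eq_augSpan :
    frobIdeal (k := k) p (A := A) = augSpan (frobAdj (k := k) p (A := A)) := by
  have hnt : Nontrivial A := Bialgebra.nontrivial k
  have hchar : CharP A p := charP_of_algebra (k := k) p A
  apply le_antisymm
  · apply Ideal.span_le.mpr
    rintro _ ⟨a, ha, rfl⟩
    exact pow_mem_augSpan p ((mem_augI).mp ha)
  · apply Ideal.span_le.mpr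
    rintro b ⟨hbB, hb0⟩
    -- the subalgebra of elements congruent to a scalar modulo `frobIdeal`
    let S : Subalgebra k A :=
      { carrier := {b | b - algebraMap k A (CoalgebraStruct.counit (R := k) b) ∈
          frobIdeal (k := k) p (A := A)}
        mul_mem' := by
          intro b b' hb hb'
          simp only [Set.mem_ofPred_eq] at hb hb' ⊢
          have h1 : b * b' - algebraMap k A (CoalgebraStruct.counit (R := k) (b * b')) =
              (b - algebraMap k A (CoalgebraStruct.counit (R := k) b)) * b' +
              algebraMap k A (CoalgebraStruct.counit (R := k) b) *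
                (b' - algebraMap k A (CoalgebraStruct.counit (R := k) b')) := by
            rw [Bialgebra.counit_mul, map_mul]
            ring
          rw [h1]
          exact add_mem (Ideal.mul_mem_right _ _ hb) (Ideal.mul_mem_left _ _ hb')
        add_mem' := by
          intro b b' hb hb'
          simp only [Set.mem_ofPred_eq] at hb hb' ⊢
          have h1 : b + b' - algebraMap k A (CoalgebraStruct.counit (R := k) (b + b')) =
              (b - algebraMap k A (CoalgebraStruct.counit (R := k) b)) +
                (b' - algebraMap k A (CoalgebraStruct.counit (R := k) b')) := by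
            rw [map_add, map_add]
            ring
          rw [h1]
          exact add_mem hb hb'
        algebraMap_mem' := by
          intro c
          simp only [Set.mem_ofPred_eq]
          rw [Bialgebra.counit_algebraMap, sub_self]
          exact zero_mem _ }
    have hle : frobAdj (k := k) p (A := A) ≤ S := by
      apply Algebra.adjoin_le
      rintro _ ⟨a, rfl⟩
      show a ^ p - algebraMap k A (CoalgebraStruct.counit (R := k) (a ^ p)) ∈
        frobIdeal (k := k) p (A := A)
      have h1 : CoalgebraStruct.counit (R := k) (a ^ p) = CoalgebraStruct.counit (R := k) a ^ p :=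
        map_pow (Bialgebra.counitAlgHom k A) a p
      rw [h1, map_pow, ← sub_pow_char]
      apply Ideal.subset_span
      refine ⟨_, ?_, rfl⟩
      rw [SetLike.mem_coe, mem_augI, map_sub, Bialgebra.counit_algebraMap, sub_self]
    have h2 := hle hbB
    have h3 : b - algebraMap k A (CoalgebraStruct.counit (R := k) b) ∈
        frobIdeal (k := k) p (A := A) := h2
    rw [hb0, map_zero, sub_zero] at h3
    exact h3

instance isHopfIdeal_frobIdeal : (frobIdeal (k := k) p (A := A)).IsHopfIdeal k := by
  rw [frobIdeal_eq_augSpan]
  exact isHopfIdeal_augSpan (isSubHopf_frobAdj p)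

lemma frobIdeal_le_sq : frobIdeal (k := k) p (A := A) ≤ (augI k A) ^ 2 := by
  rw [frobIdeal_eq_augSpan]
  exact augSpan_frobAdj_le p

variable [Module.Finite k A]

open MvPolynomial in
/-- the coordinate ring of the Frobenius kernel is a truncated polynomial algebra -/
theorem nonempty_algEquiv_frobKer :
    Nonempty ((A ⧸ frobIdeal (k := k) p (A := A)) ≃ₐ[k]
      (MvPolynomial (Fin (Module.finrank k (augI k A).Cotangent)) k ⧸
        Ideal.span (Set.range fun i : Fin (Module.finrank k (augI k A).Cotangent) =>
          (X i : MvPolynomial (Fin (Module.finrank k (augI k A).Cotangent)) k) ^ p))) := by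
  set d := Module.finrank k (augI k A).Cotangent with hd
  set J := frobIdeal (k := k) p (A := A) with hJ
  obtain ⟨x, hcoord⟩ := exists_isCoord (k := k) (A := A)
  have hcoord' := hcoord.quotient J (frobIdeal_le_sq p)
  have hcot : Module.finrank k (augI k (A ⧸ J)).Cotangent = d := hcoord'.finrank_cotangent
  have h1 : ∀ f : A ⧸ J, Bialgebra.counitAlgHom k (A ⧸ J) f = 0 → f ^ p = 0 := by
    intro f hf
    obtain ⟨a, rfl⟩ := Ideal.Quotient.mk_surjective f
    have ha : a ∈ augI k A := by
      rw [mem_augI]
      exact hf
    rw [← map_pow, Ideal.Quotient.eq_zero_iff_mem]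
    exact Ideal.subset_span ⟨a, ha, rfl⟩
  have hdim : Module.finrank k (A ⧸ J) = p ^ d := by
    rw [finrank_of_height_one p h1]
    congr 1
  obtain ⟨hx, -, hspan⟩ := hcoord'
  have hnil : ∃ N : ℕ, (RingHom.ker (Bialgebra.counitAlgHom k (A ⧸ J))) ^ N = ⊥ := by
    apply exists_pow_eq_bot_of_forall_isNilpotent (k := k)
    intro f hf
    exact ⟨p, h1 f ((RingHom.mem_ker).mp hf)⟩
  obtain ⟨e⟩ := nonempty_algEquiv_trunc p (fun _ : Fin d => 1) (Bialgebra.counitAlgHom k (A ⧸ J))
    (fun i => Ideal.Quotient.mk J (x i)) hx hspan hnil
    (by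
      intro i
      rw [pow_one]
      exact h1 _ ((RingHom.mem_ker).mp (hx i)))
    (by
      rw [hdim, Finset.prod_const, Finset.card_univ, Fintype.card_fin, pow_one])
  have hI : truncIdeal (k := k) p (fun _ : Fin d => 1) =
      Ideal.span (Set.range fun i : Fin d => (X i : MvPolynomial (Fin d) k) ^ p) := by
    simp only [truncIdeal, pow_one]
  exact ⟨e.trans (Ideal.quotientEquivAlgOfEq k hI)⟩

end FrobKer

end Groth.Agent.H9.FinHopf
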