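import Mathlib
import Groth.Agent.Lib.Helper9.FinHopf.HeightOne

/-!
# Hopf algebras of height one: the restricted monomials form a basis (helper9)
-/

set_option autoImplicit false
set_option linter.unusedSectionVars false

universe u v

open MvPolynomial

namespace Groth.Agent.H9.FinHopf

open Groth.Agent.H9.UnipLie Groth.Agent.H9.CotGr

section Abstract

variable {k : Type u} [Field k] (p : ℕ) [hp : Fact p.Prime] [CharP k p]
  {A : Type v} [CommRing A] [Algebra k A] {r : ℕ}

variable {p}

variable (ε : A →ₐ[k] k) (x : Fin r → A) (hx : ∀ i, x i ∈ RingHom.ker ε)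
  (D : Fin r → Derivation k A A)
  (hD : ∀ i j, D i (x j) - (if i = j then 1 else 0) ∈ RingHom.ker ε)

variable (hspan : ∀ a ∈ RingHom.ker ε, ∃ c : Fin r → k, a - ∑ i, c i • x i ∈ (RingHom.ker ε) ^ 2)

include hx hD hspan in
/-- the restricted monomials are linearly independent and span -/
theorem rmon_basis (hnil : ∃ N : ℕ, (RingHom.ker ε) ^ N = ⊥) (hxp : ∀ i, x i ^ p = 0) :
    LinearIndependent k (rmon (p := p) x) ∧
      ⊤ ≤ Submodule.span k (Set.range (rmon (p := p) x)) := by
  have hp0 : 0 < p := hp.out.pos
  let ι : (Fin r → Fin p) → (Fin r →₀ ℕ) := fun α =>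
    Finsupp.equivFunOnFinite.symm (fun i => (α i : ℕ))
  have hι : Function.Injective ι := by
    intro α β hαβ
    funext i
    have := DFunLike.congr_fun hαβ i
    exact Fin.ext this
  have hmon : ∀ α : Fin r → Fin p, rmon x α = aeval x (monomial (ι α) (1 : k)) := by
    intro α
    rw [aeval_monomial, map_one, one_mul, Finsupp.prod_fintype _ _ (fun i => pow_zero _)]
    rfl
  have hli : LinearIndependent k (rmon (p := p) x) := by
    rw [Fintype.linearIndependent_iff]
    intro g hg
    set P : MvPolynomial (Fin r) k := ∑ α, monomial (ι α) (g α) with hPdef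
    have hPR : Restricted p P := by
      intro d hd i
      have h1 := MvPolynomial.support_sum (s := Finset.univ)
        (f := fun α => monomial (ι α) (g α)) hd
      rw [Finset.mem_biUnion] at h1
      obtain ⟨α, -, hα⟩ := h1
      have h2 := MvPolynomial.support_monomial_subset hα
      rw [Finset.mem_singleton] at h2
      rw [h2]
      exact (α i).2
    have hP0 : aeval x P = 0 := by
      rw [hPdef, map_sum, ← hg]
      refine Finset.sum_congr rfl fun α _ => ?_
      rw [hmon, ← map_smul, smul_monomial, smul_eq_mul, mul_one]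
    have hPz := restricted_eq_zero ε x hx D hD P hPR hP0
    intro α
    have h1 := congrArg (coeff (ι α)) hPz
    rw [hPdef, coeff_sum, coeff_zero, Finset.sum_eq_single α] at h1
    · rw [coeff_monomial, if_pos rfl] at h1
      exact h1
    · intro β _ hβ
      rw [coeff_monomial, if_neg (fun h => hβ (hι h))]
    · intro h; exact absurd (Finset.mem_univ α) h
  have hsp : ⊤ ≤ Submodule.span k (Set.range (rmon (p := p) x)) := by
    intro y _
    obtain ⟨P, rfl⟩ := aeval_surjective ε x hx hspan hnil y
    rw [P.as_sum, map_sum]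
    apply Submodule.sum_mem
    intro d _
    by_cases hd : ∀ i, d i < p
    · have h1 : monomial d (coeff d P) = coeff d P • monomial (ι (fun i => ⟨d i, hd i⟩)) (1 : k) := by
        rw [smul_monomial, smul_eq_mul, mul_one]
        have h2 : ι (fun i => ⟨d i, hd i⟩) = d := by
          ext i
          rfl
        rw [h2]
      rw [h1, map_smul, ← hmon]
      exact Submodule.smul_mem _ _ (Submodule.subset_span ⟨_, rfl⟩)
    · rw [not_forall] at hd
      obtain ⟨i, hi⟩ := hd
      rw [not_lt] at hi
      have h1 : aeval x (monomial d (coeff d P)) = 0 := by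
        rw [aeval_monomial, Finsupp.prod_fintype _ _ (fun i => pow_zero _)]
        have h2 : x i ^ d i = 0 := by
          rw [← Nat.sub_add_cancel hi, pow_add, hxp i, mul_zero]
        rw [Finset.prod_eq_zero (Finset.mem_univ i) h2, mul_zero]
      rw [h1]
      exact zero_mem _
  exact ⟨hli, hsp⟩

end Abstract

section Hopf

variable {k : Type u} [Field k] (p : ℕ) [hp : Fact p.Prime] [CharP k p]
  {A : Type v} [CommRing A] [Bialgebra k A] [Module.Finite k A]

/-- a finite-dimensional bialgebra of height at most one has a basis of restricted monomials -/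
theorem exists_rmon_basis
    (h1 : ∀ f : A, Bialgebra.counitAlgHom k A f = 0 → f ^ p = 0) :
    ∃ (r : ℕ) (x : Fin r → A), (∀ i, Bialgebra.counitAlgHom k A (x i) = 0) ∧
      LinearIndependent k (rmon (p := p) x) ∧
      ⊤ ≤ Submodule.span k (Set.range (rmon (p := p) x)) := by
  obtain ⟨x, D, hx, hD, hspan⟩ := exists_data (k := k) (A := A)
  refine ⟨_, x, fun i => RingHom.mem_ker.mp (hx i), ?_⟩
  apply rmon_basis (Bialgebra.counitAlgHom k A) x hx D hD hspan
  · apply exists_pow_eq_bot_of_forall_isNilpotent (k := k)
    intro f hf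
    exact ⟨p, h1 f ((RingHom.mem_ker).mp hf)⟩
  · intro i
    exact h1 _ (RingHom.mem_ker.mp (hx i))

end Hopf

end Groth.Agent.H9.FinHopf
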