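import Mathlib
import Groth.Agent.Lib.Helper9.FinHopf.HeightOneBasis
import Groth.Agent.Lib.Helper9.FinHopf.KillOrder

/-!
# Hopf algebras of height one over a local ring are truncated polynomial algebras (helper9)
-/

set_option autoImplicit false
set_option linter.unusedSectionVars false

universe u v

open MvPolynomial TensorProduct

namespace Groth.Agent.H9.FinHopf

section Local

variable (p : ℕ) [hp : Fact p.Prime] (R : Type u) [CommRing R] [IsLocalRing R] [CharP R p]
  (A : Type u) [CommRing A] [HopfAlgebra R A]

/-- height one implies integral -/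
lemma isIntegral_of_height_one
    (h1 : ∀ a : A, Bialgebra.counitAlgHom R A a = 0 → a ^ p = 0) : Algebra.IsIntegral R A := by
  constructor
  intro a
  have h2 : a = (a - algebraMap R A (Bialgebra.counitAlgHom R A a)) +
      algebraMap R A (Bialgebra.counitAlgHom R A a) := by ring
  rw [h2]
  apply IsIntegral.add _ isIntegral_algebraMap
  apply IsIntegral.of_pow hp.out.pos
  rw [h1]
  · exact isIntegral_zero
  · rw [map_sub, AlgHom.commutes]
    exact sub_self _

/-- elements of the augmentation ideal of the special fibre lift to the augmentation ideal -/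
lemma exists_lift_aug (f : IsLocalRing.ResidueField R ⊗[R] A)
    (hf : Bialgebra.counitAlgHom (IsLocalRing.ResidueField R) (IsLocalRing.ResidueField R ⊗[R] A) f = 0) :
    ∃ a : A, Bialgebra.counitAlgHom R A a = 0 ∧ (1 : IsLocalRing.ResidueField R) ⊗ₜ[R] a = f := by
  obtain ⟨a₀, ha₀⟩ := TensorProduct.mk_surjective R A (IsLocalRing.ResidueField R)
    IsLocalRing.residue_surjective f
  have ha₀' : (1 : IsLocalRing.ResidueField R) ⊗ₜ[R] a₀ = f := ha₀
  refine ⟨a₀ - algebraMap R A (Bialgebra.counitAlgHom R A a₀), ?_, ?_⟩
  · rw [map_sub, AlgHom.commutes]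
    exact sub_self _
  · have h2 := counit_jmap (k := R) (A := A) (IsLocalRing.ResidueField R) a₀
    have h3 : CoalgebraStruct.counit (R := IsLocalRing.ResidueField R)
        ((1 : IsLocalRing.ResidueField R) ⊗ₜ[R] a₀) =
        algebraMap R (IsLocalRing.ResidueField R) (CoalgebraStruct.counit (R := R) a₀) := h2
    rw [ha₀'] at h3
    have hf' : CoalgebraStruct.counit (R := IsLocalRing.ResidueField R) f = 0 := hf
    rw [hf'] at h3
    rw [TensorProduct.tmul_sub, ha₀', Algebra.algebraMap_eq_smul_one, TensorProduct.tmul_smul,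
      TensorProduct.smul_tmul', Algebra.smul_def, mul_one]
    have h4 : algebraMap R (IsLocalRing.ResidueField R) (Bialgebra.counitAlgHom R A a₀) = 0 :=
      h3.symm
    rw [h4, TensorProduct.zero_tmul, sub_zero]

/-- monomials with a large exponent lie in the ideal of `p`-th powers -/
lemma monomial_mem_span_pow {n : ℕ} (d : Fin n →₀ ℕ) (c : R) (i : Fin n) (hi : p ≤ d i) :
    monomial d c ∈ Ideal.span (Set.range fun i : Fin n => (X i : MvPolynomial (Fin n) R) ^ p) := by
  have h0 : d - Finsupp.single i p + Finsupp.single i p = d := by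
    ext j
    by_cases hj : j = i
    · subst hj
      simp only [Finsupp.coe_add, Finsupp.coe_tsub, Pi.add_apply, Pi.sub_apply,
        Finsupp.single_eq_same]
      omega
    · simp [Finsupp.single_eq_of_ne hj]
  have h1 : monomial d c = monomial (d - Finsupp.single i p) c * (X i : MvPolynomial (Fin n) R) ^ p := by
    rw [X_pow_eq_monomial, monomial_mul, mul_one, h0]
  rw [h1]
  exact Ideal.mul_mem_left _ _ (Ideal.subset_span ⟨i, rfl⟩)

/-- **Hopf algebras of height one over a local ring are truncated polynomial algebras.** -/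
theorem exists_algEquiv_truncated [Algebra.FinitePresentation R A] [Module.Flat R A]
    (h1 : ∀ a : A, Bialgebra.counitAlgHom R A a = 0 → a ^ p = 0) :
    ∃ n : ℕ, Nonempty (A ≃ₐ[R] (MvPolynomial (Fin n) R ⧸
      Ideal.span (Set.range fun i : Fin n => (X i : MvPolynomial (Fin n) R) ^ p))) := by
  classical
  have hint := isIntegral_of_height_one p R A h1
  have hfin : Module.Finite R A := Algebra.IsIntegral.finite
  have hcharK : CharP (IsLocalRing.ResidueField R) p := by
    rw [CharP.charP_iff_prime_eq_zero hp.out]
    have h0 : (p : R) = 0 := CharP.cast_eq_zero R p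
    rw [← map_natCast (algebraMap R (IsLocalRing.ResidueField R)), h0, map_zero]
  -- the special fibre has height one
  have h1k : ∀ f : IsLocalRing.ResidueField R ⊗[R] A,
      Bialgebra.counitAlgHom (IsLocalRing.ResidueField R) (IsLocalRing.ResidueField R ⊗[R] A) f = 0 →
        f ^ p = 0 := by
    intro f hf
    obtain ⟨a, ha, rfl⟩ := exists_lift_aug R A f hf
    rw [Algebra.TensorProduct.tmul_pow, h1 a ha, TensorProduct.tmul_zero]
  obtain ⟨r, xb, hxb, hli, hsp⟩ := exists_rmon_basis (k := IsLocalRing.ResidueField R)
    (A := IsLocalRing.ResidueField R ⊗[R] A) p h1k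
  have hlift : ∀ i, ∃ a : A, Bialgebra.counitAlgHom R A a = 0 ∧
      (1 : IsLocalRing.ResidueField R) ⊗ₜ[R] a = xb i := fun i => exists_lift_aug R A _ (hxb i)
  choose x hx0 hx1 using hlift
  -- the restricted monomials form a basis of `A`
  have hmk : (TensorProduct.mk R (IsLocalRing.ResidueField R) A 1) ∘ (rmon (p := p) x) =
      rmon (p := p) xb := by
    funext α
    show (1 : IsLocalRing.ResidueField R) ⊗ₜ[R] (rmon (p := p) x α) = rmon (p := p) xb α
    unfold rmon
    have h2 : ∀ a : A, (1 : IsLocalRing.ResidueField R) ⊗ₜ[R] a =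
        (Algebra.TensorProduct.includeRight : A →ₐ[R] IsLocalRing.ResidueField R ⊗[R] A) a :=
      fun a => rfl
    rw [h2, map_prod]
    apply Finset.prod_congr rfl
    intro i _
    rw [map_pow, ← h2, hx1]
  have hbijk : Function.Bijective (Finsupp.linearCombination (IsLocalRing.ResidueField R)
      ((TensorProduct.mk R (IsLocalRing.ResidueField R) A 1) ∘ (rmon (p := p) x))) := by
    rw [hmk]
    refine ⟨hli, ?_⟩
    rw [← LinearMap.range_eq_top, Finsupp.range_linearCombination]
    exact top_le_iff.mp hsp
  have hbij := Module.IsLocalRing.linearCombination_bijective_of_flat (rmon (p := p) x) hbijk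
  -- the algebra map
  set J : Ideal (MvPolynomial (Fin r) R) :=
    Ideal.span (Set.range fun i : Fin r => (X i : MvPolynomial (Fin r) R) ^ p) with hJ
  have hxp : ∀ i, x i ^ p = 0 := fun i => h1 _ (hx0 i)
  have hJker : ∀ P ∈ J, aeval x P = 0 := by
    intro P hP
    have h2 : J ≤ RingHom.ker (aeval x : MvPolynomial (Fin r) R →ₐ[R] A) := by
      rw [hJ, Ideal.span_le]
      rintro _ ⟨i, rfl⟩
      rw [SetLike.mem_coe, RingHom.mem_ker, map_pow, aeval_X, hxp]
    exact RingHom.mem_ker.mp (h2 hP)
  let ψ : (MvPolynomial (Fin r) R ⧸ J) →ₐ[R] A := Ideal.Quotient.liftₐ J (aeval x) hJker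
  have hψ : ∀ P, ψ (Ideal.Quotient.mk J P) = aeval x P := fun P => rfl
  let ι : (Fin r → Fin p) → (Fin r →₀ ℕ) := fun α =>
    Finsupp.equivFunOnFinite.symm (fun i => (α i : ℕ))
  have hι : Function.Injective ι := by
    intro α β hαβ
    funext i
    have := DFunLike.congr_fun hαβ i
    exact Fin.ext this
  have hmon : ∀ α : Fin r → Fin p, rmon (p := p) x α = aeval x (monomial (ι α) (1 : R)) := by
    intro α
    rw [aeval_monomial, map_one, one_mul, Finsupp.prod_fintype _ _ (fun i => pow_zero _)]
    rfl
  have hsurj : Function.Surjective ψ := by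
    intro a
    obtain ⟨c, rfl⟩ := hbij.2 a
    rw [Finsupp.linearCombination_apply, Finsupp.sum]
    refine ⟨Ideal.Quotient.mk J (∑ α ∈ c.support, c α • monomial (ι α) (1 : R)), ?_⟩
    rw [hψ, map_sum]
    apply Finset.sum_congr rfl
    intro α _
    rw [map_smul, hmon]
  have hinj : Function.Injective ψ := by
    rw [injective_iff_map_eq_zero]
    intro q hq
    obtain ⟨P, rfl⟩ := Ideal.Quotient.mk_surjective q
    rw [hψ] at hq
    rw [Ideal.Quotient.eq_zero_iff_mem]
    -- the restricted part of `P`
    let ρ : MvPolynomial (Fin r) R →ₗ[R] ((Fin r → Fin p) →₀ R) :=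
      { toFun := fun P => Finsupp.equivFunOnFinite.symm (fun α => coeff (ι α) P)
        map_add' := fun P Q => by
          ext α
          simp [coeff_add]
        map_smul' := fun a P => by
          ext α
          simp [coeff_smul] }
    have hρ : ∀ P α, ρ P α = coeff (ι α) P := fun P α => rfl
    have hcomb : (aeval x : MvPolynomial (Fin r) R →ₐ[R] A).toLinearMap =
        (Finsupp.linearCombination R (rmon (p := p) x)) ∘ₗ ρ := by
      apply MvPolynomial.linearMap_ext
      intro d
      apply LinearMap.ext
      intro a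
      simp only [LinearMap.comp_apply, AlgHom.toLinearMap_apply]
      by_cases h : ∀ i, d i < p
      · have h2 : ι (fun i => ⟨d i, h i⟩) = d := by
          ext i
          rfl
        have h3 : ρ (monomial d a) = Finsupp.single (fun i => ⟨d i, h i⟩) a := by
          ext β
          rw [hρ, coeff_monomial, Finsupp.single_apply]
          by_cases hβ : (fun i => (⟨d i, h i⟩ : Fin p)) = β
          · rw [if_pos hβ, if_pos (by rw [← hβ, h2])]
          · rw [if_neg hβ, if_neg]
            intro hd
            apply hβ
            apply hι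
            rw [h2, hd]
        rw [h3, Finsupp.linearCombination_single, hmon, h2, ← map_smul, smul_monomial, smul_eq_mul,
          mul_one]
      · have h3 : ρ (monomial d a) = 0 := by
          ext β
          rw [hρ, coeff_monomial, Finsupp.zero_apply, if_neg]
          intro hd
          apply h
          intro i
          rw [hd]
          exact (β i).2
        rw [h3, map_zero]
        rw [not_forall] at h
        obtain ⟨i, hi⟩ := h
        rw [not_lt] at hi
        exact hJker _ (monomial_mem_span_pow p R d _ i hi)
    have hc0 : ρ P = 0 := by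
      apply hbij.1
      have h2 := LinearMap.congr_fun hcomb P
      rw [LinearMap.comp_apply, AlgHom.toLinearMap_apply, hq] at h2
      rw [← h2, map_zero]
    -- `P` is a sum of non-restricted monomials
    rw [P.as_sum]
    apply Ideal.sum_mem
    intro d hd
    by_cases h : ∀ i, d i < p
    · have h5 : coeff d P = 0 := by
        have h6 : ι (fun i => ⟨d i, h i⟩) = d := by
          ext i
          rfl
        have h7 := hρ P (fun i => ⟨d i, h i⟩)
        rw [hc0, Finsupp.zero_apply, h6] at h7
        exact h7.symm
      rw [h5, monomial_zero]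
      exact J.zero_mem
    · rw [not_forall] at h
      obtain ⟨i, hi⟩ := h
      rw [not_lt] at hi
      exact monomial_mem_span_pow p R d _ i hi
  exact ⟨r, ⟨(AlgEquiv.ofBijective ψ ⟨hinj, hsurj⟩).symm⟩⟩

end Local

end Groth.Agent.H9.FinHopf
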