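import Mathlib
import Groth.Agent.Lib.Helper9.FinHopf.Primitive

/-!
# Primitive elements in possibly noncommutative bialgebras (helper9)
-/

set_option autoImplicit false
set_option linter.unusedSectionVars false

universe u v

open TensorProduct

namespace Groth.Agent.H9.FinHopf.NC

open Groth.Agent.H9.FinHopf

section Counit

variable {k : Type u} [Field k] {A : Type v} [Ring A] [Bialgebra k A]

lemma counit_prim {x : A}
    (hx : CoalgebraStruct.comul (R := k) x = x ⊗ₜ[k] (1 : A) + (1 : A) ⊗ₜ[k] x) :
    CoalgebraStruct.counit (R := k) x = 0 := by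
  have h1 := Coalgebra.rTensor_counit_comul (R := k) x
  rw [hx, map_add, LinearMap.rTensor_tmul, LinearMap.rTensor_tmul, Bialgebra.counit_one] at h1
  have h2 := congrArg (TensorProduct.lid k A) h1
  simp only [map_add, TensorProduct.lid_tmul, one_smul] at h2
  rw [add_eq_right] at h2
  have h3 := congrArg (CoalgebraStruct.counit (R := k)) h2
  rwa [map_smul, Bialgebra.counit_one, smul_eq_mul, mul_one, map_zero] at h3

end Counit

section PrimPow

variable {k : Type u} [Field k] {A : Type v} [Ring A] [Bialgebra k A]

lemma comul_pow_of_prim {x : A}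
    (hx : CoalgebraStruct.comul (R := k) x = x ⊗ₜ[k] (1 : A) + (1 : A) ⊗ₜ[k] x) (m : ℕ) :
    CoalgebraStruct.comul (R := k) (x ^ m) =
      ∑ ab ∈ Finset.HasAntidiagonal.antidiagonal m, m.choose ab.1 • ((x ^ ab.1) ⊗ₜ[k] (x ^ ab.2)) := by
  have h1 : CoalgebraStruct.comul (R := k) (x ^ m) = (CoalgebraStruct.comul (R := k) x) ^ m :=
    map_pow (Bialgebra.comulAlgHom k A) x m
  have hcomm : Commute (x ⊗ₜ[k] (1 : A)) ((1 : A) ⊗ₜ[k] x) := by
    show _ * _ = _ * _
    rw [Algebra.TensorProduct.tmul_mul_tmul, Algebra.TensorProduct.tmul_mul_tmul, mul_one, one_mul]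
  rw [h1, hx, hcomm.add_pow']
  refine Finset.sum_congr rfl fun ab _ => ?_
  rw [Algebra.TensorProduct.tmul_pow, Algebra.TensorProduct.tmul_pow, one_pow, one_pow,
    Algebra.TensorProduct.tmul_mul_tmul, mul_one, one_mul]

variable (p : ℕ) [hp : Fact p.Prime] [CharP k p]

/-- in characteristic `p` the powers `1, x, …, x^(p-1)` of a nonzero primitive element are
linearly independent -/
theorem linearIndependent_pow_of_prim {x : A}
    (hx : CoalgebraStruct.comul (R := k) x = x ⊗ₜ[k] (1 : A) + (1 : A) ⊗ₜ[k] x) (hx0 : x ≠ 0) :
    ∀ m ≤ p, LinearIndependent k (fun i : Fin m => x ^ (i : ℕ)) := by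
  classical
  have hnt : Nontrivial A := Bialgebra.nontrivial k
  intro m
  induction m with
  | zero =>
    intro _
    exact linearIndependent_empty_type
  | succ m ih =>
    intro hm
    have hli := ih (by omega)
    rw [linearIndependent_finSucc']
    refine ⟨hli, ?_⟩
    intro hmem
    have hmem' : x ^ m ∈ Submodule.span k (Set.range fun i : Fin m => x ^ (i : ℕ)) := hmem
    rw [Submodule.mem_span_range_iff_exists_fun] at hmem'
    obtain ⟨c, hc⟩ := hmem'
    rcases m with _ | _ | m
    · rw [Finset.univ_eq_empty, Finset.sum_empty, pow_zero] at hc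
      exact zero_ne_one hc
    · rw [Fin.sum_univ_one, pow_one] at hc
      have h1 := congrArg (CoalgebraStruct.counit (R := k)) hc
      rw [counit_prim hx, map_smul, Fin.val_zero, pow_zero, Bialgebra.counit_one,
        smul_eq_mul, mul_one] at h1
      rw [h1, zero_smul] at hc
      exact hx0 hc.symm
    · obtain ⟨f1, hf1⟩ := exists_dual_of_linearIndependent hli ⟨1, by omega⟩
      obtain ⟨f2, hf2⟩ := exists_dual_of_linearIndependent hli ⟨m + 1, by omega⟩
      have hf1' : ∀ i : ℕ, i < m + 2 → f1 (x ^ i) = if i = 1 then 1 else 0 := by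
        intro i hi
        have := hf1 ⟨i, hi⟩
        simp only [Fin.mk.injEq] at this
        exact this
      have hf2' : ∀ i : ℕ, i < m + 2 → f2 (x ^ i) = if i = m + 1 then 1 else 0 := by
        intro i hi
        have := hf2 ⟨i, hi⟩
        simp only [Fin.mk.injEq] at this
        exact this
      let L : A ⊗[k] A →ₗ[k] k := LinearMap.mul' k k ∘ₗ TensorProduct.map f1 f2
      have hL : ∀ a b : A, L (a ⊗ₜ[k] b) = f1 a * f2 b := fun a b => rfl
      have key1 : L (CoalgebraStruct.comul (R := k) (x ^ (m + 2))) = ((m + 2 : ℕ) : k) := by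
        rw [comul_pow_of_prim hx, map_sum, Finset.sum_eq_single (1, m + 1)]
        · rw [map_nsmul, hL, hf1' 1 (by omega), hf2' (m + 1) (by omega), if_pos rfl, if_pos rfl,
            mul_one, Nat.choose_one_right, nsmul_eq_mul, mul_one]
        · rintro ⟨a, b⟩ hab hne
          rw [Finset.HasAntidiagonal.mem_antidiagonal] at hab
          simp only at hab
          rw [map_nsmul, hL]
          by_cases ha : a = 0
          · subst ha
            rw [hf1' 0 (by omega), if_neg (by omega), zero_mul, smul_zero]
          · by_cases hb : b = 0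
            · subst hb
              rw [hf2' 0 (by omega), if_neg (by omega), mul_zero, smul_zero]
            · rw [hf1' a (by omega)]
              by_cases ha1 : a = 1
              · exfalso
                apply hne
                subst ha1
                have : b = m + 1 := by omega
                rw [this]
              · rw [if_neg ha1, zero_mul, smul_zero]
        · intro h
          exfalso
          apply h
          rw [Finset.HasAntidiagonal.mem_antidiagonal]
          show 1 + (m + 1) = m + 2
          omega
      have key2 : L (CoalgebraStruct.comul (R := k) (x ^ (m + 2))) = 0 := by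
        rw [← hc, map_sum, map_sum]
        apply Finset.sum_eq_zero
        intro i _
        rw [map_smul, map_smul, comul_pow_of_prim hx, map_sum]
        have : ∑ ab ∈ Finset.HasAntidiagonal.antidiagonal (i : ℕ),
            L ((i : ℕ).choose ab.1 • ((x ^ ab.1) ⊗ₜ[k] (x ^ ab.2))) = 0 := by
          apply Finset.sum_eq_zero
          rintro ⟨a, b⟩ hab
          rw [Finset.HasAntidiagonal.mem_antidiagonal] at hab
          simp only at hab
          have hi := i.2
          rw [map_nsmul, hL, hf1' a (by omega), hf2' b (by omega)]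
          by_cases ha1 : a = 1
          · rw [if_neg (show ¬ b = m + 1 by omega), mul_zero, smul_zero]
          · rw [if_neg ha1, zero_mul, smul_zero]
        rw [this, smul_zero]
      rw [key2] at key1
      have h1 : p ∣ m + 2 := (CharP.cast_eq_zero_iff k p (m + 2)).mp key1.symm
      have h2 := Nat.le_of_dvd (by omega) h1
      omega

end PrimPow

section Antipode

variable {k : Type u} [Field k] {A : Type v} [Ring A] [HopfAlgebra k A]

lemma antipode_prim {x : A}
    (hx : CoalgebraStruct.comul (R := k) x = x ⊗ₜ[k] (1 : A) + (1 : A) ⊗ₜ[k] x) :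
    HopfAlgebraStruct.antipode k x = -x := by
  have h1 := HopfAlgebra.mul_antipode_rTensor_comul_apply (R := k) x
  rw [hx, map_add, LinearMap.rTensor_tmul, LinearMap.rTensor_tmul, map_add, LinearMap.mul'_apply,
    LinearMap.mul'_apply, mul_one, HopfAlgebra.antipode_one, one_mul, counit_prim hx,
    map_zero] at h1
  exact eq_neg_of_add_eq_zero_left h1

lemma antipode_pow_prim {x : A}
    (hx : CoalgebraStruct.comul (R := k) x = x ⊗ₜ[k] (1 : A) + (1 : A) ⊗ₜ[k] x) (n : ℕ) :
    HopfAlgebraStruct.antipode k (x ^ n) = (-x) ^ n := by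
  induction n with
  | zero => rw [pow_zero, pow_zero, HopfAlgebra.antipode_one]
  | succ n ih =>
    rw [pow_succ, HopfAlgebra.antipode_mul_antidistrib, ih, antipode_prim hx, pow_succ']

end Antipode

end Groth.Agent.H9.FinHopf.NC
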