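import Mathlib

/-!
# Fixed vectors of `p`-semilinear maps over an algebraically closed field (helper9)

For an additive map `φ` on a finite-dimensional vector space over an algebraically closed field
of characteristic `p` with `φ (c • v) = c ^ p • φ v`, every nonzero vector `w` has in the span of
its orbit a nonzero vector `v` with `φ v = 0` or `φ v = v`.
-/

set_option autoImplicit false
set_option linter.unusedSectionVars false

universe u v

namespace Groth.Agent.H9.FinHopf

open Polynomial

section Semilinear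

variable {k : Type u} [Field k] (p : ℕ) [hp : Fact p.Prime]

/-- the recursive polynomials solving the fixed point equation -/
noncomputable def slPoly (a : ℕ → k) : ℕ → k[X]
  | 0 => C (a 0) * X ^ p
  | (i + 1) => (slPoly a i) ^ p + C (a (i + 1)) * X ^ p

lemma slPoly_zero (a : ℕ → k) : slPoly p a 0 = C (a 0) * X ^ p := rfl

lemma slPoly_succ (a : ℕ → k) (i : ℕ) :
    slPoly p a (i + 1) = (slPoly p a i) ^ p + C (a (i + 1)) * X ^ p := rfl

lemma X_pow_dvd_slPoly (a : ℕ → k) (i : ℕ) : (X : k[X]) ^ p ∣ slPoly p a i := by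
  induction i with
  | zero => exact Dvd.intro_left _ rfl
  | succ i ih =>
    rw [slPoly_succ]
    apply dvd_add
    · exact dvd_trans ih (dvd_pow_self _ hp.out.ne_zero)
    · exact Dvd.intro_left _ rfl

lemma slPoly_inv (a : ℕ → k) (i : ℕ) :
    (slPoly p a i = 0 ∧ ∀ j ≤ i, a j = 0) ∨ 2 ≤ (slPoly p a i).natDegree := by
  induction i with
  | zero =>
    by_cases h : a 0 = 0
    · left
      refine ⟨by rw [slPoly_zero, h, C_0, zero_mul], fun j hj => ?_⟩
      rw [Nat.le_zero.mp hj]; exact h
    · right
      rw [slPoly_zero, natDegree_C_mul_X_pow _ _ h]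
      exact hp.out.two_le
  | succ i ih =>
    rcases ih with ⟨h0, hall⟩ | hdeg
    · by_cases h : a (i + 1) = 0
      · left
        refine ⟨by rw [slPoly_succ, h0, zero_pow hp.out.ne_zero, h, C_0, zero_mul, add_zero], ?_⟩
        intro j hj
        rcases Nat.lt_or_eq_of_le hj with hlt | heq
        · exact hall j (Nat.lt_succ_iff.mp hlt)
        · rw [heq]; exact h
      · right
        rw [slPoly_succ, h0, zero_pow hp.out.ne_zero, zero_add, natDegree_C_mul_X_pow _ _ h]
        exact hp.out.two_le
    · right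
      have h1 : (slPoly p a i ^ p).natDegree = p * (slPoly p a i).natDegree := natDegree_pow _ _
      have h2 : (C (a (i + 1)) * X ^ p).natDegree ≤ p := natDegree_C_mul_X_pow_le _ _
      have hp2 := hp.out.two_le
      have h3 : (C (a (i + 1)) * X ^ p).natDegree < (slPoly p a i ^ p).natDegree := by
        rw [h1]; nlinarith
      rw [slPoly_succ, natDegree_add_eq_left_of_natDegree_lt h3, h1]
      nlinarith

variable [IsAlgClosed k]

lemma exists_root_slPoly (a : ℕ → k) (i : ℕ) (h : ∃ j ≤ i, a j ≠ 0) :
    ∃ y : k, y ≠ 0 ∧ (slPoly p a i).eval y = y := by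
  set F : k[X] := slPoly p a i - X with hF
  have hdeg : 2 ≤ (slPoly p a i).natDegree := by
    rcases slPoly_inv p a i with ⟨_, hall⟩ | hdeg
    · obtain ⟨j, hj, hne⟩ := h
      exact absurd (hall j hj) hne
    · exact hdeg
  have hcoeff : ∀ d < p, (slPoly p a i).coeff d = 0 :=
    X_pow_dvd_iff.mp (X_pow_dvd_slPoly p a i)
  have hF0 : F.coeff 0 = 0 := by
    rw [hF, coeff_sub, hcoeff 0 hp.out.pos, coeff_X_zero, sub_zero]
  have hF1 : F.coeff 1 = -1 := by
    rw [hF, coeff_sub, hcoeff 1 hp.out.one_lt, coeff_X_one, zero_sub]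
  set Q := F.divX with hQ
  have hFQ : Q * X = F := by
    have := divX_mul_X_add F
    rw [hF0, C_0, add_zero] at this
    exact this
  have hQ0 : Q.coeff 0 = -1 := by rw [hQ, coeff_divX, zero_add, hF1]
  have hFdeg : F.natDegree = (slPoly p a i).natDegree := by
    rw [hF]
    apply natDegree_sub_eq_left_of_natDegree_lt
    rw [natDegree_X]
    omega
  have hQne : Q ≠ 0 := by
    intro h0
    rw [h0, coeff_zero] at hQ0
    exact one_ne_zero (neg_eq_zero.mp hQ0.symm)
  have hQdeg : Q.degree ≠ 0 := by
    intro h0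
    have h1 : Q.natDegree = 0 := natDegree_eq_of_degree_eq_some h0
    have h2 : F.natDegree = Q.natDegree + 1 := by
      rw [← hFQ, natDegree_mul hQne X_ne_zero, natDegree_X]
    omega
  obtain ⟨y, hy⟩ := IsAlgClosed.exists_root Q hQdeg
  refine ⟨y, ?_, ?_⟩
  · intro hy0
    rw [hy0, IsRoot.def, ← coeff_zero_eq_eval_zero, hQ0] at hy
    exact one_ne_zero (neg_eq_zero.mp hy)
  · have h1 : F.eval y = 0 := by
      rw [← hFQ, eval_mul, hy, zero_mul]
    rw [hF, eval_sub, eval_X, sub_eq_zero] at h1
    exact h1

variable [CharP k p]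

/-- a `p`-semilinear endomorphism of a finite-dimensional space over an algebraically closed
field has, in the span of each nonzero orbit, a nonzero vector that is killed or fixed -/
theorem exists_fixed_or_killed {V : Type v} [AddCommGroup V] [Module k V] [Module.Finite k V]
    (φ : V →+ V) (hφ : ∀ (c : k) (v : V), φ (c • v) = c ^ p • φ v) (w : V) (hw : w ≠ 0) :
    ∃ v ∈ Submodule.span k (Set.range fun i : ℕ => (φ^[i]) w), v ≠ 0 ∧ (φ v = 0 ∨ φ v = v) := by
  classical
  set W : ℕ → V := fun i => (φ^[i]) w with hW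
  have hWs : ∀ i, W (i + 1) = φ (W i) := fun i => Function.iterate_succ_apply' φ i w
  have hW0 : W 0 = w := rfl
  have hex : ∃ m, ¬ LinearIndependent k (fun i : Fin m => W i) := by
    refine ⟨Module.finrank k V + 1, fun hli => ?_⟩
    have := hli.fintype_card_le_finrank
    rw [Fintype.card_fin] at this
    omega
  have hm1 : ¬ LinearIndependent k (fun i : Fin (Nat.find hex) => W i) := Nat.find_spec hex
  have hmpos : Nat.find hex ≠ 0 := by
    intro h0
    apply hm1
    rw [h0]
    exact linearIndependent_empty_type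
  obtain ⟨n, hn⟩ : ∃ n, Nat.find hex = n + 1 := Nat.exists_eq_succ_of_ne_zero hmpos
  have hli : LinearIndependent k (fun i : Fin n => W i) := by
    by_contra hcon
    have := Nat.find_min' hex hcon
    omega
  rw [hn] at hm1
  have hmem : W n ∈ Submodule.span k (Set.range fun i : Fin n => W i) := by
    by_contra hcon
    apply hm1
    rw [linearIndependent_finSucc']
    exact ⟨hli, hcon⟩
  rw [Submodule.mem_span_range_iff_exists_fun] at hmem
  obtain ⟨a, ha⟩ := hmem
  set a' : ℕ → k := fun i => if h : i < n then a ⟨i, h⟩ else 0 with ha'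
  have hsum : ∑ i ∈ Finset.range n, a' i • W i = W n := by
    rw [← ha, ← Fin.sum_univ_eq_sum_range (fun i => a' i • W i) n]
    refine Finset.sum_congr rfl fun i _ => ?_
    rw [ha']
    simp only [Fin.is_lt, dif_pos, Fin.eta]
  have hnpos : n ≠ 0 := by
    intro h0
    rw [h0, Finset.range_zero, Finset.sum_empty] at hsum
    exact hw hsum.symm
  obtain ⟨n', rfl⟩ : ∃ n', n = n' + 1 := Nat.exists_eq_succ_of_ne_zero hnpos
  by_cases hall : ∀ j < n' + 1, a' j = 0
  · -- killed vector
    refine ⟨W n', Submodule.subset_span ⟨n', rfl⟩, ?_, Or.inl ?_⟩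
    · exact hli.ne_zero ⟨n', Nat.lt_succ_self n'⟩
    · rw [← hWs, ← hsum]
      apply Finset.sum_eq_zero
      intro i hi
      rw [hall i (Finset.mem_range.mp hi), zero_smul]
  · -- fixed vector
    push Not at hall
    obtain ⟨j, hj, hne⟩ := hall
    obtain ⟨y, hy0, hy⟩ := exists_root_slPoly p a' n' ⟨j, by omega, hne⟩
    set x : ℕ → k := fun i => (slPoly p a' i).eval y with hx
    have hx0 : x 0 = a' 0 * y ^ p := by
      rw [hx]
      simp only [slPoly_zero, eval_mul, eval_C, eval_pow, eval_X]
    have hxs : ∀ i, x (i + 1) = x i ^ p + a' (i + 1) * y ^ p := by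
      intro i
      rw [hx]
      simp only [slPoly_succ, eval_add, eval_mul, eval_C, eval_pow, eval_X]
    have hxn : x n' = y := hy
    refine ⟨∑ i ∈ Finset.range (n' + 1), x i • W i, ?_, ?_, Or.inr ?_⟩
    · apply Submodule.sum_mem
      intro i _
      exact Submodule.smul_mem _ _ (Submodule.subset_span ⟨i, rfl⟩)
    · intro h0
      rw [← Fin.sum_univ_eq_sum_range (fun i => x i • W i) (n' + 1)] at h0
      have := Fintype.linearIndependent_iff.mp hli (fun i => x i) h0 ⟨n', Nat.lt_succ_self n'⟩
      rw [hxn] at this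
      exact hy0 this
    · rw [map_sum]
      have h1 : ∀ i ∈ Finset.range (n' + 1), φ (x i • W i) = x i ^ p • W (i + 1) := by
        intro i _
        rw [hφ, hWs]
      rw [Finset.sum_congr rfl h1, Finset.sum_range_succ, hxn, ← hsum,
        Finset.sum_range_succ' (fun i => a' i • W i), Finset.sum_range_succ' (fun i => x i • W i),
        hx0]
      have h2 : ∀ i ∈ Finset.range n', x (i + 1) • W (i + 1) =
          x i ^ p • W (i + 1) + y ^ p • (a' (i + 1) • W (i + 1)) := by
        intro i _
        rw [hxs, add_smul, smul_smul, mul_comm]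
      rw [Finset.sum_congr rfl h2, Finset.sum_add_distrib, smul_add, Finset.smul_sum, smul_smul,
        mul_comm (y ^ p) (a' 0), add_assoc]

end Semilinear

end Groth.Agent.H9.FinHopf
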