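import Mathlib
import Groth.Prelude.Def_ConstGrp
import Groth.Prelude.Def_AlphaP
import Groth.Prelude.Def_CartDual
import Groth.Agent.Lib.Helper9.FinHopf.PrimNC
import Groth.Agent.Lib.Helper9.FinHopf.Semilinear
import Groth.Agent.Lib.Helper9.FinHopf.Classify
import Groth.Agent.Lib.Helper9.UnipLie.PLie

/-!
# Non-reduced finite group schemes contain `μ_p` or `α_p` (helper9)
-/

set_option autoImplicit false
set_option linter.unusedSectionVars false

universe u v

open TensorProduct WithConv

namespace Groth.Agent.H9.FinHopf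

open Groth.Agent.H9 Groth.Agent.H9.SubHopf

section RingSemilinear

variable {k : Type u} [Field k] [IsAlgClosed k] (p : ℕ) [hp : Fact p.Prime] [CharP k p]

/-- in a finite-dimensional algebra over an algebraically closed field of characteristic `p`,
the span of the `p`-power iterates of a nonzero element contains a nonzero element `v` with
`v ^ p = 0` or `v ^ p = v` -/
theorem exists_mem_span_pow_char {R : Type v} [Ring R] [Algebra k R] [Module.Finite k R]
    (d : R) (hd : d ≠ 0) :
    ∃ v ∈ Submodule.span k (Set.range fun i : ℕ => d ^ p ^ i),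
      v ≠ 0 ∧ (v ^ p = 0 ∨ v ^ p = v) := by
  classical
  have hnt : Nontrivial R := ⟨⟨d, 0, hd⟩⟩
  have hcharR : CharP R p := charP_of_injective_algebraMap (algebraMap k R).injective p
  set E : Subalgebra k R := Algebra.adjoin k {d} with hE
  have hdE : d ∈ E := Algebra.subset_adjoin rfl
  have hcommE : ∀ x y : E, Commute x y := by
    intro x y
    exact (Algebra.isMulCommutative_adjoin_singleton (R := k) d).is_comm.comm x y
  have hcharE : CharP E p := charP_of_injective_algebraMap (algebraMap k E).injective p
  have hfinE : Module.Finite k E :=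
    Module.Finite.of_injective E.val.toLinearMap Subtype.val_injective
  let φ : E →+ E :=
    { toFun := fun e => e ^ p
      map_zero' := zero_pow hp.out.ne_zero
      map_add' := fun x y => add_pow_char_of_commute p (hcommE x y) }
  have hφ : ∀ (c : k) (e : E), φ (c • e) = c ^ p • φ e := fun c e => smul_pow c e p
  have hw : (⟨d, hdE⟩ : E) ≠ 0 := fun h => hd (congrArg Subtype.val h)
  obtain ⟨v, hv, hv0, hv'⟩ := exists_fixed_or_killed p φ hφ ⟨d, hdE⟩ hw
  have hiter : ∀ i : ℕ, ((φ^[i]) ⟨d, hdE⟩ : E) = (⟨d, hdE⟩ : E) ^ p ^ i := by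
    intro i
    induction i with
    | zero => rw [Function.iterate_zero, id, pow_zero, pow_one]
    | succ i ih =>
      rw [Function.iterate_succ_apply', ih]
      show ((⟨d, hdE⟩ : E) ^ p ^ i) ^ p = _
      rw [← pow_mul, ← pow_succ]
  refine ⟨(v : R), ?_, fun h => hv0 (Subtype.ext h), ?_⟩
  · have h1 := Submodule.mem_map_of_mem (f := E.val.toLinearMap) hv
    rw [Submodule.map_span, ← Set.range_comp] at h1
    have h2 : (E.val.toLinearMap ∘ fun i : ℕ => (φ^[i]) (⟨d, hdE⟩ : E)) =
        fun i : ℕ => d ^ p ^ i := by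
      funext i
      rw [Function.comp_apply, hiter]
      rfl
    rw [h2] at h1
    exact h1
  · rcases hv' with h | h
    · left
      have := congrArg Subtype.val h
      exact this
    · right
      have := congrArg Subtype.val h
      exact this

end RingSemilinear

section DualPrim

variable {k : Type u} [Field k] {A : Type v} [CommRing A] [HopfAlgebra k A] [Module.Finite k A]

/-- `ε`-derivations are primitive elements of the dual Hopf algebra -/
lemma prim_of_leibniz (d : CartDual.D k A)
    (hd : ∀ a b : A, d.ofConv (a * b) = d.ofConv a * CoalgebraStruct.counit (R := k) b +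
      CoalgebraStruct.counit (R := k) a * d.ofConv b) :
    CoalgebraStruct.comul (R := k) d =
      d ⊗ₜ[k] (1 : CartDual.D k A) + (1 : CartDual.D k A) ⊗ₜ[k] d := by
  apply (CartDual.ev₂ k A).injective
  apply TensorProduct.ext'
  intro a b
  rw [CartDual.ev₂_coalgebra_comul_tmul, map_add, LinearMap.add_apply, CartDual.ev₂_tmul,
    CartDual.ev₂_tmul]
  exact hd a b

/-- Leibniz rule for powers of a primitive element of the dual -/
lemma pow_apply_mul {v : CartDual.D k A}
    (hv : CoalgebraStruct.comul (R := k) v =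
      v ⊗ₜ[k] (1 : CartDual.D k A) + (1 : CartDual.D k A) ⊗ₜ[k] v) (n : ℕ) (a b : A) :
    (v ^ n).ofConv (a * b) = ∑ ij ∈ Finset.HasAntidiagonal.antidiagonal n,
      n.choose ij.1 • ((v ^ ij.1).ofConv a * (v ^ ij.2).ofConv b) := by
  have h1 := NC.comul_pow_of_prim hv n
  have h2 := congrArg (fun t => CartDual.ev₂ k A t (a ⊗ₜ[k] b)) h1
  simp only [CartDual.ev₂_coalgebra_comul_tmul, map_sum, map_nsmul, LinearMap.sum_apply,
    LinearMap.smul_apply, CartDual.ev₂_tmul] at h2
  exact h2

/-- the common zero set of a submonoid of the dual algebra, if an ideal stable under the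
antipode, is a Hopf ideal -/
theorem isHopfIdeal_of_perp (J : Ideal A) (S : Submonoid (WithConv (A →ₗ[k] k)))
    (hJ : ∀ a : A, a ∈ J ↔ ∀ f ∈ S, f.ofConv a = 0)
    (hS : ∀ f ∈ S, ∀ a ∈ J, f.ofConv (HopfAlgebraStruct.antipode k a) = 0) :
    J.IsHopfIdeal k := by
  have h1 : ∀ x ∈ J, CoalgebraStruct.counit (R := k) x = 0 := by
    intro x hx
    exact (hJ x).mp hx 1 S.one_mem
  let bar : S → ((A ⧸ J.restrictScalars k) →ₗ[k] k) := fun f =>
    (J.restrictScalars k).liftQ (f : WithConv (A →ₗ[k] k)).ofConv
      (fun a ha => (hJ a).mp ha f f.2)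
  have hsep : ∀ b : A ⧸ J.restrictScalars k, (∀ φ ∈ Set.range bar, φ b = 0) → b = 0 := by
    intro b hb
    obtain ⟨a, rfl⟩ := (J.restrictScalars k).mkQ_surjective b
    rw [Submodule.mkQ_apply, Submodule.Quotient.mk_eq_zero]
    apply (hJ a).mpr
    intro f hf
    exact hb (bar ⟨f, hf⟩) ⟨_, rfl⟩
  have h3 : ∀ x ∈ J, TensorProduct.map (J.restrictScalars k).mkQ (J.restrictScalars k).mkQ
      (CoalgebraStruct.comul (R := k) x) = 0 := by
    intro x hx
    apply tensor_eq_zero_of_forall (Set.range bar) (Set.range bar) hsep hsep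
    rintro _ ⟨f, rfl⟩ _ ⟨g, rfl⟩
    have key : ∀ t : A ⊗[k] A, LinearMap.mul' k k (TensorProduct.map (bar f) (bar g)
        (TensorProduct.map (J.restrictScalars k).mkQ (J.restrictScalars k).mkQ t)) =
        LinearMap.mul' k k (TensorProduct.map (f : WithConv (A →ₗ[k] k)).ofConv
          (g : WithConv (A →ₗ[k] k)).ofConv t) := by
      intro t
      induction t using TensorProduct.induction_on with
      | zero => simp
      | tmul x y => rfl
      | add x y hx hy => simp only [map_add, hx, hy]
    rw [key]
    exact (hJ x).mp hx _ (S.mul_mem f.2 g.2)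
  exact { counit_eq_zero := fun x hx => h1 x hx
          map_mkQ_comul_eq_zero := fun x hx => h3 x hx
          antipode_mem := fun x hx => (hJ _).mpr (fun f hf => hS f hf x hx) }

/-- the ideal of elements killed by all powers of a primitive element of the dual -/
def annIdeal (v : CartDual.D k A)
    (hv : CoalgebraStruct.comul (R := k) v =
      v ⊗ₜ[k] (1 : CartDual.D k A) + (1 : CartDual.D k A) ⊗ₜ[k] v) : Ideal A where
  carrier := {a | ∀ n : ℕ, (v ^ n).ofConv a = 0}
  zero_mem' := fun n => map_zero _
  add_mem' := fun {a b} ha hb n => by rw [map_add, ha n, hb n, add_zero]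
  smul_mem' := fun c a ha n => by
    rw [smul_eq_mul, pow_apply_mul hv]
    apply Finset.sum_eq_zero
    intro ij _
    rw [ha ij.2, mul_zero, smul_zero]

lemma mem_annIdeal {v : CartDual.D k A}
    {hv : CoalgebraStruct.comul (R := k) v =
      v ⊗ₜ[k] (1 : CartDual.D k A) + (1 : CartDual.D k A) ⊗ₜ[k] v} {a : A} :
    a ∈ annIdeal v hv ↔ ∀ n : ℕ, (v ^ n).ofConv a = 0 := Iff.rfl

theorem isHopfIdeal_annIdeal (v : CartDual.D k A)
    (hv : CoalgebraStruct.comul (R := k) v =
      v ⊗ₜ[k] (1 : CartDual.D k A) + (1 : CartDual.D k A) ⊗ₜ[k] v) :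
    (annIdeal v hv).IsHopfIdeal k := by
  apply isHopfIdeal_of_perp (annIdeal v hv) (Submonoid.powers v)
  · intro a
    constructor
    · rintro ha _ ⟨n, rfl⟩
      exact ha n
    · intro h n
      exact h _ ⟨n, rfl⟩
  · rintro _ ⟨n, rfl⟩ a ha
    have h1 : (v ^ n).ofConv (HopfAlgebraStruct.antipode k a) =
        (HopfAlgebraStruct.antipode k (v ^ n)).ofConv a := rfl
    rw [h1, NC.antipode_pow_prim hv]
    rcases Nat.even_or_odd n with he | ho
    · rw [he.neg_pow v]
      exact ha n
    · rw [ho.neg_pow v, WithConv.ofConv_neg, LinearMap.neg_apply, ha n, neg_zero]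

end DualPrim

section Surj

variable {k : Type u} [Field k] {V : Type v} [AddCommGroup V] [Module k V]

/-- linearly independent functionals define a surjection onto `k ^ n` -/
lemma pi_surjective_of_linearIndependent {n : ℕ} (f : Fin n → Module.Dual k V)
    (hf : LinearIndependent k f) : Function.Surjective (LinearMap.pi f) := by
  classical
  rw [← LinearMap.dualMap_injective_iff, injective_iff_map_eq_zero]
  intro ψ hψ
  have h1 : ∑ i, ψ (Pi.single i 1) • f i = 0 := by
    apply LinearMap.ext
    intro a
    have h2 := LinearMap.congr_fun hψ a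
    rw [LinearMap.dualMap_apply] at h2
    have h3 : LinearMap.pi f a = ∑ i, f i a • (Pi.single i (1 : k) : Fin n → k) := by
      funext j
      rw [LinearMap.pi_apply, Finset.sum_apply]
      simp [Pi.single_apply]
    rw [h3, map_sum] at h2
    simp only [map_smul, smul_eq_mul] at h2
    rw [LinearMap.zero_apply] at h2
    rw [LinearMap.sum_apply, LinearMap.zero_apply, ← h2]
    refine Finset.sum_congr rfl fun i _ => ?_
    rw [LinearMap.smul_apply, smul_eq_mul, mul_comm]
  have h4 := Fintype.linearIndependent_iff.mp hf _ h1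
  apply LinearMap.pi_ext
  intro i x
  rw [LinearMap.zero_apply]
  have : (Pi.single i x : Fin n → k) = x • Pi.single i 1 := by
    rw [← Pi.single_smul, smul_eq_mul, mul_one]
  rw [this, map_smul, h4 i, smul_zero]

end Surj

section Order

variable {k : Type u} [Field k] (p : ℕ) [hp : Fact p.Prime] [CharP k p]
  {A : Type v} [CommRing A] [HopfAlgebra k A] [Module.Finite k A]

/-- the quotient by the annihilator of `k[v]`, `v` primitive with `v ^ p ∈ {0, v}`, has
dimension `p` -/
theorem finrank_quotient_annIdeal (v : CartDual.D k A)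
    (hv : CoalgebraStruct.comul (R := k) v =
      v ⊗ₜ[k] (1 : CartDual.D k A) + (1 : CartDual.D k A) ⊗ₜ[k] v)
    (hv0 : v ≠ 0) (hvp : v ^ p = 0 ∨ v ^ p = v) :
    Module.finrank k (A ⧸ annIdeal v hv) = p := by
  have hpow : ∀ n : ℕ, v ^ n ∈ Submodule.span k (Set.range fun i : Fin p => v ^ (i : ℕ)) := by
    intro n
    induction n using Nat.strong_induction_on with
    | _ n ih =>
      by_cases hn : n < p
      · exact Submodule.subset_span ⟨⟨n, hn⟩, rfl⟩
      · have hnp : n = (n - p) + p := by omega
        rcases hvp with h | h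
        · rw [hnp, pow_add, h, mul_zero]
          exact zero_mem _
        · rw [hnp, pow_add, h, ← pow_succ]
          exact ih _ (by have := hp.out.two_le; omega)
  have hli : LinearIndependent k (fun i : Fin p => v ^ (i : ℕ)) :=
    NC.linearIndependent_pow_of_prim p hv hv0 p le_rfl
  let f : Fin p → Module.Dual k A := fun i => (v ^ (i : ℕ)).ofConv
  have hf : LinearIndependent k f :=
    hli.map' (WithConv.linearEquiv k (A →ₗ[k] k)).toLinearMap (LinearEquiv.ker _)
  have hsurj := pi_surjective_of_linearIndependent f hf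
  have hker : (annIdeal v hv).restrictScalars k = LinearMap.ker (LinearMap.pi f) := by
    ext a
    rw [LinearMap.mem_ker, Submodule.restrictScalars_mem]
    constructor
    · intro ha
      funext i
      exact ha (i : ℕ)
    · intro ha n
      let evA : CartDual.D k A →ₗ[k] k :=
        (LinearMap.applyₗ a) ∘ₗ (WithConv.linearEquiv k (A →ₗ[k] k)).toLinearMap
      have hle : Submodule.span k (Set.range fun i : Fin p => v ^ (i : ℕ)) ≤
          LinearMap.ker evA := by
        apply Submodule.span_le.mpr
        rintro _ ⟨i, rfl⟩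
        exact congrFun ha i
      exact hle (hpow n)
  let e1 : (A ⧸ annIdeal v hv) ≃ₗ[k] (A ⧸ (annIdeal v hv).restrictScalars k) :=
    (Submodule.Quotient.restrictScalarsEquiv k (annIdeal v hv)).symm
  let e2 : (A ⧸ (annIdeal v hv).restrictScalars k) ≃ₗ[k] (A ⧸ LinearMap.ker (LinearMap.pi f)) :=
    Submodule.quotEquivOfEq _ _ hker
  let e3 : (A ⧸ LinearMap.ker (LinearMap.pi f)) ≃ₗ[k] (Fin p → k) :=
    (LinearMap.pi f).quotKerEquivOfSurjective hsurj
  rw [(e1.trans (e2.trans e3)).finrank_eq, Module.finrank_fin_fun]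

end Order

section Reduced

variable {k : Type u} [Field k] [IsAlgClosed k]

/-- in a reduced finite-dimensional bialgebra over an algebraically closed field, the counit is
cut out by an idempotent -/
lemma exists_idem_of_isReduced (C : Type v) [CommRing C] [Bialgebra k C] [Module.Finite k C]
    [IsReduced C] :
    ∃ e : C, CoalgebraStruct.counit (R := k) e = 1 ∧
      ∀ c : C, c * e = CoalgebraStruct.counit (R := k) c • e := by
  classical
  let ε₀ : C →ₐ[k] k := Bialgebra.counitAlgHom k C
  refine ⟨(gelfand k C).symm (Pi.single ε₀ 1), ?_, ?_⟩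
  · show ε₀ ((gelfand k C).symm (Pi.single ε₀ 1)) = 1
    rw [← gelfand_apply k C _ ε₀, AlgEquiv.apply_symm_apply, Pi.single_eq_same]
  · intro c
    apply (gelfand k C).injective
    rw [map_mul, map_smul, AlgEquiv.apply_symm_apply]
    funext χ
    rw [Pi.mul_apply, Pi.smul_apply, gelfand_apply]
    by_cases hχ : χ = ε₀
    · rw [hχ, Pi.single_eq_same, mul_one, smul_eq_mul, mul_one]
      rfl
    · rw [Pi.single_eq_of_ne hχ, mul_zero, smul_zero]

variable {A : Type v} [CommRing A] [HopfAlgebra k A] [Module.Finite k A]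

/-- a non-reduced finite Hopf algebra has a nonzero `ε`-derivation -/
theorem exists_leibniz_of_not_isReduced (hA : ¬ IsReduced A) :
    ∃ d : CartDual.D k A, d ≠ 0 ∧
      ∀ a b : A, d.ofConv (a * b) = d.ofConv a * CoalgebraStruct.counit (R := k) b +
        CoalgebraStruct.counit (R := k) a * d.ofConv b := by
  set I := RingHom.ker (Bialgebra.counitAlgHom k A) with hI
  have h1 : ¬ I ≤ I ^ 2 := fun h => hA (isReduced_of_le_sq (k := k) h)
  obtain ⟨x, hxI, hx2⟩ := Set.not_subset.mp h1
  have hx2' : x ∉ (I ^ 2).restrictScalars k := hx2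
  obtain ⟨f, hfx, hf⟩ := Submodule.exists_le_ker_of_notMem hx2'
  have hεx' : (Bialgebra.counitAlgHom k A) x = 0 := (RingHom.mem_ker).mp hxI
  have hεx : CoalgebraStruct.counit (R := k) x = 0 := hεx'
  let d0 : A →ₗ[k] k := f - f 1 • (CoalgebraStruct.counit (R := k) (A := A))
  have hd0 : ∀ a, d0 a = f a - f 1 * CoalgebraStruct.counit (R := k) a := fun a => rfl
  refine ⟨toConv d0, ?_, ?_⟩
  · intro h
    have h2 := congrArg (fun g : WithConv (A →ₗ[k] k) => g.ofConv x) h
    simp only [WithConv.ofConv_zero, LinearMap.zero_apply] at h2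
    rw [hd0, hεx, mul_zero, sub_zero] at h2
    exact hfx h2
  · intro a b
    rw [WithConv.ofConv_toConv, hd0, hd0, hd0]
    have hmem : (a - algebraMap k A (CoalgebraStruct.counit (R := k) a)) *
        (b - algebraMap k A (CoalgebraStruct.counit (R := k) b)) ∈ I ^ 2 := by
      rw [pow_two]
      apply Ideal.mul_mem_mul
      · rw [hI, RingHom.mem_ker, map_sub]
        show CoalgebraStruct.counit (R := k) a -
          CoalgebraStruct.counit (R := k) (algebraMap k A _) = 0
        rw [Bialgebra.counit_algebraMap, sub_self]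
      · rw [hI, RingHom.mem_ker, map_sub]
        show CoalgebraStruct.counit (R := k) b -
          CoalgebraStruct.counit (R := k) (algebraMap k A _) = 0
        rw [Bialgebra.counit_algebraMap, sub_self]
    have h3 : f ((a - algebraMap k A (CoalgebraStruct.counit (R := k) a)) *
        (b - algebraMap k A (CoalgebraStruct.counit (R := k) b))) = 0 := hf hmem
    have h4 : (a - algebraMap k A (CoalgebraStruct.counit (R := k) a)) *
        (b - algebraMap k A (CoalgebraStruct.counit (R := k) b)) =
        a * b - CoalgebraStruct.counit (R := k) b • a - CoalgebraStruct.counit (R := k) a • b +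
          (CoalgebraStruct.counit (R := k) a * CoalgebraStruct.counit (R := k) b) • (1 : A) := by
      rw [Algebra.smul_def, Algebra.smul_def, Algebra.smul_def, map_mul]
      ring
    rw [h4, map_add, map_sub, map_sub, map_smul, map_smul, map_smul, smul_eq_mul, smul_eq_mul,
      smul_eq_mul] at h3
    rw [Bialgebra.counit_mul]
    linear_combination h3

end Reduced

section Main

variable (k : Type u) [Field k] [IsAlgClosed k] (p : ℕ) [hp : Fact p.Prime] [CharP k p]
  (A : Type v) [CommRing A] [HopfAlgebra k A] [Module.Finite k A]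

/-- **a non-reduced finite group scheme over an algebraically closed field of characteristic `p`
contains `μ_p` or `α_p`** -/
theorem exists_surjective_mu_or_alpha (hA : ¬ IsReduced A) :
    (∃ f : A →ₐc[k] MonoidAlgebra k (Multiplicative (ZMod p)), Function.Surjective f) ∨
      (∃ f : A →ₐc[k] AlphaP.A p k, Function.Surjective f) := by
  obtain ⟨d, hd0, hdL⟩ := exists_leibniz_of_not_isReduced (k := k) hA
  obtain ⟨v, hvspan, hv0, hvp⟩ := exists_mem_span_pow_char (k := k) p d hd0
  let LP : Submodule k (CartDual.D k A) :=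
    { carrier := {g | ∀ a b : A, g.ofConv (a * b) =
        g.ofConv a * CoalgebraStruct.counit (R := k) b +
          CoalgebraStruct.counit (R := k) a * g.ofConv b}
      zero_mem' := by
        intro a b
        simp
      add_mem' := by
        intro g h hg hh a b
        rw [WithConv.ofConv_add, LinearMap.add_apply, LinearMap.add_apply, LinearMap.add_apply,
          hg, hh]
        ring
      smul_mem' := by
        intro c g hg a b
        rw [WithConv.ofConv_smul, LinearMap.smul_apply, LinearMap.smul_apply,
          LinearMap.smul_apply, hg, smul_eq_mul, smul_eq_mul, smul_eq_mul]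
        ring }
  have hvL : v ∈ LP := by
    refine Submodule.span_le.mpr ?_ hvspan
    rintro _ ⟨i, rfl⟩
    exact UnipLie.pow_char_pow_leibniz p d hdL i
  have hv := prim_of_leibniz v hvL
  have hK : (annIdeal v hv).IsHopfIdeal k := isHopfIdeal_annIdeal v hv
  have hfin : Module.finrank k (A ⧸ annIdeal v hv) = p :=
    finrank_quotient_annIdeal p v hv hv0 hvp
  have hnr : ¬ IsReduced (A ⧸ annIdeal v hv) := by
    intro hred
    obtain ⟨ebar, he1, he2⟩ := exists_idem_of_isReduced (k := k) (A ⧸ annIdeal v hv)
    obtain ⟨e, rfl⟩ := Ideal.Quotient.mk_surjective ebar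
    have he1' : CoalgebraStruct.counit (R := k) e = 1 := he1
    apply hv0
    apply WithConv.ofConv_injective
    apply LinearMap.ext
    intro c
    have h1 : c * e - CoalgebraStruct.counit (R := k) c • e ∈ annIdeal v hv := by
      rw [← Ideal.Quotient.eq_zero_iff_mem, map_sub, map_mul, sub_eq_zero]
      exact he2 (Ideal.Quotient.mk _ c)
    have h2 := h1 1
    rw [pow_one, map_sub, map_smul, hvL c e, he1', mul_one, smul_eq_mul] at h2
    rw [WithConv.ofConv_zero, LinearMap.zero_apply]
    linear_combination h2
  have hprime : (Module.finrank k (A ⧸ annIdeal v hv)).Prime := by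
    rw [hfin]; exact hp.out
  rcases isLocalRing_or_isReduced_of_prime (k := k) (A := A ⧸ annIdeal v hv) hprime with
    hloc | hred
  · rcases nonempty_bialgEquiv_of_isLocalRing k p (A ⧸ annIdeal v hv) hfin with ⟨⟨e⟩⟩ | ⟨⟨e⟩⟩
    · left
      refine ⟨(e : (A ⧸ annIdeal v hv) →ₐc[k] _).comp
        (Bialgebra.Quotient.mkBialgHom (annIdeal v hv)), ?_⟩
      exact e.surjective.comp Ideal.Quotient.mk_surjective
    · right
      refine ⟨(e : (A ⧸ annIdeal v hv) →ₐc[k] _).comp
        (Bialgebra.Quotient.mkBialgHom (annIdeal v hv)), ?_⟩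
      exact e.surjective.comp Ideal.Quotient.mk_surjective
  · exact absurd hred hnr

end Main

end Groth.Agent.H9.FinHopf
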