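import Mathlib
import Groth.Agent.Lib.Helper9.FinHopf.PrimeOrder

/-!
# The dual algebra of a finite group scheme of prime order over an algebraically closed field is
generated by one element (helper9)
-/

set_option autoImplicit false
set_option linter.unusedSectionVars false

universe u v

open TensorProduct WithConv

namespace Groth.Agent.H9.FinHopf

open Groth.Agent.H9 Groth.Agent.H9.SubHopf Groth.Agent.H9.CocommDiag

section Local

variable {k : Type u} [Field k] (p : ℕ) [hp : Fact p.Prime] [CharP k p]
  {A : Type v} [CommRing A] [HopfAlgebra k A] [Module.Finite k A] [IsLocalRing A]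

/-- the dual algebra of a connected group scheme of order `p` is generated by one element -/
theorem exists_span_pow_of_isLocalRing (hA : Module.finrank k A = p) :
    ∃ δ : WithConv (A →ₗ[k] k),
      Submodule.span k (Set.range fun i : Fin p => δ ^ (i : ℕ)) = ⊤ := by
  classical
  set I := RingHom.ker (Bialgebra.counitAlgHom k A) with hI
  have h1 : ∀ f : A, Bialgebra.counitAlgHom k A f = 0 → f ^ p = 0 :=
    fun f hf => pow_eq_zero_of_finrank_eq p hA hf
  have hcot := finrank_of_height_one p h1
  rw [hA] at hcot
  have hcot1 : Module.finrank k I.Cotangent = 1 := by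
    have h2 : p ^ 1 = p ^ Module.finrank k I.Cotangent := by rw [pow_one]; exact hcot
    exact (Nat.pow_right_injective hp.out.two_le h2).symm
  -- a functional on the cotangent space
  have hfinC : Module.Finite k I.Cotangent := CotGr.finite_cotangent
  have hntC : Nontrivial I.Cotangent := Module.nontrivial_of_finrank_pos (R := k) (by omega)
  obtain ⟨c0, hc0⟩ := exists_ne (0 : I.Cotangent)
  obtain ⟨l0, hl0⟩ : ∃ l : I.Cotangent →ₗ[k] k, l c0 ≠ 0 := by
    by_contra hcon
    push Not at hcon
    exact hc0 ((Module.forall_dual_apply_eq_zero_iff k c0).mp hcon)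
  obtain ⟨y0, hy0⟩ := Ideal.toCotangent_surjective _ c0
  set l : I.Cotangent →ₗ[k] k := (l0 c0)⁻¹ • l0 with hl
  have hl1 : l (I.toCotangent y0) = 1 := by
    rw [hy0, hl, LinearMap.smul_apply, smul_eq_mul, inv_mul_cancel₀ hl0]
  set x0 : A := (y0 : A) with hx0
  have hx0I : x0 ∈ I := y0.2
  set d : A →ₗ[k] k := CotGr.dOf l with hd
  set T : Derivation k A A := CotGr.DOf l with hT
  have hdx0 : d x0 = 1 := by
    rw [hd, CotGr.dOf_apply, CotGr.projI_of_mem hx0I]
    exact hl1
  have hεT : ∀ a : A, CoalgebraStruct.counit (R := k) (T a) = d a := fun a => CotGr.counit_DOf l a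
  have hTx0 : T x0 - 1 ∈ I := by
    rw [hI, RingHom.mem_ker, map_sub]
    show CoalgebraStruct.counit (R := k) (T x0) - CoalgebraStruct.counit (R := k) (1 : A) = 0
    rw [hεT, hdx0, Bialgebra.counit_one, sub_self]
  -- powers of `T` lower the `I`-adic filtration
  have hfil : ∀ (m j : ℕ) (y : A), y ∈ I ^ (m + j) → (T.toLinearMap ^ m) y ∈ I ^ j := by
    intro m
    induction m with
    | zero =>
      intro j y hy
      rw [pow_zero, Module.End.one_apply]
      rw [zero_add] at hy
      exact hy
    | succ m ih =>
      intro j y hy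
      rw [pow_succ, Module.End.mul_apply]
      apply ih
      have : m + 1 + j = (m + j) + 1 := by ring
      rw [this] at hy
      exact CotGr.derivation_mem_pow T I (m + j) y hy
  have hεI : ∀ y ∈ I, CoalgebraStruct.counit (R := k) y = 0 := by
    intro y hy
    have h2 : (Bialgebra.counitAlgHom k A) y = 0 := (RingHom.mem_ker).mp hy
    exact h2
  -- `ε (T^m x0^m) = m!`
  have hdiag : ∀ m : ℕ, CoalgebraStruct.counit (R := k) ((T.toLinearMap ^ m) (x0 ^ m)) =
      (m.factorial : k) := by
    intro m
    induction m with
    | zero =>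
      rw [pow_zero, pow_zero, Module.End.one_apply, Bialgebra.counit_one, Nat.factorial_zero,
        Nat.cast_one]
    | succ m ih =>
      rw [pow_succ, Module.End.mul_apply]
      have h2 : T.toLinearMap (x0 ^ (m + 1)) = (m + 1) • (x0 ^ m) + (m + 1) • (x0 ^ m * (T x0 - 1)) := by
        show T (x0 ^ (m + 1)) = _
        rw [Derivation.leibniz_pow, Nat.add_sub_cancel, smul_eq_mul, ← smul_add, mul_sub, mul_one,
          add_sub_cancel]
      rw [h2, map_add, map_nsmul, map_nsmul, map_add, map_nsmul, map_nsmul, ih]
      have h3 : x0 ^ m * (T x0 - 1) ∈ I ^ (m + 1) := by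
        rw [pow_succ]
        exact Ideal.mul_mem_mul (Ideal.pow_mem_pow hx0I m) hTx0
      have h4 := hfil m 1 _ h3
      rw [pow_one] at h4
      rw [hεI _ h4, smul_zero, add_zero, Nat.factorial_succ, Nat.cast_mul, nsmul_eq_mul]
  have hoff : ∀ i j : ℕ, i < j →
      CoalgebraStruct.counit (R := k) ((T.toLinearMap ^ i) (x0 ^ j)) = 0 := by
    intro i j hij
    have h2 : x0 ^ j ∈ I ^ (i + (j - i)) := by
      rw [Nat.add_sub_cancel' hij.le]
      exact Ideal.pow_mem_pow hx0I j
    have h3 := hfil i (j - i) _ h2
    exact hεI _ (Ideal.pow_le_self (by omega) h3)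
  -- the dual algebra
  set δ : WithConv (A →ₗ[k] k) := toConv d with hδ
  have hreg : PtsNilp.reg k A δ = T.toLinearMap := by
    apply LinearMap.ext
    intro a
    rfl
  have hpair : ∀ (i j : ℕ), (δ ^ i).ofConv (x0 ^ j) =
      CoalgebraStruct.counit (R := k) ((T.toLinearMap ^ i) (x0 ^ j)) := by
    intro i j
    rw [PtsNilp.apply_eq_counit_reg, map_pow (PtsNilp.reg k A) δ i, hreg]
  have hlin : LinearIndependent k (fun i : Fin p => δ ^ (i : ℕ)) := by
    rw [Fintype.linearIndependent_iff]
    intro c hc
    have hkey : ∀ n : ℕ, ∀ i : Fin p, p - n ≤ (i : ℕ) → c i = 0 := by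
      intro n
      induction n with
      | zero =>
        intro i hi
        have := i.2
        omega
      | succ n ih =>
        intro i hi
        by_cases hi' : p - n ≤ (i : ℕ)
        · exact ih i hi'
        · have h2 := congrArg (fun φ : WithConv (A →ₗ[k] k) => φ.ofConv (x0 ^ (i : ℕ))) hc
          simp only [WithConv.ofConv_sum, WithConv.ofConv_smul, LinearMap.sum_apply,
            LinearMap.smul_apply, WithConv.ofConv_zero, LinearMap.zero_apply] at h2
          rw [Finset.sum_eq_single i] at h2
          · rw [hpair, hdiag, smul_eq_mul] at h2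
            have h3 : ((i : ℕ).factorial : k) ≠ 0 := by
              intro h4
              have h5 := (CharP.cast_eq_zero_iff k p _).mp h4
              have h6 := (hp.out.dvd_factorial).mp h5
              have := i.2
              omega
            exact (mul_eq_zero.mp h2).resolve_right h3
          · intro j _ hji
            rcases lt_or_gt_of_ne (fun h => hji (Fin.ext h)) with hlt | hgt
            · rw [hpair, hoff _ _ hlt, smul_zero]
            · have : c j = 0 := ih j (by omega)
              rw [this, zero_smul]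
          · intro h
            exact absurd (Finset.mem_univ i) h
    intro i
    exact hkey p i (by omega)
  -- commutativity
  have hfinD : Module.Finite k (WithConv (A →ₗ[k] k)) :=
    Module.Finite.equiv (WithConv.linearEquiv k (A →ₗ[k] k)).symm
  have hdimD : Module.finrank k (WithConv (A →ₗ[k] k)) = p := by
    rw [(WithConv.linearEquiv k (A →ₗ[k] k)).finrank_eq, ← hA]
    exact Subspace.dual_finrank_eq
  have hspan : Submodule.span k (Set.range fun i : Fin p => δ ^ (i : ℕ)) = ⊤ :=
    hlin.span_eq_top_of_card_eq_finrank' (by rw [Fintype.card_fin, hdimD])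
  exact ⟨δ, hspan⟩

end Local

section Etale

variable {k : Type u} [Field k] [IsAlgClosed k] {A : Type v} [CommRing A] [HopfAlgebra k A]
  [Module.Finite k A] [IsReduced A]

/-- points as elements of the dual algebra -/
noncomputable def ptDual (g : WithConv (A →ₐ[k] k)) : WithConv (A →ₗ[k] k) :=
  toConv g.ofConv.toLinearMap

lemma ptDual_mul (g h : WithConv (A →ₐ[k] k)) : ptDual (g * h) = ptDual g * ptDual h := by
  apply WithConv.ext
  apply LinearMap.ext
  intro a
  show (g * h).ofConv a = (ptDual g * ptDual h).ofConv a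
  rw [convMul_ofConv_apply, LinearMap.convMul_apply]
  rfl

lemma ptDual_one : ptDual (1 : WithConv (A →ₐ[k] k)) = 1 := by
  apply WithConv.ext
  apply LinearMap.ext
  intro a
  show (1 : WithConv (A →ₐ[k] k)).ofConv a = (1 : WithConv (A →ₗ[k] k)).ofConv a
  rw [LinearMap.convOne_apply]
  rfl

lemma ptDual_pow (g : WithConv (A →ₐ[k] k)) (n : ℕ) : ptDual (g ^ n) = ptDual g ^ n := by
  induction n with
  | zero => rw [pow_zero, pow_zero, ptDual_one]
  | succ n ih => rw [pow_succ, pow_succ, ptDual_mul, ih]

/-- the dual algebra of a finite étale group scheme of prime order is generated by one element -/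
theorem exists_span_pow_of_isReduced (p : ℕ) (hp : p.Prime) (hA : Module.finrank k A = p) :
    ∃ δ : WithConv (A →ₗ[k] k),
      Submodule.span k (Set.range fun i : Fin p => δ ^ (i : ℕ)) = ⊤ := by
  classical
  have hcard : Nat.card (WithConv (A →ₐ[k] k)) = p := by
    rw [← hA, ← EtaleUnip.card_points (K := k) (B := A)]
    exact Nat.card_congr (WithConv.equiv _)
  have hfact : Fact p.Prime := ⟨hp⟩
  have hcyc : IsCyclic (WithConv (A →ₐ[k] k)) := isCyclic_of_prime_card hcard
  obtain ⟨g, hg⟩ := hcyc.exists_generator
  have hfin : Finite (WithConv (A →ₐ[k] k)) := Nat.finite_of_card_ne_zero (by rw [hcard]; exact hp.ne_zero)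
  have hord : orderOf g = p := by
    rw [orderOf_eq_card_of_forall_mem_zpowers hg, hcard]
  refine ⟨ptDual g, ?_⟩
  have hinj : Function.Injective (fun i : Fin p => (g ^ (i : ℕ)).ofConv) := by
    intro i j hij
    have h1 : g ^ (i : ℕ) = g ^ (j : ℕ) := WithConv.ofConv_injective hij
    have h2 := (pow_inj_mod (x := g)).mp h1
    rw [hord, Nat.mod_eq_of_lt i.2, Nat.mod_eq_of_lt j.2] at h2
    exact Fin.ext h2
  have hli0 : LinearIndependent k (fun i : Fin p => ((g ^ (i : ℕ)).ofConv.toLinearMap)) :=
    (linearIndependent_algHom_toLinearMap k A k).comp _ hinj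
  have hli : LinearIndependent k (fun i : Fin p => ptDual g ^ (i : ℕ)) := by
    have h1 : (fun i : Fin p => ptDual g ^ (i : ℕ)) =
        (WithConv.linearEquiv k (A →ₗ[k] k)).symm ∘
          (fun i : Fin p => ((g ^ (i : ℕ)).ofConv.toLinearMap)) := by
      funext i
      rw [← ptDual_pow]
      rfl
    rw [h1]
    exact hli0.map' _ (LinearEquiv.ker _)
  have hfinD : Module.Finite k (WithConv (A →ₗ[k] k)) :=
    Module.Finite.equiv (WithConv.linearEquiv k (A →ₗ[k] k)).symm
  have hdimD : Module.finrank k (WithConv (A →ₗ[k] k)) = p := by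
    rw [(WithConv.linearEquiv k (A →ₗ[k] k)).finrank_eq, ← hA]
    exact Subspace.dual_finrank_eq
  exact hli.span_eq_top_of_card_eq_finrank' (by rw [Fintype.card_fin, hdimD])

end Etale

section Main

variable (k : Type u) (A : Type v) [Field k] [IsAlgClosed k] [CommRing A] [HopfAlgebra k A]
  [Module.Finite k A]

/-- **the dual algebra of a group scheme of prime order is generated by one element** -/
theorem exists_span_pow_eq_top (p : ℕ) (hp : p.Prime) (hA : Module.finrank k A = p) :
    ∃ δ : WithConv (A →ₗ[k] k),
      Submodule.span k (Set.range fun i : Fin p => δ ^ (i : ℕ)) = ⊤ := by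
  have hp' : (Module.finrank k A).Prime := by rw [hA]; exact hp
  rcases isLocalRing_or_isReduced_of_prime (k := k) hp' with hloc | hred
  · -- connected
    obtain ⟨n, hn⟩ := exists_finrank_eq_ringExpChar_pow k A
    rw [hA] at hn
    obtain ⟨q, hq⟩ := CharP.exists k
    rcases CharP.char_is_prime_or_zero k q with hqp | h0
    · have hexp : ExpChar k q := ExpChar.prime hqp
      have h1 : ringExpChar k = q := ringExpChar.eq k q
      rw [h1] at hn
      have h2 := (Nat.Prime.pow_eq_iff hp).mp hn.symm
      obtain ⟨rfl, -⟩ := h2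
      have hfact : Fact q.Prime := ⟨hp⟩
      exact exists_span_pow_of_isLocalRing q hA
    · subst h0
      have hz : CharZero k := CharP.charP_to_charZero k
      have h1 : ringExpChar k = 1 := ringExpChar.eq_one k
      rw [h1, one_pow] at hn
      exact absurd hn hp.one_lt.ne'
  · exact exists_span_pow_of_isReduced p hp hA

end Main

end Groth.Agent.H9.FinHopf
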